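import Cfsg.Agent.Omega.FF.GlobProd

/-!
# The FF-theorem, global part: summary of (A)-(G)

`Out0 V T k A B`: the members `A i` of `D` in `T`, `L i = A i ⊔ B i ≅ SL₂(q)`.
-/

set_option autoImplicit false
set_option linter.unusedSectionVars false

namespace Cfsg.Agent.Omega.FF.Glob

open Subgroup Cfsg.Agent.ClassTwoFusion.Quad Cfsg.Agent.LieClassical Matrix
open scoped Pointwise

variable {H V : Type*} [Group H] [Group V] [MulDistribMulAction H V]

/-- the structure of `H` for `q > 2` (without the statement on offenders) -/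
structure Out0 (V : Type*) [Group V] [MulDistribMulAction H V] (T : Sylow 2 H) (k : ℕ) (A B : Fin k → Subgroup H) :
    Prop where
  comm : ∀ v w : V, v * w = w * v
  sq : ∀ v : V, v * v = 1
  faith : ∀ x : H, (∀ v : V, x • v = v) → x = 1
  core : ∀ N : Subgroup H, N.Normal → IsPGroup 2 N → N = ⊥
  noover : ∀ E : Subgroup H, (∀ x ∈ E, x * x = 1) → Nat.card E ≤ (cv V (E : Set H)).index
  nat : ∀ i, Nat2 V (A i) (B i)
  le : ∀ i, A i ≤ T
  card4 : ∀ i, 4 ≤ Nat.card (A i)
  card_eq : ∀ i j, Nat.card (A i) = Nat.card (A j)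
  LL : ∀ i j, i ≠ j → ∀ x ∈ A i ⊔ B i, ∀ y ∈ A j ⊔ B j, x * y = y * x
  mod : ∀ i j, i ≠ j → ∀ x ∈ A i ⊔ B i, ∀ y ∈ A j ⊔ B j, ∀ v : V, y • (d x v) = d x v
  cjL : ∀ g : H, ∀ i, ∃ j, cj g (A i ⊔ B i) = A j ⊔ B j
  cjA : ∀ t ∈ T, ∀ i, ∃ j, cj t (A i) = A j
  trans : ∀ i j, ∃ t ∈ T, cj t (A i) = A j
  inj : Function.Injective A
  gen : ∀ K : Subgroup H, (T : Subgroup H) ≤ K → (∀ i, A i ⊔ B i ≤ K) → K = ⊤

namespace Loc

variable {T : Sylow 2 H} {M : Subgroup H} {D : Set (Subgroup H)} {q : ℕ} {Q : Subgroup H} (h : Loc V T M D q Q)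
include h

theorem exists_out [Finite H] [Finite V] (hq : 2 < q) : ∃ (k : ℕ) (A B : Fin k → Subgroup H), 0 < k ∧
    Out0 V T k A B ∧ (∀ i, A i ∈ D) ∧ (∀ i, Nat.card (A i) = q) ∧ ∀ F ∈ D, F ≤ (T : Subgroup H) → ∃ i, A i = F := by
  classical
  obtain ⟨⟨F₀, hF₀, hF₀T⟩, htr, hfam⟩ := h.family
  obtain ⟨k, ⟨e⟩⟩ := Finite.exists_equiv_fin {F : Subgroup H | F ∈ D ∧ F ≤ (T : Subgroup H)}
  have hex : ∀ i : Fin k, ∃ B, Th D (QQ D T (e.symm i).1) B ∧ (e.symm i).1 ≠ B := fun i =>
    (hfam _ (e.symm i).2.1 (e.symm i).2.2).1.exists_ne_th (hfam _ (e.symm i).2.1 (e.symm i).2.2).2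
  choose B hB hne using hex
  have hk : 0 < k := by
    have := (e ⟨F₀, hF₀, hF₀T⟩).2
    omega
  have hl : ∀ i, Loc V T M D q (QQ D T (e.symm i).1) := fun i => (hfam _ (e.symm i).2.1 (e.symm i).2.2).1
  have ht : ∀ i, Th D (QQ D T (e.symm i).1) (e.symm i).1 := fun i => (hfam _ (e.symm i).2.1 (e.symm i).2.2).2
  have hL : ∀ i, (e.symm i).1 ⊔ B i = LL D (QQ D T (e.symm i).1) := fun i =>
    ((hl i).LL_eq (ht i) (hB i) (hne i)).symm
  have hinj : Function.Injective fun i => (e.symm i).1 := fun i j hij => e.symm.injective (Subtype.ext hij)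
  have hsurj : ∀ F ∈ D, F ≤ (T : Subgroup H) → ∃ i, (e.symm i).1 = F := fun F hF hFT =>
    ⟨e ⟨F, hF, hFT⟩, by rw [e.symm_apply_apply]⟩
  have hcardq : ∀ i, Nat.card (e.symm i).1 = q := fun i => h.card _ (e.symm i).2.1
  have hcjT : ∀ t ∈ T, ∀ i, ∃ j, cj t (e.symm i).1 = (e.symm j).1 := by
    intro t ht' i
    obtain ⟨j, hj⟩ := hsurj (cj t (e.symm i).1) (h.Dcj _ (e.symm i).2.1 t)
      (by rw [cj_le_iff, cj_eq_of_mem (inv_mem ht')]; exact (e.symm i).2.2)
    exact ⟨j, hj.symm⟩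
  have hLL : ∀ i j, i ≠ j → ∀ x ∈ (e.symm i).1 ⊔ B i, ∀ y ∈ (e.symm j).1 ⊔ B j, x * y = y * x := by
    intro i j hij
    rw [hL, hL]
    exact h.comm_LL hq (e.symm i).2.1 (e.symm i).2.2 (e.symm j).2.1 (e.symm j).2.2 fun h1 => hij (hinj h1)
  refine ⟨k, fun i => (e.symm i).1, B, hk, ?_, fun i => (e.symm i).2.1, hcardq, hsurj⟩
  exact
    { comm := h.comm
      sq := h.sq
      faith := h.faith
      core := h.core
      noover := h.noover
      nat := fun i => (hl i).nat2' (ht i) (hB i) (hne i)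
      le := fun i => (e.symm i).2.2
      card4 := fun i => by
        show 4 ≤ Nat.card (e.symm i).1
        rw [hcardq]
        obtain ⟨n, hn⟩ := h.pow_two_of_q (e.symm i).2.1
        have hn2 : 2 ≤ n := by
          by_contra hcon
          have : n = 0 ∨ n = 1 := by omega
          rcases this with rfl | rfl
          · rw [pow_zero] at hn; omega
          · rw [pow_one] at hn; omega
        rw [hn]
        calc 4 = 2 ^ 2 := by norm_num
          _ ≤ 2 ^ n := Nat.pow_le_pow_right (by norm_num) hn2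
      card_eq := fun i j => by
        show Nat.card (e.symm i).1 = Nat.card (e.symm j).1
        rw [hcardq, hcardq]
      LL := hLL
      mod := by
        intro i j hij
        show ∀ x ∈ (e.symm i).1 ⊔ B i, ∀ y ∈ (e.symm j).1 ⊔ B j, ∀ v : V, y • (d x v) = d x v
        rw [hL, hL]
        intro x hx y hy v
        exact h.d_LL hq (e.symm j).2.1 (e.symm j).2.2 (e.symm i).2.1 (e.symm i).2.2 (fun h1 => hij (hinj h1).symm)
          x hx v y hy
      cjL := by
        intro g i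
        show ∃ j, cj g ((e.symm i).1 ⊔ B i) = (e.symm j).1 ⊔ B j
        have hg : g ∈ XX D T ⊔ T := by rw [h.XX_sup]; trivial
        have : (XX D T).Normal := h.XX_normal
        obtain ⟨x, hx, t, ht', rfl⟩ := Subgroup.mem_sup_of_normal_left.1 hg
        have hXn : ∀ j, XX D T ≤ normalizer (((e.symm j).1 ⊔ B j : Subgroup H) : Set H) := by
          intro j
          apply sSup_le
          rintro _ ⟨F, hF, hFT, rfl⟩
          obtain ⟨l, rfl⟩ := hsurj F hF hFT
          rw [← hL]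
          by_cases hlj : l = j
          · rw [hlj]; exact le_normalizer
          · intro y hy
            rw [← cj_eq_iff]
            exact cj_of_comm fun z hz => hLL l j hlj y hy z hz
        obtain ⟨j, hj⟩ := hcjT t ht' i
        refine ⟨j, ?_⟩
        rw [← cj_cj, hL i, h.cj_LL ht', hj, ← hL j]
        exact cj_eq_iff.2 (hXn j hx)
      cjA := hcjT
      trans := fun i j => by
        obtain ⟨t, ht', h1⟩ := htr _ (e.symm i).2.1 (e.symm i).2.2 _ (e.symm j).2.1 (e.symm j).2.2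
        exact ⟨t, ht', h1.symm⟩
      inj := hinj
      gen := by
        intro K hTK hK
        rw [eq_top_iff, ← h.XX_sup]
        apply sup_le _ hTK
        apply sSup_le
        rintro _ ⟨F, hF, hFT, rfl⟩
        obtain ⟨i, rfl⟩ := hsurj F hF hFT
        rw [← hL]
        exact hK i }

end Loc

end Cfsg.Agent.Omega.FF.Glob
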