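import Cfsg.Agent.Omega.FF.ToLoc
import Cfsg.Agent.Omega.FFBr.Def

/-!
# THEOREM FF, PART 1: the local theorem

`exists_loc`: in the abstract situation of the FF theorem (`Abs`), if there is an offender, there are `𝒟`, `q`, `Q`
with `Glob.Loc V T M 𝒟 q Q`.
-/

set_option autoImplicit false
set_option linter.unusedSectionVars false
set_option linter.unusedVariables false

namespace Cfsg.Agent.Omega.FF.ToLoc

open Cfsg.Agent.Omega.FF.Basic Cfsg.Agent.Omega.FF.Setup Cfsg.Agent.Omega.FF.Conf
open Cfsg.Agent.ClassTwoFusion.Quad Cfsg.Agent.Omega.FFBr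

section

variable {X V : Type*} [Group X] [CommGroup V] [MulDistribMulAction X V] [Finite X] [Finite V]

attribute [local instance] addAct

theorem exists_hyp {T : Sylow 2 X} {M : Subgroup X} (h : Abs X V T M) (hoff : ∃ A : Subgroup X, AOff V A) :
    ∃ 𝒟 : Set (Subgroup X), Hyp (Additive V) 𝒟 := by
  obtain ⟨A₀, hA₀⟩ := hoff
  have h2 : ∀ v : Additive V, v + v = 0 := fun v => h.sq (Additive.toMul v)
  obtain ⟨A, hEA, hne, hmax, hmin⟩ := Quad.exists_min (V := Additive V) A₀ hA₀.sq hA₀.ne (le_mm hA₀.le)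
  have hmax' : ∀ g : X, ∀ E : Subgroup X, EA E → mm (Additive V) E ≤ mm (Additive V) (cj g A) := by
    intro g E hE
    rw [mm_cj]; exact hmax E hE
  have hne' : ∀ g : X, cj g A ≠ ⊥ := by
    intro g e
    apply hne
    rw [← cj_bot g] at e
    exact cj_inj e
  have hmin' : ∀ g : X, ∀ F < cj g A, F ≠ ⊥ → mm (Additive V) F < mm (Additive V) (cj g A) := by
    intro g F hF hF0
    rw [mm_cj, ← mm_cj g⁻¹ F]
    apply hmin
    · rw [lt_iff_le_and_ne] at hF ⊢
      refine ⟨?_, ?_⟩
      · have := cj_mono g⁻¹ hF.1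
        rwa [cj_inv_cj] at this
      · intro e
        apply hF.2
        rw [← e, cj_cj_inv]
    · intro e
      apply hF0
      rw [← cj_bot g⁻¹] at e
      exact cj_inj e
  refine ⟨{B | ∃ g : X, cj g A = B}, ?_⟩
  exact
  { h2 := h2
    faith := fun x hx => h.faith x fun v => hx (Additive.ofMul v)
    o2 := h.core
    mp := by
      intro T'
      obtain ⟨g, hg⟩ := MulAction.exists_smul_eq X T T'
      refine ⟨cj g M, ?_, ?_⟩
      · intro e
        apply h.Mne
        rw [← cj_top g] at e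
        exact cj_inj e
      · intro H hTH hH
        have h1 : (T : Subgroup X) ≤ cj g⁻¹ H := by
          have h3 := cj_mono g⁻¹ hTH
          rw [← hg, coe_smul, cj_inv_cj] at h3
          exact h3
        have h4 : cj g⁻¹ H ≤ M := by
          refine (h.max _ h1).resolve_right ?_
          intro e
          apply hH
          rw [← cj_top g⁻¹] at e
          exact cj_inj e
        have h5 := cj_mono g h4
        rwa [cj_cj_inv] at h5
    vec := by
      intro T'
      obtain ⟨g, hg⟩ := MulAction.exists_smul_eq X T T'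
      obtain ⟨v, hv, x, hx⟩ := h.nfix
      have hv' : Additive.ofMul v ∈ fx (Additive V) (T : Subgroup X) := hv
      refine ⟨g • Additive.ofMul v, ?_, ?_⟩
      · rw [← hg, coe_smul]
        exact smul_mem_fx_cj hv'
      · intro hcon
        apply hx
        have h1 := hcon (g * x * g⁻¹) (Subgroup.mem_top _)
        rw [smul_smul, inv_mul_cancel_right, mul_smul] at h1
        exact smul_left_cancel g h1
    conj := by
      rintro _ ⟨g, rfl⟩ k
      exact ⟨k * g, (cj_cj k g A).symm⟩
    tr := by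
      rintro _ ⟨g, rfl⟩ _ ⟨k, rfl⟩
      refine ⟨k * g⁻¹, ?_⟩
      rw [cj_cj, inv_mul_cancel_right]
    ne := ⟨A, 1, cj_one A⟩
    ea := by
      rintro _ ⟨g, rfl⟩
      exact EA.cj hEA g
    nb := by
      rintro _ ⟨g, rfl⟩
      exact hne' g
    max := by
      rintro _ ⟨g, rfl⟩
      exact hmax' g
    min := by
      rintro _ ⟨g, rfl⟩
      exact hmin' g
    quad := by
      rintro _ ⟨g, rfl⟩
      exact Quad.quad h2 (EA.cj hEA g) (hne' g) (hmax' g) (hmin' g) }

theorem exists_loc_comm {T : Sylow 2 X} {M : Subgroup X} (h : Abs X V T M) (hoff : ∃ A : Subgroup X, AOff V A) :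
    ∃ (𝒟 : Set (Subgroup X)) (q : ℕ) (Q : Subgroup X), Glob.Loc V T M 𝒟 q Q := by
  obtain ⟨𝒟, hyp⟩ := exists_hyp h hoff
  obtain ⟨D, c⟩ := exists_cfg hyp
  obtain ⟨q, hq⟩ := loc_of hyp c h.TM h.Mne h.max
  exact ⟨𝒟, q, D, hq⟩

end

/-- **THEOREM FF, PART 1.** -/
theorem exists_loc {X V : Type*} [Group X] [Group V] [MulDistribMulAction X V] [Finite X] [Finite V]
    {T : Sylow 2 X} {M : Subgroup X} (h : Abs X V T M) (hoff : ∃ A : Subgroup X, AOff V A) :
    ∃ (𝒟 : Set (Subgroup X)) (q : ℕ) (Q : Subgroup X), Glob.Loc V T M 𝒟 q Q := by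
  let _ : CommGroup V := { (inferInstance : Group V) with mul_comm := h.comm }
  exact exists_loc_comm h hoff

end Cfsg.Agent.Omega.FF.ToLoc
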