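import Cfsg.Agent.Omega.FF.GlobEq

/-!
# The FF-theorem, global part (D), (E): the members of `D` in `T`

`DT D T`: the members of `D` in `T`; `QQ D T F`: the group generated by the others; `Loc` holds for every `QQ D T F`, and
`T` is transitive on the members of `D` in `T`.
-/

set_option autoImplicit false
set_option linter.unusedSectionVars false

namespace Cfsg.Agent.Omega.FF.Glob

open Subgroup Cfsg.Agent.ClassTwoFusion.Quad Cfsg.Agent.LieClassical Matrix
open scoped Pointwise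

variable {H V : Type*} [Group H] [Group V] [MulDistribMulAction H V]

section Cj

theorem smul_fix_cj {g : H} {A : Subgroup H} {v : V} : (∀ x ∈ cj g A, x • v = v) ↔ ∀ a ∈ A, a • (g⁻¹ • v) = g⁻¹ • v := by
  constructor
  · intro h1 a ha
    have h2 := h1 _ (conj_mem_cj (g := g) ha)
    have h3 := congrArg (fun w => g⁻¹ • w) h2
    simp only [← mul_smul] at h3
    have e : g⁻¹ * (g * a * g⁻¹) = a * g⁻¹ := by group
    rw [e, mul_smul] at h3
    exact h3
  · intro h1 x hx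
    have h2 := h1 _ (mem_cj.1 hx)
    have h3 := congrArg (fun w => g • w) h2
    simp only [← mul_smul] at h3
    have e : g * (g⁻¹ * x * g * g⁻¹) = x := by group
    rw [e, mul_inv_cancel, one_smul] at h3
    exact h3

theorem _root_.Cfsg.Agent.Omega.FF.Glob.NatAt.toCj {A B : Subgroup H} {F : Type} [Field F] {π : V → (Fin 2 → F)}
    {φ : ↥(A ⊔ B) →* Matrix.SpecialLinearGroup (Fin 2) F} (h : NatAt A B π φ) (g : H) :
    NatAt (Glob.cj g A) (Glob.cj g B) (fun v => π (g⁻¹ • v))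
      (φ.comp ((MulEquiv.subgroupCongr (cj_sup g A B).symm).trans (cjEquiv g (A ⊔ B))).toMonoidHom) := by
  let e : ↥(Glob.cj g A ⊔ Glob.cj g B) ≃* ↥(A ⊔ B) :=
    (MulEquiv.subgroupCongr (cj_sup g A B).symm).trans (cjEquiv g (A ⊔ B))
  have he : ∀ x, ((e x : ↥(A ⊔ B)) : H) = g⁻¹ * x * g := fun x => rfl
  have hmem : ∀ (C : Subgroup H) (x : ↥(Glob.cj g A ⊔ Glob.cj g B)), (x : H) ∈ Glob.cj g C ↔ (e x : H) ∈ C := by
    intro C x
    rw [he, mem_cj]
  exact
    { mul := fun v w => by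
        show π (g⁻¹ • (v * w)) = _
        rw [smul_mul', h.mul]
      surj := fun z => by
        obtain ⟨v, rfl⟩ := h.surj z
        exact ⟨g • v, by show π (g⁻¹ • g • v) = π v; rw [inv_smul_smul]⟩
      ker := fun v => by
        show π (g⁻¹ • v) = 0 ↔ _
        rw [h.ker, ← cj_sup, smul_fix_cj]
      kerA := fun v => by
        show π (g⁻¹ • v) 1 = 0 ↔ _
        rw [h.kerA, smul_fix_cj]
      kerB := fun v => by
        show π (g⁻¹ • v) 0 = 0 ↔ _
        rw [h.kerB, smul_fix_cj]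
      act := fun x v => by
        show π (g⁻¹ • (x : H) • v) = (φ (e x)).1.mulVec (π (g⁻¹ • v))
        rw [← h.act, he, ← mul_smul, ← mul_smul]
        congr 2
        group
      bij := h.bij.comp e.bijective
      memA := fun x => by
        rw [hmem, h.memA]; rfl
      memB := fun x => by
        rw [hmem, h.memB]; rfl }

theorem _root_.Cfsg.Agent.Omega.FF.Glob.Nat2.cj {A B : Subgroup H} (h : Nat2 V A B) (g : H) :
    Nat2 V (Glob.cj g A) (Glob.cj g B) := by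
  obtain ⟨F, hF, hFt, π, φ, hn⟩ := h
  exact ⟨F, hF, hFt, _, _, hn.toCj g⟩

end Cj

namespace Loc

variable {T : Sylow 2 H} {M : Subgroup H} {D : Set (Subgroup H)} {q : ℕ} {Q : Subgroup H} (h : Loc V T M D q Q)
include h

theorem th_cj_iff {g : H} {A : Subgroup H} : Th D (cj g Q) A ↔ Th D Q (cj g⁻¹ A) := by
  have key : ∀ (k : H) (Q' A : Subgroup H), Th D Q' A → Th D (cj k Q') (cj k A) := by
    intro k Q' A hA
    refine ⟨h.Dcj A hA.mem k, ?_, ?_⟩
    · rw [normalizer_cj]; exact cj_mono hA.norm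
    · rw [cj_le_cj_iff]; exact hA.nle
  constructor
  · intro h1
    have := key g⁻¹ _ _ h1
    rwa [cj_inv_cj] at this
  · intro h1
    have := key g _ _ h1
    rwa [cj_cj_inv] at this

theorem opp_cj_iff {g : H} {A B : Subgroup H} : Opp M (cj g Q) A B ↔ Opp M Q (cj g⁻¹ A) (cj g⁻¹ B) := by
  constructor
  · intro h1 k h2 h3 h4
    rw [cj_le_iff, cj_cj, inv_inv] at h2 h3
    exact h1 _ h2 h3 (by rw [← cj_cj]; exact cj_mono h4)
  · intro h1 k h2 h3 h4
    refine h1 (g⁻¹ * k) ?_ ?_ ?_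
    · rw [← cj_cj]; exact cj_mono h2
    · rw [← cj_cj]; exact cj_mono h3
    · rw [← cj_cj, ← cj_le_iff]
      exact h4

/-- `Loc` for a conjugate of `Q` -/
theorem cjQ (g : H) : Loc V T M D q (cj g Q) where
  comm := h.comm
  sq := h.sq
  faith := h.faith
  core := h.core
  TM := h.TM
  Mne := h.Mne
  max := h.max
  nfix := h.nfix
  two_le := h.two_le
  Dcj := h.Dcj
  card := h.card
  idx := h.idx
  sqA := h.sqA
  ti := h.ti
  quad := h.quad
  noover := h.noover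
  comm4 := h.comm4
  Qgen := fun K hK => by
    rw [cj_le_iff]
    apply h.Qgen
    intro A hA hAQ
    rw [← cj_le_iff]
    exact hK _ (h.Dcj A hA g) (cj_mono hAQ)
  Q2 := isPGroup_cj h.Q2
  uniq := fun A hA k l h1 h2 h3 h4 => by
    rw [h.th_cj_iff] at hA
    have h5 := h.uniq _ hA (g⁻¹ * k) (g⁻¹ * l) (by rw [← cj_cj]; exact cj_mono h1)
      (by rw [← cj_cj, ← cj_le_iff]; exact h2) (by rw [← cj_cj]; exact cj_mono h3)
      (by rw [← cj_cj, ← cj_le_iff]; exact h4)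
    rw [← cj_cj, ← cj_cj] at h5
    exact cj_inj h5
  two := by
    obtain ⟨A, B, hA, hB, hAB⟩ := h.two
    refine ⟨cj g A, cj g B, ?_, ?_, ?_⟩
    · rw [h.th_cj_iff, cj_inv_cj]; exact hA
    · rw [h.th_cj_iff, cj_inv_cj]; exact hB
    · rw [h.opp_cj_iff, cj_inv_cj, cj_inv_cj]; exact hAB
  pair := fun A B hA hB hAB => by
    rw [h.th_cj_iff] at hA hB
    rw [h.opp_cj_iff] at hAB
    obtain ⟨h1, h2⟩ := h.pair _ _ hA hB hAB
    constructor
    · have h3 := h1.cj g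
      rwa [cj_cj_inv, cj_cj_inv] at h3
    · intro a ha x hx
      have h3 := h2 (g⁻¹ * a * g) (by rw [mem_cj, inv_inv]; simpa [mul_assoc] using ha) _ (mem_cj.1 hx)
      have h4 := congrArg (fun y => g * y * g⁻¹) h3
      simpa [mul_assoc] using h4

/-! ### (D) -/

theorem mem_of_le [Finite H] [Finite V] {S A F : Subgroup H} (hS : IsPGroup 2 S) (hA : Th D Q A) (hAS : A ≤ S)
    (hQS : Q ≤ S) (hF : F ∈ D) (hFS : F ≤ S) : F ≤ Q ∨ F = A := by
  by_contra hc
  push Not at hc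
  have h1 : Q ≤ centralizer (F : Set H) := by
    apply h.Qgen
    intro A'' hA'' hA''Q x hx
    rw [mem_centralizer_iff]
    intro f hf
    exact h.comm4 F hF A'' hA'' S hS hFS (hA''Q.trans hQS) f hf x hx
  have hFn : F ≤ normalizer (Q : Set H) := by
    intro f hf
    rw [← cj_eq_iff]
    apply cj_of_comm
    intro x hx
    exact mem_centralizer_iff.1 (h1 hx) f hf
  have hTh : Th D Q F := ⟨hF, hFn, hc.1⟩
  apply hc.2
  apply h.same_eq hTh hA
  obtain ⟨g, hg⟩ := h.exists_sylow_cj hS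
  have h2 : S ≤ cj g M := hg.trans (cj_mono h.TM)
  exact fun h3 => h3 g (hFS.trans h2) (hAS.trans h2) (hQS.trans h2)

/-! ### (E) -/

theorem trans [Finite H] [Finite V] {A F : Subgroup H} (hA : Th D Q A) (hAT : A ≤ T) (hQT : Q ≤ T) (hF : F ∈ D)
    (hFT : F ≤ T) : ∃ t ∈ T, F = cj t A := by
  by_contra hno
  set Q₁ : Subgroup H := sSup {E | E ∈ D ∧ E ≤ (T : Subgroup H) ∧ ¬ ∃ t ∈ T, E = cj t A} with hQ₁
  have hQ₁Q : Q₁ ≤ Q := by
    apply sSup_le
    rintro E ⟨hE, hET, hEn⟩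
    rcases h.mem_of_le T.isPGroup' hA hAT hQT hE hET with h1 | h1
    · exact h1
    · exact absurd ⟨1, one_mem _, by rw [cj_one]; exact h1⟩ hEn
  obtain ⟨B, hB, hAB⟩ := h.exists_opp hA
  have hTn : (T : Subgroup H) ≤ normalizer (Q₁ : Set H) := by
    have key : ∀ t ∈ T, cj t Q₁ ≤ Q₁ := by
      intro t ht
      rw [cj_le_iff]
      apply sSup_le
      rintro E ⟨hE, hET, hEn⟩
      rw [← cj_le_iff]
      refine le_sSup ⟨h.Dcj E hE t, ?_, ?_⟩
      · rw [cj_le_iff, cj_eq_of_mem (inv_mem ht)]; exact hET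
      · rintro ⟨s, hs, h1⟩
        apply hEn
        refine ⟨t⁻¹ * s, mul_mem (inv_mem ht) hs, ?_⟩
        rw [← cj_cj, ← h1, cj_inv_cj]
    intro t ht
    rw [← cj_eq_iff]
    apply le_antisymm (key t ht)
    have h1 := key _ (inv_mem ht)
    rwa [cj_le_iff, inv_inv] at h1
  have hBn : B ≤ normalizer (Q₁ : Set H) := by
    intro b hb
    rw [← cj_eq_iff]
    apply cj_of_comm
    intro x hx
    exact h.comm_Q hB b hb x (hQ₁Q hx)
  rcases h.max _ hTn with h1 | h1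
  · exact hAB 1 (by rw [cj_one]; exact hAT.trans h.TM) (by rw [cj_one]; exact hBn.trans h1)
      (by rw [cj_one]; exact hQT.trans h.TM)
  · have h2 : Q₁.Normal := normalizer_eq_top_iff.1 h1
    have h3 := h.core Q₁ h2 (h.Q2.to_le hQ₁Q)
    have h4 : F ≤ Q₁ := le_sSup ⟨hF, hFT, hno⟩
    obtain ⟨f, hf, hf1⟩ := h.exists_ne hF
    apply hf1
    have := h4 hf
    rw [h3, mem_bot] at this
    exact this

end Loc

/-- the group generated by the members of `D` in `T` different from `F` -/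
def QQ (D : Set (Subgroup H)) (T F : Subgroup H) : Subgroup H := sSup {E | E ∈ D ∧ E ≤ T ∧ E ≠ F}

namespace Loc

variable {T : Sylow 2 H} {M : Subgroup H} {D : Set (Subgroup H)} {q : ℕ} {Q : Subgroup H} (h : Loc V T M D q Q)
include h

theorem QQ_eq [Finite H] [Finite V] {A : Subgroup H} (hA : Th D Q A) (hAT : A ≤ T) (hQT : Q ≤ T) :
    QQ D T A = Q := by
  apply le_antisymm
  · apply sSup_le
    rintro E ⟨hE, hET, hEA⟩
    exact (h.mem_of_le T.isPGroup' hA hAT hQT hE hET).resolve_right hEA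
  · apply h.Qgen
    intro E hE hEQ
    refine le_sSup ⟨hE, hEQ.trans hQT, ?_⟩
    rintro rfl
    exact hA.nle hEQ

theorem QQ_cj {t : H} (ht : t ∈ T) (F : Subgroup H) : QQ D T (cj t F) = cj t (QQ D T F) := by
  have key : ∀ t ∈ T, ∀ F : Subgroup H, cj t (QQ D T F) ≤ QQ D T (cj t F) := by
    intro t ht F
    rw [cj_le_iff]
    apply sSup_le
    rintro E ⟨hE, hET, hEF⟩
    rw [← cj_le_iff]
    refine le_sSup ⟨h.Dcj E hE t, ?_, ?_⟩
    · rw [cj_le_iff, cj_eq_of_mem (inv_mem ht)]; exact hET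
    · intro h1; exact hEF (cj_inj h1)
  apply le_antisymm _ (key t ht F)
  have h1 := key _ (inv_mem ht) (cj t F)
  rw [cj_inv_cj, cj_le_iff, inv_inv] at h1
  exact h1

/-- **(D), (E)** -/
theorem family [Finite H] [Finite V] :
    (∃ F ∈ D, F ≤ (T : Subgroup H)) ∧ (∀ F ∈ D, F ≤ (T : Subgroup H) → ∀ E ∈ D, E ≤ (T : Subgroup H) → ∃ t ∈ T, E = cj t F) ∧
    ∀ F ∈ D, F ≤ (T : Subgroup H) → Loc V T M D q (QQ D T F) ∧ Th D (QQ D T F) F := by
  obtain ⟨A, B, hA, -, -⟩ := h.two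
  obtain ⟨g, hg⟩ := h.exists_sylow_cj (h.isPGroup_AQ hA)
  have h' := h.cjQ g⁻¹
  have hA' : Th D (cj g⁻¹ Q) (cj g⁻¹ A) := by
    rw [h.th_cj_iff, inv_inv, cj_cj_inv]; exact hA
  have hAT : cj g⁻¹ A ≤ T := by
    rw [cj_le_iff, inv_inv]; exact le_sup_left.trans hg
  have hQT : cj g⁻¹ Q ≤ T := by
    rw [cj_le_iff, inv_inv]; exact le_sup_right.trans hg
  have htr : ∀ F ∈ D, F ≤ (T : Subgroup H) → ∃ t ∈ T, F = cj t (cj g⁻¹ A) := fun F hF hFT => h'.trans hA' hAT hQT hF hFT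
  refine ⟨⟨_, hA'.mem, hAT⟩, ?_, ?_⟩
  · intro F hF hFT E hE hET
    obtain ⟨t, ht, h1⟩ := htr F hF hFT
    obtain ⟨s, hs, h2⟩ := htr E hE hET
    refine ⟨s * t⁻¹, mul_mem hs (inv_mem ht), ?_⟩
    rw [h2, ← cj_cj, h1, cj_inv_cj]
  · intro F hF hFT
    obtain ⟨t, ht, rfl⟩ := htr F hF hFT
    rw [h.QQ_cj ht, h'.QQ_eq hA' hAT hQT]
    refine ⟨h'.cjQ t, ?_⟩
    rw [h'.th_cj_iff, cj_inv_cj]
    exact hA'

end Loc

end Cfsg.Agent.Omega.FF.Glob
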