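import Cfsg.Agent.Omega.FF.GlobOffC

/-!
# The FF-theorem, global part: every best offender in `T` is a product of the `A i`
-/

set_option autoImplicit false
set_option linter.unusedSectionVars false

namespace Cfsg.Agent.Omega.FF.Glob

open Subgroup Cfsg.Agent.ClassTwoFusion.Quad Cfsg.Agent.LieClassical Matrix
open scoped Pointwise

variable {H V : Type*} [Group H] [Group V] [MulDistribMulAction H V]

namespace Out0

variable {T : Sylow 2 H} {k : ℕ} {A B : Fin k → Subgroup H} (o : Out0 V T k A B)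
include o

/-! ### `H` acts faithfully on `V / ⋂ C_V(L i)` -/

/-- the product of the `L i` -/
def LX (A B : Fin k → Subgroup H) : Subgroup H := ⨆ i, (A i ⊔ B i)

omit o in
theorem le_LX {A B : Fin k → Subgroup H} (i : Fin k) : A i ⊔ B i ≤ LX A B := le_iSup (fun i => A i ⊔ B i) i

theorem LX_sup : LX A B ⊔ T = ⊤ :=
  o.gen _ le_sup_right fun i => (le_LX i).trans le_sup_left

theorem LX_normal : (LX A B).Normal := by
  rw [← normalizer_eq_top_iff, eq_top_iff]
  intro g _
  rw [← cj_eq_iff]
  have key : ∀ g : H, cj g (LX A B) ≤ LX A B := by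
    intro g
    rw [cj_le_iff]
    apply iSup_le
    intro i
    rw [← cj_le_iff]
    obtain ⟨j, hj⟩ := o.cjL g i
    rw [hj]
    exact le_LX j
  apply le_antisymm (key g)
  have h1 := key g⁻¹
  rwa [cj_le_iff, inv_inv] at h1

theorem isPGroup_quot : ∀ x : H, ∃ m : ℕ, x ^ 2 ^ m ∈ LX A B := by
  intro x
  have hN : (LX A B).Normal := o.LX_normal
  let f : T →* H ⧸ LX A B := (QuotientGroup.mk' _).comp (T : Subgroup H).subtype
  have hf : Function.Surjective f := by
    intro z
    obtain ⟨y, rfl⟩ := QuotientGroup.mk_surjective z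
    have hy : y ∈ LX A B ⊔ T := by rw [o.LX_sup]; trivial
    obtain ⟨l, hl, t, ht, rfl⟩ := mem_sup_of_normal_left.1 hy
    refine ⟨⟨t, ht⟩, ?_⟩
    show (QuotientGroup.mk t : H ⧸ LX A B) = QuotientGroup.mk (l * t)
    rw [QuotientGroup.mk_mul, (QuotientGroup.eq_one_iff l).2 hl, one_mul]
  have h1 : IsPGroup 2 (H ⧸ LX A B) := T.isPGroup'.of_surjective f hf
  obtain ⟨m, hm⟩ := h1 (QuotientGroup.mk x)
  refine ⟨m, ?_⟩
  rw [← QuotientGroup.mk_pow, QuotientGroup.eq_one_iff] at hm
  exact hm

/-- the kernel of `H` on `V / ⋂ C_V(L i)` -/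
def NN (o : Out0 V T k A B) : Subgroup H where
  carrier := {z | ∀ i, ∀ v : V, ∀ y ∈ A i ⊔ B i, y • d z v = d z v}
  one_mem' := by
    intro i v y _
    rw [(o.d_eq_one 1 v).2 (one_smul _ _), smul_one]
  mul_mem' := by
    intro x x' hx hx' i v y hy
    have e1 : d (x * x') v = d x (x' • v) * d x' v := by
      rw [d, d, d, mul_smul, mul_assoc, ← mul_assoc (x' • v), o.sq, one_mul]
    rw [e1, smul_mul', hx i _ y hy, hx' i _ y hy]
  inv_mem' := by
    intro x hx i v y hy
    have e1 : d x⁻¹ v = d x (x⁻¹ • v) := by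
      rw [d, d, smul_inv_smul, o.comm]
    rw [e1]
    exact hx i _ y hy

theorem eq_one_of_NN [Finite H] {z : H} (hz : z ∈ o.NN) : z = 1 := by
  have hNn : (o.NN).Normal := by
    constructor
    intro z hz g i v y hy
    obtain ⟨j, hj⟩ := o.cjL g⁻¹ i
    have h1 : cj g (A j ⊔ B j) = A i ⊔ B i := by rw [← hj, cj_cj_inv]
    have h2 : d (g * z * g⁻¹) v = g • d z (g⁻¹ • v) := by
      rw [d, d, smul_mul', smul_inv_smul, ← mul_smul, ← mul_smul]
    rw [h2]
    have h3 : ∀ x ∈ cj g (A j ⊔ B j), x • (g • d z (g⁻¹ • v)) = g • d z (g⁻¹ • v) := by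
      rw [smul_fix_cj, inv_smul_smul]
      exact hz j _
    rw [h1] at h3
    exact h3 y hy
  have hXn := o.LX_normal
  have h0 : (o.NN ⊓ LX A B).Normal := inferInstance
  have hfix : ∀ z ∈ o.NN, ∀ v : V, ∀ y ∈ LX A B, y • d z v = d z v := by
    intro z hz v y hy
    have h1 : LX A B ≤ MulAction.stabilizer H (d z v) := iSup_le fun i y hy => hz i v y hy
    exact h1 hy
  have h1 : o.NN ⊓ LX A B = ⊥ := by
    apply o.core _ h0
    intro z
    refine ⟨1, Subtype.ext ?_⟩
    rw [pow_one, pow_two]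
    show (z : H) * z = 1
    apply o.faith
    intro v
    have h2 := hfix z z.2.1 v z z.2.2
    rw [mul_smul, o.smul_eq z v, smul_mul', h2, o.smul_eq z v, ← mul_assoc, o.sq, one_mul]
  have h2 : o.NN = ⊥ := by
    apply o.core _ hNn
    intro z
    obtain ⟨m, hm⟩ := o.isPGroup_quot (z : H)
    refine ⟨m, Subtype.ext ?_⟩
    have h3 : (z : H) ^ 2 ^ m ∈ o.NN ⊓ LX A B := ⟨pow_mem z.2 _, hm⟩
    rw [h1, mem_bot] at h3
    exact h3
  rw [h2, mem_bot] at hz
  exact hz

/-! ### the product of the `A i` -/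

theorem sq_A (i : Fin k) : ∀ a ∈ A i, a * a = 1 := by
  intro a ha
  obtain ⟨F, _, _, π, φ, hn⟩ := o.nat i
  apply hn.eq_one_of_act (mem_sup_left (mul_mem ha ha))
  intro v
  obtain ⟨c, -, hc⟩ := hn.u_act ha
  rw [mul_smul, hc, hc]
  have := hn.char2 o.sq (c * π v 1)
  ext j
  fin_cases j
  · simp [add_assoc, this]
  · simp

theorem comm_A (i j : Fin k) : ∀ a ∈ A i, ∀ b ∈ A j, a * b = b * a := by
  intro a ha b hb
  by_cases hij : i = j
  · subst hij
    have h1 := o.sq_A i _ (mul_mem ha hb)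
    have h2 := o.sq_A i _ ha
    have h3 := o.sq_A i _ hb
    calc a * b = a * (a * b * (a * b)) * b := by rw [h1, mul_one]
      _ = (a * a) * (b * a) * (b * b) := by group
      _ = b * a := by rw [h2, h3, one_mul, mul_one]
  · exact o.LL i j hij a (mem_sup_left ha) b (mem_sup_left hb)

theorem sup_comm (I : Set (Fin k)) : ∀ x ∈ (⨆ i ∈ I, A i), ∀ y ∈ (⨆ i ∈ I, A i), x * y = y * x := by
  have h1 : ∀ j, ∀ b ∈ A j, ∀ x ∈ (⨆ i ∈ I, A i), x * b = b * x := by
    intro j b hb
    have h2 : (⨆ i ∈ I, A i) ≤ centralizer ({b} : Set H) := by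
      apply iSup₂_le
      intro i _ a ha
      rw [mem_centralizer_singleton_iff]
      exact o.comm_A i j a ha b hb
    intro x hx
    exact mem_centralizer_singleton_iff.1 (h2 hx)
  intro x hx
  have h2 : (⨆ i ∈ I, A i) ≤ centralizer ({x} : Set H) := by
    apply iSup₂_le
    intro i _ a ha
    rw [mem_centralizer_singleton_iff]
    exact (h1 i a ha x hx).symm
  intro y hy
  exact (mem_centralizer_singleton_iff.1 (h2 hy)).symm

theorem sup_sq (I : Set (Fin k)) : ∀ x ∈ (⨆ i ∈ I, A i), x * x = 1 := by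
  let K : Subgroup H :=
    { carrier := {x | x ∈ (⨆ i ∈ I, A i) ∧ x * x = 1}
      one_mem' := ⟨one_mem _, one_mul 1⟩
      mul_mem' := by
        rintro x y ⟨hx, hx'⟩ ⟨hy, hy'⟩
        refine ⟨mul_mem hx hy, ?_⟩
        rw [mul_assoc, ← mul_assoc y, o.sup_comm I y hy x hx, mul_assoc x, hy', mul_one, hx']
      inv_mem' := by
        rintro x ⟨hx, hx'⟩
        refine ⟨inv_mem hx, ?_⟩
        rw [← _root_.mul_inv_rev, hx', inv_one] }
  have h1 : (⨆ i ∈ I, A i) ≤ K := by
    apply iSup₂_le
    intro i hi a ha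
    exact ⟨(le_iSup₂_of_le i hi le_rfl : A i ≤ ⨆ i ∈ I, A i) ha, o.sq_A i a ha⟩
  exact fun x hx => (h1 hx).2

/-- **every best offender in `T` is a product of the `A i`** -/
theorem off [Finite H] [Finite V] {E : Subgroup H} (hET : E ≤ T) (hc : ∀ x ∈ E, ∀ y ∈ E, x * y = y * x)
    (hsq : ∀ x ∈ E, x * x = 1) (hE : (cv V (E : Set H)).index ≤ Nat.card E) :
    ∃ I : Set (Fin k), E = ⨆ i ∈ I, A i := by
  classical
  have hnat := o.nat
  choose F hF hFt π φ hn using hnat
  set I : Set (Fin k) := {i | ∃ x ∈ E, ∃ v, π i (x • v) ≠ π i v} with hI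
  refine ⟨I, ?_⟩
  have hlin : ∀ i, ∀ x ∈ E, ∃ c : F i, ∀ v, π i (x • v) = ![π i v 0 + c * π i v 1, π i v 1] := by
    intro i x hx
    exact (o.lin_of_off (hn i) hET hc hsq hE x hx).2
  -- elements of other `L j` act trivially on the `i`-th summand
  have hother : ∀ i j, j ≠ i → ∀ z ∈ A j ⊔ B j, ∀ v, π i (z • v) = π i v := by
    intro i j hji z hz v
    have h1 : π i (d z v) = 0 := ((hn i).ker _).2 fun y hy => o.mod j i hji z hz y hy v
    rw [d, (hn i).mul] at h1
    have h2 := (hn i).two o.sq (π i v)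
    calc π i (z • v) = π i (z • v) + (π i v + π i v) := by rw [h2, add_zero]
      _ = π i v := by rw [← add_assoc, h1, zero_add]
  have hle : E ≤ ⨆ i ∈ I, A i := by
    intro x hx
    have hex : ∀ i, ∃ a ∈ A i, (∀ v, π i (x • v) = π i (a • v)) ∧ (i ∉ I → a = 1) := by
      intro i
      obtain ⟨c, hc'⟩ := hlin i x hx
      obtain ⟨a, ha, ha0, hact⟩ := (hn i).exists_u c
      refine ⟨a, ha, fun v => by rw [hc', hact], fun hi => ?_⟩
      rw [ha0]
      by_contra hc0
      apply hi
      obtain ⟨v, hv⟩ := (hn i).surj ![0, 1]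
      refine ⟨x, hx, v, fun h1 => hc0 ?_⟩
      rw [hc', hv] at h1
      have h2 := congrFun h1 0
      simpa using h2
    choose a ha hact ha1 using hex
    have key : ∀ s : Finset (Fin k), ∃ y ∈ (⨆ i ∈ I, A i), ∀ i v, π i (y • v) =
        if i ∈ s then π i (a i • v) else π i v := by
      intro s
      induction s using Finset.induction_on with
      | empty => exact ⟨1, one_mem _, fun i v => by simp⟩
      | insert j s hj ih =>
        obtain ⟨y, hy, hyact⟩ := ih
        refine ⟨a j * y, mul_mem ?_ hy, fun i v => ?_⟩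
        · by_cases hjI : j ∈ I
          · exact (le_iSup₂_of_le j hjI le_rfl : A j ≤ ⨆ i ∈ I, A i) (ha j)
          · rw [ha1 j hjI]; exact one_mem _
        · rw [mul_smul]
          by_cases hij : i = j
          · subst hij
            rw [if_pos (Finset.mem_insert_self _ _)]
            have h1 := hyact i v
            rw [if_neg hj] at h1
            have h2 := (hn i).act ⟨a i, mem_sup_left (ha i)⟩ (y • v)
            have h3 := (hn i).act ⟨a i, mem_sup_left (ha i)⟩ v
            show π i (a i • y • v) = π i (a i • v)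
            rw [h1] at h2
            exact h2.trans h3.symm
          · rw [hother i j (fun h => hij h.symm) _ (mem_sup_left (ha j)), hyact]
            by_cases his : i ∈ s
            · rw [if_pos his, if_pos (Finset.mem_insert_of_mem his)]
            · rw [if_neg his, if_neg (by simp [hij, his])]
    obtain ⟨y, hy, hyact⟩ := key Finset.univ
    have hyx : y⁻¹ * x = 1 := by
      apply o.eq_one_of_NN
      intro i v z hz
      have h1 : π i (x • v) = π i (y • v) := by rw [hyact, if_pos (Finset.mem_univ _), hact]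
      have hyL : cj y⁻¹ (A i ⊔ B i) = A i ⊔ B i := by
        apply cj_inv_eq
        rw [cj_eq_iff]
        have h2 : (⨆ i ∈ I, A i) ≤ normalizer ((A i ⊔ B i : Subgroup H) : Set H) := by
          apply iSup₂_le
          intro j _ b hb
          by_cases hji : j = i
          · subst hji; exact le_normalizer (mem_sup_left hb)
          · rw [← cj_eq_iff]
            exact cj_of_comm fun z hz => o.LL j i hji b (mem_sup_left hb) z hz
        exact h2 hy
      have h3 : π i (y⁻¹ • x • v) = π i (y⁻¹ • y • v) := (hn i).dep hyL h1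
      rw [inv_smul_smul, ← mul_smul] at h3
      have h4 : π i (d (y⁻¹ * x) v) = 0 := by
        rw [d, (hn i).mul, h3]
        exact (hn i).two o.sq _
      exact ((hn i).ker _).1 h4 z hz
    have : x = y := (inv_mul_eq_one.1 hyx).symm
    rw [this]
    exact hy
  apply Subgroup.eq_of_le_of_card_ge hle
  refine (o.noover _ (o.sup_sq I)).trans (le_trans ?_ hE)
  apply Nat.le_of_dvd (Nat.pos_of_ne_zero index_ne_zero_of_finite)
  apply index_dvd_of_le
  intro v hv
  have h1 : (⨆ i ∈ I, A i) ≤ MulAction.stabilizer H v := by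
    apply iSup₂_le
    rintro i ⟨x, hx, w, hw⟩ a ha
    obtain ⟨c, hc'⟩ := hlin i x hx
    have hc0 : c ≠ 0 := by
      rintro rfl
      apply hw
      rw [hc', zero_mul, add_zero]
      ext j; fin_cases j <;> rfl
    have h2 := hc' v
    rw [hv x hx] at h2
    have h3 := congrFun h2 0
    simp only [cons_val_zero] at h3
    have h4 : c * π i v 1 = 0 := by linear_combination -h3
    exact ((hn i).kerA v).1 ((mul_eq_zero.1 h4).resolve_left hc0) a ha
  exact fun x hx => h1 hx

end Out0

end Cfsg.Agent.Omega.FF.Glob
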