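import Cfsg.Agent.Omega.FF.Frat

/-!
# THEOREM FF, steps (1), (2): the subgroup `D`, the family `𝒜_N` and minimal pairs
-/

set_option autoImplicit false
set_option linter.unusedSectionVars false

namespace Cfsg.Agent.Omega.FF.Conf

open Cfsg.Agent.Omega.FF.Basic Cfsg.Agent.Omega.FF.Setup Cfsg.Agent.Omega.FF.Frat
open scoped Pointwise

variable {X : Type*} [Group X] [Finite X] {V : Type*} [AddCommGroup V] [Finite V] [DistribMulAction X V]

/-- `𝒜_N`: members of `𝒟` normalising `D`, not contained in `D` -/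
def AN (𝒟 : Set (Subgroup X)) (D : Subgroup X) : Set (Subgroup X) :=
  {B | B ∈ 𝒟 ∧ B ≤ Subgroup.normalizer (D : Set X) ∧ ¬ B ≤ D}

/-- the subgroup `D` of step (1) -/
structure Cfg (𝒟 : Set (Subgroup X)) (D : Subgroup X) : Prop where
  p : IsPGroup 2 D
  gen : J 𝒟 D = D
  uniq : ∀ B ∈ AN 𝒟 D, ∀ T T' : Sylow 2 X, D ⊔ B ≤ T → D ⊔ B ≤ T' → pt (T : Subgroup X) = pt (T' : Subgroup X)
  two : ∃ B ∈ AN 𝒟 D, ∃ C ∈ AN 𝒟 D, ∃ T T' : Sylow 2 X, D ⊔ B ≤ T ∧ D ⊔ C ≤ T' ∧
    pt (T : Subgroup X) ≠ pt (T' : Subgroup X)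

/-- the point of `B ∈ 𝒜_N` -/
noncomputable def pp (D B : Subgroup X) : Subgroup X := by
  classical
  exact if h : ∃ T : Sylow 2 X, D ⊔ B ≤ T then pt (h.choose : Subgroup X) else ⊥

theorem isPGroup_sup {D B : Subgroup X} (hD : IsPGroup 2 D) (hB : IsPGroup 2 B)
    (hn : B ≤ Subgroup.normalizer (D : Set X)) : IsPGroup 2 (D ⊔ B : Subgroup X) :=
  hD.to_sup_of_normal_left' hB hn

/-- a 2-subgroup of `P` lies in a conjugate of the Sylow subgroup `T ≤ P` -/
theorem exists_conj_ge {P Q : Subgroup X} (T : Sylow 2 X) (hT : (T : Subgroup X) ≤ P) (hQ : IsPGroup 2 Q) (hQP : Q ≤ P) :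
    ∃ m ∈ P, Q ≤ cj m (T : Subgroup X) := by
  obtain ⟨R'', hR''⟩ := (hQ.comap_subtype (H := Q) (K := P) : IsPGroup 2 (Q.subgroupOf P)).exists_le_sylow
  obtain ⟨k, hk⟩ := MulAction.exists_smul_eq P (T.subtype hT) R''
  refine ⟨k, k.2, ?_⟩
  intro x hx
  have h1 : (⟨x, hQP hx⟩ : P) ∈ (R'' : Subgroup P) := hR'' hx
  rw [← hk] at h1
  obtain ⟨r, hr, e⟩ := h1
  rw [mem_cj]
  have e' : (k : X) * r * (k : X)⁻¹ = x := congrArg Subtype.val e
  have e2 : (k : X)⁻¹ * x * k = r := by rw [← e']; group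
  rw [e2]; exact hr

section exist

variable {𝒟 : Set (Subgroup X)} (h : Hyp V 𝒟)
include h

theorem mem_AN_cj {D B : Subgroup X} (hB : B ∈ AN 𝒟 D) {n : X} (hn : n ∈ Subgroup.normalizer (D : Set X)) :
    cj n B ∈ AN 𝒟 D := by
  refine ⟨h.conj B hB.1 n, ?_, ?_⟩
  · rw [← cj_eq_self_of_mem hn]; exact cj_mono n hB.2.1
  · intro e
    apply hB.2.2
    rw [← cj_le_cj (g := n), (cj_eq_iff_mem_normalizer.2 hn : cj n D = D)]; exact e

/-- (1) -/
theorem exists_cfg : ∃ D : Subgroup X, Cfg 𝒟 D := by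
  classical
  let S : Set (Sylow 2 X × Sylow 2 X) := {x | pt (x.1 : Subgroup X) ≠ pt (x.2 : Subgroup X)}
  have hS : S.Finite := Set.toFinite _
  obtain ⟨T₀, T₀', h0⟩ := h.exists_ne_pt
  obtain ⟨⟨T, T'⟩, hT, hmax⟩ := Set.exists_max_image S
    (fun x => Nat.card (J 𝒟 ((x.1 : Subgroup X) ⊓ (x.2 : Subgroup X)))) hS ⟨(T₀, T₀'), h0⟩
  have hTT : pt (T : Subgroup X) ≠ pt (T' : Subgroup X) := hT
  set D := J 𝒟 ((T : Subgroup X) ⊓ (T' : Subgroup X)) with hD
  have hDT : D ≤ T := J_le.trans inf_le_left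
  have hDT' : D ≤ T' := J_le.trans inf_le_right
  have hmax' : ∀ U U' : Sylow 2 X, pt (U : Subgroup X) ≠ pt (U' : Subgroup X) →
      Nat.card (J 𝒟 ((U : Subgroup X) ⊓ (U' : Subgroup X))) ≤ Nat.card D := fun U U' hU => hmax (U, U') hU
  have hJD : J 𝒟 D = D := J_J
  have hDp : IsPGroup 2 D := T.isPGroup'.to_le hDT
  -- all Sylow subgroups have conjugate `J`
  have hcard : ∀ U U' : Sylow 2 X, Nat.card (J 𝒟 (U : Subgroup X)) = Nat.card (J 𝒟 (U' : Subgroup X)) := by
    intro U U'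
    obtain ⟨g, hg⟩ := MulAction.exists_smul_eq X U U'
    rw [← hg, coe_smul, h.J_cj, card_cj]
  -- `D < J_U`
  have hlt : ∀ U U' : Sylow 2 X, D ≤ U → D ≤ U' → pt (U : Subgroup X) ≠ pt (U' : Subgroup X) →
      J 𝒟 (U : Subgroup X) ≠ D := by
    intro U U' hU hU' hne e
    have e' : J 𝒟 (U' : Subgroup X) = D := by
      symm
      apply Subgroup.eq_of_le_of_card_ge
      · rw [← hJD]; exact J_mono hU'
      · rw [← hcard U U', e]
    have hDne : D ≠ ⊥ := by
      obtain ⟨A, hA, hAU⟩ := h.exists_le U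
      intro e3
      have := le_J hA hAU
      rw [e, e3, le_bot_iff] at this
      exact h.nb A hA this
    have hn : ∀ W : Sylow 2 X, J 𝒟 (W : Subgroup X) = D → (W : Subgroup X) ≤ Subgroup.normalizer (D : Set X) := by
      intro W hW w hw
      rw [← cj_eq_iff_mem_normalizer, ← hW, ← h.J_cj, cj_eq_self_of_mem hw]
    have h1 := h.normalizer_le_pt hDne hU (hn U e)
    exact hne (h.pt_eq_of_le ((hn U' e').trans h1)).symm
  -- there is a member of `𝒜_N` in `U`
  have hex : ∀ U : Sylow 2 X, D ≤ U → J 𝒟 (U : Subgroup X) ≠ D → ∃ B ∈ AN 𝒟 D, B ≤ U := by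
    intro U hU hne
    by_contra hcon
    push Not at hcon
    apply hne
    set R := (U : Subgroup X) ⊓ Subgroup.normalizer (D : Set X) with hR
    have hDR : D ≤ R := le_inf hU Subgroup.le_normalizer
    have h1 : J 𝒟 R = D := by
      apply le_antisymm
      · apply sSup_le
        rintro B ⟨hB, hBR⟩
        by_contra hBD
        exact hcon B ⟨hB, hBR.trans inf_le_right, hBD⟩ (hBR.trans inf_le_left)
      · rw [← hJD]; exact J_mono hDR
    have h2 : (U : Subgroup X) ⊓ Subgroup.normalizer (R : Set X) ≤ R := by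
      intro u hu
      refine Subgroup.mem_inf.2 ⟨hu.1, ?_⟩
      rw [← cj_eq_iff_mem_normalizer, ← h1, ← h.J_cj, cj_eq_iff_mem_normalizer.2 hu.2]
    have h3 : R = U := by
      by_contra hRU
      have hnil : Group.IsNilpotent U := U.isPGroup'.isNilpotent
      have hRlt : R.subgroupOf U < ⊤ := by
        rw [lt_top_iff_ne_top]
        intro e
        rw [Subgroup.subgroupOf_eq_top] at e
        exact hRU (le_antisymm inf_le_left e)
      have h4 := Group.normalizerCondition_of_isNilpotent (G := U) _ hRlt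
      obtain ⟨_, h5⟩ := SetLike.lt_iff_le_and_exists.1 h4
      obtain ⟨u, hu, hu'⟩ := h5
      apply hu'
      rw [Subgroup.mem_subgroupOf]
      apply h2
      refine Subgroup.mem_inf.2 ⟨u.2, ?_⟩
      rw [← cj_eq_iff_mem_normalizer]
      ext x
      rw [mem_cj]
      rw [Subgroup.mem_normalizer_iff] at hu
      constructor
      · intro hx
        have hxU : (u : X)⁻¹ * x * u ∈ (U : Subgroup X) := hx.1
        have h6 := (hu ⟨_, hxU⟩).1 (Subgroup.mem_subgroupOf.2 hx)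
        have h7 : (u : X) * ((u : X)⁻¹ * x * u) * (u : X)⁻¹ ∈ R := h6
        convert h7 using 1; group
      · intro hx
        have hxU : (u : X)⁻¹ * x * u ∈ (U : Subgroup X) :=
          Subgroup.mul_mem _ (Subgroup.mul_mem _ (Subgroup.inv_mem _ u.2) hx.1) u.2
        have h6 : (u * (⟨_, hxU⟩ : U) * u⁻¹ : U) ∈ R.subgroupOf U := by
          rw [Subgroup.mem_subgroupOf]
          have : ((u * (⟨_, hxU⟩ : U) * u⁻¹ : U) : X) = x := by
            change (u : X) * ((u : X)⁻¹ * x * u) * (u : X)⁻¹ = x; group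
          rw [this]; exact hx
        exact (hu ⟨_, hxU⟩).2 h6
    rw [← h3]; exact h1
  refine ⟨D, hDp, hJD, ?_, ?_⟩
  · intro B hB U U' hU hU'
    by_contra hne
    have h1 : D ⊔ B ≤ J 𝒟 ((U : Subgroup X) ⊓ (U' : Subgroup X)) := by
      apply sup_le
      · rw [← hJD]; exact J_mono (le_sup_left.trans (le_inf hU hU'))
      · exact le_J hB.1 (le_sup_right.trans (le_inf hU hU'))
    have h2 := hmax' U U' hne
    have h3 : D ⊔ B = D := by
      symm
      apply Subgroup.eq_of_le_of_card_ge le_sup_left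
      exact (Nat.card_le_card_of_injective _ (Subgroup.inclusion_injective h1)).trans h2
    exact hB.2.2 (le_sup_right.trans h3.le)
  · obtain ⟨B, hB, hBT⟩ := hex T hDT (hlt T T' hDT hDT' hTT)
    obtain ⟨C, hC, hCT⟩ := hex T' hDT' (hlt T' T hDT' hDT (Ne.symm hTT))
    exact ⟨B, hB, C, hC, T, T', sup_le hDT hBT, sup_le hDT' hCT, hTT⟩

end exist

end Cfsg.Agent.Omega.FF.Conf
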