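import Cfsg.Agent.Omega.FF.Seven

/-!
# THEOREM FF, step (8): members of `𝒜_N` at the same point are equal
-/

set_option autoImplicit false
set_option linter.unusedSectionVars false

namespace Cfsg.Agent.Omega.FF.Eight

open Cfsg.Agent.Omega.FF.Basic Cfsg.Agent.Omega.FF.Setup Cfsg.Agent.Omega.FF.Frat Cfsg.Agent.Omega.FF.Conf
open Cfsg.Agent.Omega.FF.Min Cfsg.Agent.Omega.FF.Chief Cfsg.Agent.Omega.FF.Pair Cfsg.Agent.Omega.FF.Pts
open Cfsg.Agent.Omega.FF.Seven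
open scoped Pointwise

variable {X : Type*} [Group X] [Finite X] {V : Type*} [AddCommGroup V] [Finite V] [DistribMulAction X V]
variable {𝒟 : Set (Subgroup X)} {D : Subgroup X} (h : Hyp V 𝒟) (c : Cfg 𝒟 D)
include h c

/-- (8) -/
theorem inj {B₁ B₂ : Subgroup X} (hB₁ : B₁ ∈ AN 𝒟 D) (hB₂ : B₂ ∈ AN 𝒟 D) (hpp : pp D B₁ = pp D B₂) : B₁ = B₂ := by
  classical
  by_contra hne12
  set P := pp D B₁ with hP
  set N := Subgroup.normalizer (D : Set X) with hN
  have hcomm : ∀ a ∈ B₁, ∀ b ∈ B₂, a * b = b * a := fun a ha b hb => same_comm h c hB₁ hB₂ hpp ha hb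
  have hDN : D ≤ N := Subgroup.le_normalizer
  -- the kernel on the points
  let K : Subgroup X :=
    { carrier := {n | n ∈ N ∧ ∀ E ∈ AN 𝒟 D, n ∈ pp D E}
      one_mem' := ⟨N.one_mem, fun E _ => (pp D E).one_mem⟩
      mul_mem' := fun ha hb => ⟨N.mul_mem ha.1 hb.1, fun E hE => (pp D E).mul_mem (ha.2 E hE) (hb.2 E hE)⟩
      inv_mem' := fun ha => ⟨N.inv_mem ha.1, fun E hE => (pp D E).inv_mem (ha.2 E hE)⟩ }
  have hNK : N ≤ Subgroup.normalizer (K : Set X) := by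
    intro y hy
    rw [← cj_eq_iff_mem_normalizer]
    apply cj_eq_of_le
    rw [cj_le_iff]
    intro a ha
    refine ⟨N.mul_mem (N.mul_mem hy ha.1) (N.inv_mem hy), fun E hE => ?_⟩
    have h1 := ha.2 (cj y⁻¹ E) (mem_AN_cj h hE (N.inv_mem hy))
    rw [pp_cj h c hE (N.inv_mem hy), mem_cj] at h1
    convert h1 using 1; group
  -- the 2-group `D B₁ B₂`
  have h12 : IsPGroup 2 (B₁ ⊔ B₂ : Subgroup X) := (EA_sup (h.ea B₁ hB₁.1) (h.ea B₂ hB₂.1) hcomm).isPGroup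
  have h12N : B₁ ⊔ B₂ ≤ N := sup_le hB₁.2.1 hB₂.2.1
  have hE2 : IsPGroup 2 (D ⊔ (B₁ ⊔ B₂) : Subgroup X) := isPGroup_sup c.p h12 h12N
  have hEN : D ⊔ (B₁ ⊔ B₂) ≤ N := sup_le hDN h12N
  obtain ⟨RK, hRK, hRK2, hER, hfr, hsy⟩ := frat hNK hEN hE2
  have hB₁E : B₁ ≤ D ⊔ (B₁ ⊔ B₂) := le_sup_left.trans le_sup_right
  have hB₂E : B₂ ≤ D ⊔ (B₁ ⊔ B₂) := le_sup_right.trans le_sup_right
  have hDE : D ≤ D ⊔ (B₁ ⊔ B₂) := le_sup_left
  have hKN : K ≤ N := fun k hk => hk.1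
  have hDK : D ≤ K := fun d hd => ⟨hDN hd, fun E hE => le_pp h c hE ((le_sup_left : D ≤ D ⊔ E) hd)⟩
  -- 2-elements of `K` normalising `R_K` lie in `R_K`
  have hRKmax : ∀ Q ≤ K, IsPGroup 2 Q → RK ≤ Q → Q = RK := by
    intro Q hQ hQ2 hRQ
    obtain ⟨k, hk, hle⟩ := hsy Q hQ hQ2
    symm
    apply Subgroup.eq_of_le_of_card_ge hRQ
    rw [← card_cj k RK]
    exact Nat.card_le_card_of_injective _ (Subgroup.inclusion_injective hle)
  have hDRK : D ≤ RK := by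
    obtain ⟨k, hk, hle⟩ := hsy D hDK c.p
    have := cj_mono k⁻¹ hle
    rwa [cj_inv_cj, (cj_eq_iff_mem_normalizer.2 (N.inv_mem (hKN hk)) : cj k⁻¹ D = D)] at this
  -- a Sylow subgroup over everything
  obtain ⟨T, hT⟩ := exists_sylow (isPGroup_sup hRK2 hE2 hER)
  have hRKT : RK ≤ (T : Subgroup X) := le_sup_left.trans hT
  have hDT : D ≤ (T : Subgroup X) := hDRK.trans hRKT
  have hB₁T : B₁ ≤ (T : Subgroup X) := hB₁E.trans (le_sup_right.trans hT)
  have hptT : pt (T : Subgroup X) = P := (pp_eq h c hB₁ (sup_le hDT hB₁T)).symm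
  -- `n'`
  obtain ⟨C, hC, hneC⟩ := exists_partner h c B₁
  obtain ⟨x, hx, hx1⟩ : ∃ x ∈ C, x ≠ 1 := by
    by_contra hno
    push Not at hno
    exact h.nb C hC.1 ((Subgroup.eq_bot_iff_forall _).2 hno)
  have hxN : x ∈ N := hC.2.1 hx
  have hxP : x ∉ P := regular h c hC hB₁ (Ne.symm hneC) hx hx1
  obtain ⟨k₀, hk₀, hn'⟩ := hfr x hxN
  set n := k₀⁻¹ * x with hn
  have hnN : n ∈ N := N.mul_mem (N.inv_mem (hKN hk₀)) hxN
  have hnR : cj n RK = RK := cj_eq_iff_mem_normalizer.2 hn'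
  have hnP : pp D (cj n B₁) ≠ P := by
    intro e
    apply hxP
    apply mem_pp_of_cj h c hB₁
    have h1 : cj k₀ (pp D (cj n B₁)) = pp D (cj n B₁) := cj_eq_self_of_mem (hk₀.2 _ (mem_AN_cj h hB₁ hnN))
    rw [pp_cj h c hB₁ hnN, cj_cj, hn, mul_inv_cancel_left] at h1
    rw [h1, ← hn, ← pp_cj h c hB₁ hnN]; exact e
  set C₁ := cj n B₁ with hC₁
  set C₂ := cj n B₂ with hC₂
  have hC₁A : C₁ ∈ AN 𝒟 D := mem_AN_cj h hB₁ hnN
  have hC₂A : C₂ ∈ AN 𝒟 D := mem_AN_cj h hB₂ hnN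
  have hppC : pp D C₂ = pp D C₁ := by
    rw [hC₁, hC₂, pp_cj h c hB₁ hnN, pp_cj h c hB₂ hnN, ← hpp]
  have hne1 : pp D C₁ ≠ pp D B₁ := hnP
  have hne2 : pp D C₂ ≠ pp D B₂ := by rw [hppC, ← hpp]; exact hnP
  have hB₁R : B₁ ≤ Subgroup.normalizer (RK : Set X) := hB₁E.trans hER
  have hB₂R : B₂ ≤ Subgroup.normalizer (RK : Set X) := hB₂E.trans hER
  have hcjR : ∀ B : Subgroup X, B ≤ Subgroup.normalizer (RK : Set X) → cj n B ≤ Subgroup.normalizer (RK : Set X) := by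
    intro B hB
    rw [← cj_eq_self_of_mem hn']
    exact cj_mono n hB
  have hC₁R := hcjR B₁ hB₁R
  have hC₂R := hcjR B₂ hB₂R
  -- `V_K`
  have hinvK : ∀ B : Subgroup X, B ≤ Subgroup.normalizer (RK : Set X) → Iv B (fx V RK) := by
    intro B hB b hb v hv
    exact fx_inv (hB hb) hv
  have hVKD : fx V RK ≤ fx V D := fx_anti hDRK
  obtain ⟨v₀, hv₀, hv₀'⟩ := h.vec T
  have hst := h.stab_le_pt hv₀ hv₀'
  rw [hptT] at hst
  have hDP : D ≤ P := (le_sup_left : D ≤ D ⊔ B₁).trans (le_pp h c hB₁)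
  have hnot : ∀ C ∈ AN 𝒟 D, pp D C ≠ P → v₀ ∉ fx V C := by
    intro C hC hne hv
    apply hne
    have h1 : C ≤ P := fun x hx => hst (hv x hx)
    exact (pp_eq_of_le h c hC hB₁ (sup_le hDP h1)).symm
  have hdec : ∀ B C : Subgroup X, B ∈ AN 𝒟 D → C ∈ AN 𝒟 D → pp D C ≠ pp D B → pp D C ≠ P →
      B ≤ Subgroup.normalizer (RK : Set X) → C ≤ Subgroup.normalizer (RK : Set X) → ∀ v : V,
      ∃ a ∈ fx V RK, ∃ u, u ∈ fx V B ∧ u ∈ fx V C ∧ a + u = v := by
    intro B C hB hC hne hneP hBR hCR v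
    have hn : ¬ fx V RK ≤ fx V B ⊓ fx V C := by
      intro hle
      exact hnot C hC hneP (hle (fx_anti hRKT hv₀)).2
    have hcov := cover h c hB hC hne hVKD (hinvK B hBR) (hinvK C hCR) hn
    obtain ⟨d, hd, u, hu, hu', rfl⟩ := mem_sup' h c hB hC hne v
    obtain ⟨a, ha, w, hw, rfl⟩ := mem_sup (hcov hd)
    exact ⟨a, ha, w + u, (fx V B).add_mem hw.1.2 hu, (fx V C).add_mem hw.2 hu', by abel⟩
  have hdec1 := hdec B₁ C₁ hB₁ hC₁A hne1 hne1 hB₁R hC₁R
  have hdec2 := hdec B₂ C₂ hB₂ hC₂A hne2 (by rw [hppC]; exact hnP) hB₂R hC₂R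
  -- `k = b₂⁻¹ b₁`
  obtain ⟨b₁, hb₁, hb₁1⟩ : ∃ x ∈ B₁, x ≠ 1 := by
    by_contra hno
    push Not at hno
    exact h.nb B₁ hB₁.1 ((Subgroup.eq_bot_iff_forall _).2 hno)
  obtain ⟨b₂, hb₂, hP'⟩ : ∃ b₂ ∈ B₂, cj b₁ (pp D C₁) = cj b₂ (pp D C₁) := by
    have hne3 : pp D C₁ ≠ pp D B₂ := by rw [← hpp]; exact hnP
    rcases points h c hB₂ hC₁A hne3 (mem_AN_cj h hC₁A (hB₁.2.1 hb₁)) with h1 | ⟨b, hb, h1⟩
    · exfalso
      rw [pp_cj h c hC₁A (hB₁.2.1 hb₁), ← hpp] at h1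
      apply hnP
      have h2 : cj b₁ (pp D C₁) = cj b₁ P := by
        rw [h1]; symm
        exact cj_eq_self_of_mem (le_pp h c hB₁ ((le_sup_right : B₁ ≤ D ⊔ B₁) hb₁))
      exact cj_inj h2
    · exact ⟨b, hb, by rw [← pp_cj h c hC₁A (hB₁.2.1 hb₁), h1, pp_cj h c hC₁A (hB₂.2.1 hb)]⟩
  set k := b₂⁻¹ * b₁ with hk
  have hkC : k ∈ pp D C₁ := by
    apply mem_pp_of_cj h c hC₁A
    rw [hk, ← cj_cj, hP', cj_inv_cj]
  have hkcomm : ∀ b ∈ B₁, k * b = b * k := by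
    intro b hb
    have h1 := (h.ea B₁ hB₁.1).comm hb₁ hb
    have h2 := hcomm b hb _ (B₂.inv_mem hb₂)
    rw [hk, mul_assoc, h1, ← mul_assoc, ← h2]; group
  have hkN : k ∈ N := N.mul_mem (N.inv_mem (hB₂.2.1 hb₂)) (hB₁.2.1 hb₁)
  have hkP : k ∈ P := by
    apply P.mul_mem
    · apply P.inv_mem
      rw [hpp]
      exact le_pp h c hB₂ ((le_sup_right : B₂ ≤ D ⊔ B₂) hb₂)
    · exact le_pp h c hB₁ ((le_sup_right : B₁ ≤ D ⊔ B₁) hb₁)
  have hkK : k ∈ K := by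
    refine ⟨hkN, fun E hE => ?_⟩
    rcases points h c hB₁ hC₁A hne1 hE with h1 | ⟨b, hb, h1⟩
    · rw [h1]; exact hkP
    · rw [h1, pp_cj h c hC₁A (hB₁.2.1 hb), mem_cj]
      have : b⁻¹ * k * b = k := by rw [mul_assoc, hkcomm b hb]; group
      rw [this]; exact hkC
  have hkE : k ∈ D ⊔ (B₁ ⊔ B₂) := Subgroup.mul_mem _ (Subgroup.inv_mem _ (hB₂E hb₂)) (hB₁E hb₁)
  have hkRK : k ∈ RK := by
    have hz2 : IsPGroup 2 (Subgroup.zpowers k) := hE2.to_le (Subgroup.zpowers_le.2 hkE)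
    have hzn : Subgroup.zpowers k ≤ Subgroup.normalizer (RK : Set X) := Subgroup.zpowers_le.2 (hER hkE)
    have h1 := hRKmax (RK ⊔ Subgroup.zpowers k) (sup_le hRK (Subgroup.zpowers_le.2 hkK))
      (isPGroup_sup hRK2 hz2 hzn) le_sup_left
    have h2 : k ∈ RK ⊔ Subgroup.zpowers k := (le_sup_right : Subgroup.zpowers k ≤ _) (Subgroup.mem_zpowers k)
    rwa [h1] at h2
  have hk1 : k ≠ 1 := by
    intro e
    rw [hk, inv_mul_eq_one] at e
    have hb₂1 : b₂ ≠ 1 := by rw [e]; exact hb₁1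
    apply hne12
    apply ax h c hB₁.1 hB₂.1
    apply le_antisymm
    · intro v hv
      have h1 : b₂ • v = v := by rw [e]; exact hv b₁ hb₁
      exact ti h c hB₂.1 hb₂ hb₂1 h1
    · intro v hv
      have h1 : b₁ • v = v := by rw [← e]; exact hv b₂ hb₂
      exact ti h c hB₁.1 hb₁ hb₁1 h1
  -- commutators of `k`
  have hkb : ∀ v : V, ∃ u : V, k • v - v = b₁ • u - u := by
    intro v
    obtain ⟨a, ha, u, hu, _, rfl⟩ := hdec2 v
    refine ⟨u, ?_⟩
    have e1 : k • a = a := ha k hkRK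
    have e2 : k • u = b₁ • u := by
      rw [hk, ← hcomm b₁ hb₁ _ (B₂.inv_mem hb₂), mul_smul, hu _ (B₂.inv_mem hb₂)]
    rw [smul_add, e1, e2]; abel
  have hkf1 : ∀ v : V, k • v - v ∈ fx V B₁ := by
    intro v
    obtain ⟨u, e⟩ := hkb v
    rw [e]; exact fun x hx => h.quad B₁ hB₁.1 b₁ hb₁ x hx u
  have hkf2 : ∀ v : V, k • v - v ∈ fx V B₂ := by
    intro v
    obtain ⟨u, e⟩ := hkb v
    rw [e]; exact same_fix h c hB₁ hB₂ hpp hb₁ u
  have hkfD : ∀ v : V, k • v - v ∈ fx V D := by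
    intro v
    obtain ⟨u, e⟩ := hkb v
    rw [e]; exact comm_mem' h c hB₁ hb₁ u
  have hkfk : ∀ v : V, k • v - v ∈ fe V k := by
    intro v
    have h1 := hkf1 v b₁ hb₁
    have h2 := hkf2 v _ (B₂.inv_mem hb₂)
    rw [mem_fe]
    nth_rewrite 1 [hk]
    rw [mul_smul, h1, h2]
  have hkC₁ : ∀ v : V, k • v - v ∈ fx V C₁ → k • v = v := by
    intro v hv
    obtain ⟨u, e⟩ := hkb v
    rw [e] at hv
    have := p3 h c hB₁ hC₁A hne1 hb₁ hv
    rw [this, sub_self, sub_eq_zero] at e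
    exact e
  -- `κ`
  set L := B₁ ⊔ C₁ with hL
  have hLR : L ≤ Subgroup.normalizer (RK : Set X) := sup_le hB₁R hC₁R
  have hLN : L ≤ N := sup_le hB₁.2.1 hC₁A.2.1
  let κ : Subgroup X := Subgroup.closure {x | ∃ l ∈ L, x = l * k * l⁻¹}
  have hκ : ∀ l ∈ L, l * k * l⁻¹ ∈ κ := fun l hl => Subgroup.subset_closure ⟨l, hl, rfl⟩
  have hkκ : k ∈ κ := by
    have := hκ 1 L.one_mem
    simpa using this
  have hκR : κ ≤ RK := by
    apply (Subgroup.closure_le _).2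
    rintro _ ⟨l, hl, rfl⟩
    have := cj_eq_iff_mem_normalizer.2 (hLR hl)
    rw [SetLike.mem_coe, ← this]
    exact mem_cj_of hkRK
  have hfixL : ∀ u : V, u ∈ fx V B₁ → u ∈ fx V C₁ → ∀ l ∈ L, l • u = u := by
    intro u h1 h2 l hl
    have : u ∈ fx V L := by rw [hL, fx_sup]; exact ⟨h1, h2⟩
    exact this l hl
  -- `C_V(k) = C_V(κ)`, invariant under `L`
  have hfek : fe V k = fx V κ := by
    apply le_antisymm
    · intro v hv
      obtain ⟨a, ha, u, hu, hu', rfl⟩ := hdec1 v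
      have hku : k • u = u := by
        rw [mem_fe, smul_add, ha k hkRK] at hv
        exact add_left_cancel hv
      apply mem_fx_closure
      rintro _ ⟨l, hl, rfl⟩
      have e1 : (l * k * l⁻¹) • a = a := ha _ (hκR (hκ l hl))
      have e2 : (l * k * l⁻¹) • u = u := by
        rw [mul_smul, mul_smul, hfixL u hu hu' _ (L.inv_mem hl), hku, hfixL u hu hu' l hl]
      rw [smul_add, e1, e2]
    · exact fx_le_fe hkκ
  have hLκ : ∀ l ∈ L, cj l κ = κ := by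
    intro l hl
    apply cj_eq_of_le
    have : κ ≤ cj l⁻¹ κ := by
      apply (Subgroup.closure_le _).2
      rintro _ ⟨m, hm, rfl⟩
      rw [SetLike.mem_coe, mem_cj]
      have := hκ (l * m) (L.mul_mem hl hm)
      convert this using 1; group
    have := cj_mono l this
    rwa [cj_cj_inv] at this
  have hLfx : ∀ l ∈ L, ∀ v ∈ fx V κ, l • v ∈ fx V κ := by
    intro l hl v hv
    have := smul_mem_fx_cj (g := l) hv
    rwa [hLκ l hl] at this
  -- all commutators of `κ` are fixed by `κ` and lie in `C_V(D)`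
  have hκall : ∀ z ∈ κ, ∀ v : V, z • v - v ∈ fx V κ ∧ z • v - v ∈ fx V D := by
    intro z hz
    induction hz using Subgroup.closure_induction with
    | mem x hx =>
      obtain ⟨l, hl, rfl⟩ := hx
      intro v
      have e : (l * k * l⁻¹) • v - v = l • (k • (l⁻¹ • v) - l⁻¹ • v) := by
        rw [smul_sub, smul_inv_smul, mul_smul, mul_smul]
      rw [e]
      refine ⟨hLfx l hl _ ?_, fx_inv (hLN hl) (hkfD _)⟩
      rw [← hfek]; exact hkfk _
    | one => intro v; rw [one_smul, sub_self]; exact ⟨(fx V κ).zero_mem, (fx V D).zero_mem⟩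
    | mul x y hx hy hx' hy' =>
      intro v
      have e : (x * y) • v - v = (y • v - v) + (x • v - v) := by
        have h1 := (hy' v).1 x hx
        rw [smul_sub, smul_smul] at h1
        have h2 : (x * y) • v = y • v - v + x • v := by rw [← h1]; abel
        rw [h2]; abel
      rw [e]
      exact ⟨(fx V κ).add_mem (hy' v).1 (hx' v).1, (fx V D).add_mem (hy' v).2 (hx' v).2⟩
    | inv x hx hx' =>
      intro v
      have h1 := hx' (x⁻¹ • v)
      rw [smul_inv_smul] at h1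
      have e : x⁻¹ • v - v = -(v - x⁻¹ • v) := by abel
      rw [e]
      exact ⟨(fx V κ).neg_mem h1.1, (fx V D).neg_mem h1.2⟩
  have hκEA : EA κ := by
    intro z hz
    apply h.faith
    intro v
    have h1 := (hκall z hz v).1 z hz
    rw [smul_sub, smul_smul] at h1
    have h2 : (z * z) • v = (z • v + z • v) - (v + v) + v := by
      have : (z * z) • v = z • v - v + z • v := by rw [← h1]; abel
      rw [this]; abel
    rw [h2, h.h2, h.h2, sub_zero, zero_add]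
  -- cardinalities
  set q := Nat.card B₁ with hq
  have hVB : q * Nat.card (fx V B₁) = Nat.card V := mm_eq h c hB₁.1
  have hfeb : fe V b₁ = fx V B₁ := by
    apply le_antisymm
    · intro v hv; exact ti h c hB₁.1 hb₁ hb₁1 hv
    · exact fx_le_fe hb₁
  have hVk : Nat.card V ≤ q * Nat.card (fx V κ) := by
    have e1 := card_map b₁ (⊤ : AddSubgroup V)
    rw [top_inf_eq, hfeb, card_top] at e1
    have e2 := card_map k (⊤ : AddSubgroup V)
    rw [top_inf_eq, hfek, card_top] at e2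
    have hmap : Nat.card ((⊤ : AddSubgroup V).map (dif V b₁)) = q := by
      apply Nat.eq_of_mul_eq_mul_right (card_pos (fx V B₁))
      rw [e1, hVB]
    have hle : (⊤ : AddSubgroup V).map (dif V k) ≤ (⊤ : AddSubgroup V).map (dif V b₁) := by
      rintro _ ⟨v, _, rfl⟩
      obtain ⟨u, e⟩ := hkb v
      exact ⟨u, trivial, e.symm⟩
    rw [← e2, ← hmap]
    exact Nat.mul_le_mul_right _ (card_le hle)
  -- a vector of `C_V(L)` moved by `k`
  obtain ⟨u, hu, hu', hku⟩ : ∃ u : V, u ∈ fx V B₁ ∧ u ∈ fx V C₁ ∧ k • u ≠ u := by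
    by_contra hcon
    push Not at hcon
    apply hk1
    apply h.faith
    intro v
    obtain ⟨a, ha, u, hu, hu', rfl⟩ := hdec1 v
    rw [smul_add, ha k hkRK, hcon u hu hu']
  let Φ : AddSubgroup V :=
    { carrier := {w | ∃ z ∈ κ, z • u - u = w}
      zero_mem' := ⟨1, κ.one_mem, by rw [one_smul, sub_self]⟩
      add_mem' := by
        rintro _ _ ⟨x, hx, rfl⟩ ⟨y, hy, rfl⟩
        refine ⟨x * y, κ.mul_mem hx hy, ?_⟩
        have := (hκall y hy u).1 x hx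
        rw [smul_sub, smul_smul] at this
        have e : (x * y) • u = y • u - u + x • u := by rw [← this]; abel
        rw [e]; abel
      neg_mem' := by
        rintro _ ⟨x, hx, rfl⟩
        refine ⟨x, hx, ?_⟩
        have := h.h2 (x • u - u)
        rw [← sub_eq_zero, sub_neg_eq_add]; exact this }
  have hΦcard : Nat.card Φ ≤ Nat.card κ := by
    have hsurj : Function.Surjective (fun x : κ => (⟨(x : X) • u - u, x, x.2, rfl⟩ : Φ)) := by
      rintro ⟨w, x, hx, rfl⟩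
      exact ⟨⟨x, hx⟩, rfl⟩
    exact Nat.card_le_card_of_surjective _ hsurj
  have hΦD : Φ ≤ fx V D := by
    rintro _ ⟨z, hz, rfl⟩
    exact (hκall z hz u).2
  have hΦinv : ∀ l ∈ L, ∀ w ∈ Φ, l • w ∈ Φ := by
    rintro l hl _ ⟨z, hz, rfl⟩
    refine ⟨l * z * l⁻¹, ?_, ?_⟩
    · have := mem_cj_of (g := l) hz
      rwa [hLκ l hl] at this
    · rw [smul_sub, mul_smul, mul_smul, hfixL u hu hu' _ (L.inv_mem hl), hfixL u hu hu' l hl]
  have hΦn : ¬ Φ ≤ fx V B₁ ⊓ fx V C₁ := by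
    intro hle
    apply hku
    apply hkC₁
    exact (hle ⟨k, hkκ, rfl⟩).2
  have hcov := cover h c hB₁ hC₁A hne1 hΦD (fun b hb => hΦinv b ((le_sup_left : B₁ ≤ L) hb))
    (fun b hb => hΦinv b ((le_sup_right : C₁ ≤ L) hb)) hΦn
  obtain ⟨_, hD, _⟩ := pair_basic h c hB₁ hC₁A hne1
  set W : AddSubgroup V := fx V D ⊓ fx V B₁ ⊓ fx V C₁ with hW
  have h5 := card_le hcov
  have h6 := card_sup_inf Φ W
  have h7 : Nat.card (Φ ⊔ W : AddSubgroup V) ≤ Nat.card Φ * Nat.card W := by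
    rw [← h6]; exact Nat.le_mul_of_pos_right _ (card_pos _)
  rw [hD] at h5
  have h8 : q * q ≤ Nat.card κ := by
    apply le_trans _ hΦcard
    exact Nat.le_of_mul_le_mul_right (h5.trans h7) (card_pos W)
  have h9 := no h c κ hκEA
  rw [mm] at h9
  have h10 := two_le h hB₁.1
  have hVpos : 0 < Nat.card V := Nat.card_pos
  have h11 : q * Nat.card V ≤ Nat.card V := by
    calc q * Nat.card V ≤ q * (q * Nat.card (fx V κ)) := Nat.mul_le_mul_left _ hVk
      _ = (q * q) * Nat.card (fx V κ) := by ring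
      _ ≤ Nat.card κ * Nat.card (fx V κ) := Nat.mul_le_mul_right _ h8
      _ ≤ _ := h9
  have h12 : 2 * Nat.card V ≤ q * Nat.card V := Nat.mul_le_mul_right _ h10
  omega

end Cfsg.Agent.Omega.FF.Eight
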