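import Cfsg.Agent.Omega.FF.Pair

/-!
# THEOREM FF: the outcome of steps (1)-(9) for a Sylow 2-subgroup `T`

`q` = the order of the members of `𝒟`; the members `B` of `𝒟` in `T` commute, are independent, and `T` permutes them
transitively; `L B = ⟨B, B^g⟩` (`= SL₂(q)`) centralises all other members in `T`.
-/

set_option autoImplicit false
set_option linter.unusedSectionVars false

namespace Cfsg.Agent.Omega.FF.FamDef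

open Cfsg.Agent.Omega.FF.Basic Cfsg.Agent.Omega.FF.Setup

variable {X : Type*} [Group X] {V : Type*} [AddCommGroup V] [DistribMulAction X V]

/-- the product of the members of `𝒟` in `T` different from `B` -/
def oth (𝒟 : Set (Subgroup X)) (T B : Subgroup X) : Subgroup X := sSup {A | A ∈ 𝒟 ∧ A ≤ T ∧ A ≠ B}

variable (V) in
/-- outcome of steps (1)-(9) -/
structure Fam (𝒟 : Set (Subgroup X)) (T : Sylow 2 X) (q : ℕ) (L : Subgroup X → Subgroup X) : Prop where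
  hyp : Hyp V 𝒟
  q2 : 2 ≤ q
  card : ∀ A ∈ 𝒟, Nat.card A = q
  idx : ∀ A ∈ 𝒟, q * Nat.card (fx V A) = Nat.card V
  no : ∀ E : Subgroup X, EA E → mm V E ≤ Nat.card V
  ti : ∀ A ∈ 𝒟, ∀ a ∈ A, a ≠ 1 → ∀ v : V, a • v = v → v ∈ fx V A
  ax : ∀ A ∈ 𝒟, ∀ B ∈ 𝒟, fx V A = fx V B → A = B
  comm : ∀ A ∈ 𝒟, ∀ B ∈ 𝒟, A ≤ (T : Subgroup X) → B ≤ (T : Subgroup X) → ∀ a ∈ A, ∀ b ∈ B, a * b = b * a
  indep : ∀ B ∈ 𝒟, B ≤ (T : Subgroup X) → B ⊓ oth 𝒟 T B = ⊥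
  trans : ∀ A ∈ 𝒟, ∀ B ∈ 𝒟, A ≤ (T : Subgroup X) → B ≤ (T : Subgroup X) → ∃ t ∈ (T : Subgroup X), cj t A = B
  BL : ∀ B ∈ 𝒟, B ≤ (T : Subgroup X) → B ≤ L B
  Lcj : ∀ t ∈ (T : Subgroup X), ∀ B ∈ 𝒟, B ≤ (T : Subgroup X) → cj t (L B) = L (cj t B)
  LD : ∀ A ∈ 𝒟, ∀ B ∈ 𝒟, A ≤ (T : Subgroup X) → B ≤ (T : Subgroup X) → A ≠ B → ∀ x ∈ L A, ∀ b ∈ B, x * b = b * x
  Lpt : ∀ B ∈ 𝒟, B ≤ (T : Subgroup X) → ¬ L B ≤ pt (T : Subgroup X)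
  Lnorm : ∀ B ∈ 𝒟, B ≤ (T : Subgroup X) → ∀ g ∈ Subgroup.normalizer (oth 𝒟 T B : Set X), cj g (L B) = L B
  Lgen : ∀ B ∈ 𝒟, B ≤ (T : Subgroup X) → ∀ g ∈ L B, cj g B ≠ B → B ⊔ cj g B = L B
  Lne : ∀ B ∈ 𝒟, B ≤ (T : Subgroup X) → ∃ g ∈ L B, cj g B ≠ B
  Lidx : ∀ B ∈ 𝒟, B ≤ (T : Subgroup X) → q * q * Nat.card (fx V (L B)) = Nat.card V
  /-- `B` is transitive on the other conjugates of `B` in `L B` -/
  Ltr : ∀ B ∈ 𝒟, B ≤ (T : Subgroup X) → ∀ g ∈ L B, ∀ g' ∈ L B, cj g B ≠ B → cj g' B ≠ B → ∃ b ∈ B, cj (b * g) B = cj g' B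
  /-- ... and regular -/
  Lfree : ∀ B ∈ 𝒟, B ≤ (T : Subgroup X) → ∀ b ∈ B, b ≠ 1 → ∀ g ∈ L B, cj g B ≠ B → cj (b * g) B ≠ cj g B
  /-- `b ∈ B#` acts nontrivially on `V / C_V(L)`, more precisely `C_{V/C}(b) = C_V(B)/C` -/
  mv : ∀ B ∈ 𝒟, B ≤ (T : Subgroup X) → ∀ b ∈ B, ∀ v : V, b • v - v ∈ fx V (L B) → b • v = v

end Cfsg.Agent.Omega.FF.FamDef
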