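import Cfsg.Agent.Omega.FF.Setup

/-!
# THEOREM FF: a Frattini lemma
-/

set_option autoImplicit false
set_option linter.unusedSectionVars false

namespace Cfsg.Agent.Omega.FF.Frat

open Cfsg.Agent.Omega.FF.Basic Cfsg.Agent.Omega.FF.Setup
open scoped Pointwise

variable {X : Type*} [Group X] [Finite X]

theorem smul_map {K : Subgroup X} (y : X) (hy : y ∈ Subgroup.normalizer (K : Set X)) (R : Sylow 2 K) :
    (((Subgroup.normalizerMonoidHom K ⟨y, hy⟩ : MulAut K) • R : Sylow 2 K) : Subgroup K).map K.subtype =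
      cj y ((R : Subgroup K).map K.subtype) := by
  ext x
  rw [mem_cj]
  constructor
  · rintro ⟨k, hk, rfl⟩
    obtain ⟨r, hr, e⟩ := hk
    refine ⟨r, hr, ?_⟩
    have e' : (y : X) * r * y⁻¹ = k := congrArg Subtype.val e
    change (r : X) = y⁻¹ * (k : X) * y
    rw [← e']; group
  · rintro ⟨r, hr, e⟩
    refine ⟨Subgroup.normalizerMonoidHom K ⟨y, hy⟩ r, ⟨r, hr, rfl⟩, ?_⟩
    have e' : (r : X) = y⁻¹ * x * y := e
    change (y : X) * r * y⁻¹ = x
    rw [e']; group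

theorem frat {K Y E : Subgroup X} (hY : Y ≤ Subgroup.normalizer (K : Set X)) (hEY : E ≤ Y)
    (hE : IsPGroup 2 E) : ∃ R : Subgroup X, R ≤ K ∧ IsPGroup 2 R ∧ E ≤ Subgroup.normalizer (R : Set X) ∧
      (∀ y ∈ Y, ∃ k ∈ K, k⁻¹ * y ∈ Subgroup.normalizer (R : Set X)) ∧
      (∀ Q ≤ K, IsPGroup 2 Q → ∃ k ∈ K, Q ≤ cj k R) := by
  classical
  have hEK : E ≤ Subgroup.normalizer (K : Set X) := hEY.trans hY
  let act : MulAction E (Sylow 2 K) :=
    MulAction.compHom (Sylow 2 K) ((Subgroup.normalizerMonoidHom K).comp (Subgroup.inclusion hEK))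
  have hnd : ¬ 2 ∣ Nat.card (Sylow 2 K) := by
    have := card_sylow_modEq_one 2 K
    intro hd
    have h3 := (Nat.ModEq.dvd_iff this (dvd_refl 2)).1 hd
    omega
  obtain ⟨R', hR'⟩ := hE.nonempty_fixed_point_of_prime_not_dvd_card (Sylow 2 K) hnd
  let R : Subgroup X := (R' : Subgroup K).map K.subtype
  have hRK : R ≤ K := by
    rintro x ⟨k, _, rfl⟩; exact k.2
  refine ⟨R, hRK, R'.isPGroup'.map K.subtype, ?_, ?_, ?_⟩
  · intro e he
    rw [← cj_eq_iff_mem_normalizer]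
    have h1 : (Subgroup.normalizerMonoidHom K ⟨e, hEK he⟩ : MulAut K) • R' = R' := hR' ⟨e, he⟩
    rw [← smul_map e (hEK he) R', h1]
  · intro y hy
    obtain ⟨k, hk⟩ := MulAction.exists_smul_eq K R'
      ((Subgroup.normalizerMonoidHom K ⟨y, hY hy⟩ : MulAut K) • R')
    refine ⟨k, k.2, ?_⟩
    rw [← cj_eq_iff_mem_normalizer, ← cj_cj]
    have h1 := smul_map y (hY hy) R'
    rw [← hk] at h1
    have h2 : (((k • R' : Sylow 2 K)) : Subgroup K).map K.subtype = cj (k : X) R := by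
      ext x
      rw [mem_cj]
      constructor
      · rintro ⟨z, hz, rfl⟩
        obtain ⟨r, hr, e⟩ := hz
        refine ⟨r, hr, ?_⟩
        have e' : (k : X) * r * (k : X)⁻¹ = z := congrArg Subtype.val e
        change (r : X) = (k : X)⁻¹ * (z : X) * k
        rw [← e']; group
      · rintro ⟨r, hr, e⟩
        refine ⟨k * r * k⁻¹, ⟨r, hr, rfl⟩, ?_⟩
        have e' : (r : X) = (k : X)⁻¹ * x * k := e
        change (k : X) * r * (k : X)⁻¹ = x
        rw [e']; group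
    rw [h2] at h1
    rw [← h1, cj_inv_cj]
  · intro Q hQ hQ2
    obtain ⟨R'', hR''⟩ := (hQ2.comap_subtype (H := Q) (K := K) : IsPGroup 2 (Q.subgroupOf K)).exists_le_sylow
    obtain ⟨k, hk⟩ := MulAction.exists_smul_eq K R' R''
    refine ⟨k, k.2, ?_⟩
    intro x hx
    have h1 : (⟨x, hQ hx⟩ : K) ∈ (R'' : Subgroup K) := hR'' hx
    rw [← hk] at h1
    obtain ⟨r, hr, e⟩ := h1
    rw [mem_cj]
    refine ⟨r, hr, ?_⟩
    have e' : (k : X) * r * (k : X)⁻¹ = x := congrArg Subtype.val e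
    change (r : X) = (k : X)⁻¹ * (x : X) * k
    rw [← e']; group

end Cfsg.Agent.Omega.FF.Frat
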