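import Cfsg.Agent.Omega.FF.GlobFam

/-!
# The FF-theorem, global part (F), (G): `H = (L₁ × ... × L_r) T`

`LL D Q`: the group generated by `Θ`.  For `q > 2` the groups belonging to two members of `D` in `T` commute.
-/

set_option autoImplicit false
set_option linter.unusedSectionVars false

namespace Cfsg.Agent.Omega.FF.Glob

open Subgroup Cfsg.Agent.ClassTwoFusion.Quad Cfsg.Agent.LieClassical Matrix
open scoped Pointwise

variable {H V : Type*} [Group H] [Group V] [MulDistribMulAction H V]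

theorem cj_inv_eq {k : H} {A : Subgroup H} (h : cj k A = A) : cj k⁻¹ A = A := by
  have h1 := congrArg (cj k⁻¹) h
  rw [cj_inv_cj] at h1
  exact h1.symm

/-- the group generated by `Θ` -/
def LL (D : Set (Subgroup H)) (Q : Subgroup H) : Subgroup H := sSup {E | Th D Q E}

theorem le_LL {D : Set (Subgroup H)} {Q A : Subgroup H} (hA : Th D Q A) : A ≤ LL D Q :=
  le_sSup (show A ∈ {E | Th D Q E} from hA)

namespace NatAt

variable {A B : Subgroup H} {F : Type} [Field F] {π : V → (Fin 2 → F)}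
  {φ : ↥(A ⊔ B) →* Matrix.SpecialLinearGroup (Fin 2) F} (h : NatAt A B π φ)
include h

/-- the torus -/
theorem exists_torus [Finite F] (hF : 2 < Nat.card F) :
    ∃ k ∈ A ⊔ B, cj k A = A ∧ k ^ (Nat.card F - 1) = 1 ∧ ∀ v : V, k • v = v → ∀ x ∈ A ⊔ B, x • v = v := by
  classical
  have := Fintype.ofFinite F
  obtain ⟨c, hc0, hc1⟩ : ∃ c : F, c ≠ 0 ∧ c ≠ 1 := by
    by_contra hcon
    push Not at hcon
    have h1 : (Finset.univ : Finset F) ⊆ {0, 1} := by
      intro x _
      by_cases hx : x = 0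
      · simp [hx]
      · simp [hcon x hx]
    have h2 := Finset.card_le_card h1
    rw [Finset.card_univ, ← Nat.card_eq_fintype_card] at h2
    have h3 : ({0, 1} : Finset F).card ≤ 2 := Finset.card_le_two
    omega
  obtain ⟨x, hx⟩ := h.bij.2 (⟨!![c, 0; 0, c⁻¹], by rw [det_fin_two_of]; field_simp; ring⟩ : SpecialLinearGroup (Fin 2) F)
  have hact : ∀ w : Fin 2 → F, (φ x).1.mulVec w = ![c * w 0, c⁻¹ * w 1] := by
    intro w
    rw [hx]
    show (!![c, 0; 0, c⁻¹] : Matrix (Fin 2) (Fin 2) F).mulVec w = _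
    ext i; fin_cases i <;> simp [Matrix.mulVec, dotProduct, Fin.sum_univ_two]
  refine ⟨x, x.2, ?_, ?_, ?_⟩
  · have he0 : (φ ⟨(x : H), x.2⟩).1.mulVec ![1, 0] = c • ![1, 0] := by
      rw [hact]
      ext i; fin_cases i <;> simp
    have hscal : ∀ (N : SpecialLinearGroup (Fin 2) F) (w : Fin 2 → F),
        (N.1.mulVec (c • w) = c • w ↔ N.1.mulVec w = w) := by
      intro N w
      rw [Matrix.mulVec_smul]
      exact (smul_right_injective _ hc0).eq_iff
    have hle : cj (x : H) A ≤ A ⊔ B := by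
      have h2 : cj (x : H) (A ⊔ B) = A ⊔ B := cj_eq_of_mem x.2
      exact (cj_mono le_sup_left).trans h2.le
    ext y
    constructor
    · intro hy
      have hy' := hle hy
      rw [h.cj_mem x.2 hy', he0, hscal] at hy
      exact (h.memA_iff ⟨y, hy'⟩).2 hy
    · intro hy
      rw [h.cj_mem x.2 (mem_sup_left hy), he0, hscal]
      exact (h.memA_iff ⟨y, _⟩).1 hy
  · have h1 : ∀ n : ℕ, (φ x ^ n).1 = !![c ^ n, 0; 0, (c⁻¹) ^ n] := by
      intro n
      induction n with
      | zero =>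
        show (1 : Matrix (Fin 2) (Fin 2) F) = _
        simp [Matrix.one_fin_two]
      | succ n ih =>
        rw [pow_succ]
        show (φ x ^ n).1 * (φ x).1 = _
        rw [ih, hx]
        show _ * (!![c, 0; 0, c⁻¹] : Matrix (Fin 2) (Fin 2) F) = _
        rw [Matrix.mul_fin_two]
        simp [pow_succ]
    have h2 : c ^ (Nat.card F - 1) = 1 := by
      rw [Nat.card_eq_fintype_card]
      exact FiniteField.pow_card_sub_one_eq_one c hc0
    have h3 : φ (x ^ (Nat.card F - 1)) = 1 := by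
      rw [map_pow]
      apply Subtype.ext
      rw [h1, inv_pow, h2, inv_one]
      exact Matrix.one_fin_two.symm
    have h4 : x ^ (Nat.card F - 1) = 1 := h.bij.1 (h3.trans (map_one φ).symm)
    exact congrArg Subtype.val h4
  · intro v hv
    apply (h.ker v).1
    have h1 := h.act x v
    rw [hv, hact] at h1
    have e0 := congrFun h1 0
    have e1 := congrFun h1 1
    simp only [cons_val_zero, cons_val_one] at e0 e1
    ext i
    fin_cases i
    · have : (c - 1) * π v 0 = 0 := by linear_combination -e0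
      exact (mul_eq_zero.1 this).resolve_left (sub_ne_zero.2 hc1)
    · have h5 : c⁻¹ ≠ 1 := by
        intro h6; exact hc1 (inv_eq_one.1 h6)
      have : (c⁻¹ - 1) * π v 1 = 0 := by linear_combination -e1
      exact (mul_eq_zero.1 this).resolve_left (sub_ne_zero.2 h5)

/-- `B` is conjugate to `A` in `⟨A, B⟩` -/
theorem exists_swap : ∃ l ∈ A ⊔ B, cj l A = B := by
  obtain ⟨x, hx⟩ := h.bij.2 (⟨!![0, -1; 1, 0], by rw [det_fin_two_of]; ring⟩ : SpecialLinearGroup (Fin 2) F)
  refine ⟨x, x.2, ?_⟩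
  have he0 : (φ ⟨(x : H), x.2⟩).1.mulVec ![1, 0] = ![0, 1] := by
    show (φ x).1.mulVec ![1, 0] = ![0, 1]
    rw [hx]
    show (!![0, -1; 1, 0] : Matrix (Fin 2) (Fin 2) F).mulVec ![1, 0] = _
    ext i; fin_cases i <;> simp [Matrix.mulVec, dotProduct, Fin.sum_univ_two]
  have hle : cj (x : H) A ≤ A ⊔ B := by
    have h2 : cj (x : H) (A ⊔ B) = A ⊔ B := cj_eq_of_mem x.2
    exact (cj_mono le_sup_left).trans h2.le
  ext y
  constructor
  · intro hy
    have hy' := hle hy
    rw [h.cj_mem x.2 hy', he0] at hy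
    exact (h.memB_iff ⟨y, hy'⟩).2 hy
  · intro hy
    rw [h.cj_mem x.2 (mem_sup_right hy), he0]
    exact (h.memB_iff ⟨y, _⟩).1 hy

/-- `B` acts semiregularly on the conjugates of `B` different from `B` -/
theorem cj_A_ne {b : H} (hb : b ∈ B) (hb1 : b ≠ 1) : cj b A ≠ A := by
  intro h1
  obtain ⟨c, hc⟩ := (h.memB ⟨b, mem_sup_right hb⟩).1 hb
  have hc0 : c ≠ 0 := by
    rintro rfl
    rw [SLTwoUnipotent.l_zero, ← map_one φ] at hc
    exact hb1 (congrArg Subtype.val (h.bij.1 hc))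
  obtain ⟨y, hy⟩ := h.bij.2 (SLTwoUnipotent.u 1)
  have hyA : (y : H) ∈ A := (h.memA y).2 ⟨1, hy⟩
  have h2 : (y : H) ∈ cj b A := h1.symm ▸ hyA
  have h3 := (h.cj_mem (mem_sup_right hb) y.2).1 h2
  rw [hc, l_mulVec] at h3
  have h4 := congrFun h3 0
  have h5 : (φ ⟨(y : H), y.2⟩) = SLTwoUnipotent.u 1 := hy
  rw [h5, u_mulVec] at h4
  simp at h4
  exact hc0 h4

end NatAt

namespace Loc

variable {T : Sylow 2 H} {M : Subgroup H} {D : Set (Subgroup H)} {q : ℕ} {Q : Subgroup H} (h : Loc V T M D q Q)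
include h

/-- different members are opposite -/
theorem opp_of_ne [Finite H] [Finite V] {A B : Subgroup H} (hA : Th D Q A) (hB : Th D Q B) (hne : A ≠ B) :
    Opp M Q A B := by
  by_contra h1
  exact hne (h.same_eq hA hB h1)

/-- `Θ = {A} ∪ {B^a}` -/
theorem point' [Finite H] [Finite V] {A B E : Subgroup H} (hA : Th D Q A) (hB : Th D Q B) (hne : A ≠ B)
    (hE : Th D Q E) : E = A ∨ ∃ a ∈ A, E = cj a B := by
  rcases h.point hA hB (h.opp_of_ne hA hB hne) hE with h1 | ⟨a, ha, h1⟩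
  · left; exact h.same_eq hE hA h1
  · right; exact ⟨a, ha, h.same_eq hE (hB.cj h.Dcj (hA.norm ha)) h1⟩

theorem LL_eq [Finite H] [Finite V] {A B : Subgroup H} (hA : Th D Q A) (hB : Th D Q B) (hne : A ≠ B) :
    LL D Q = A ⊔ B := by
  apply le_antisymm
  · apply sSup_le
    intro E hE
    rcases h.point' hA hB hne hE with rfl | ⟨a, ha, rfl⟩
    · exact le_sup_left
    · have h2 : cj a (A ⊔ B) = A ⊔ B := cj_eq_of_mem (mem_sup_left ha)
      exact (cj_mono le_sup_right).trans h2.le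
  · exact sup_le (le_LL hA) (le_LL hB)

theorem exists_ne_th {A : Subgroup H} (hA : Th D Q A) [Finite H] : ∃ B, Th D Q B ∧ A ≠ B := by
  obtain ⟨B, hB, hAB⟩ := h.exists_opp hA
  refine ⟨B, hB, ?_⟩
  rintro rfl
  exact h.same_refl hA hAB

theorem nat2' [Finite H] [Finite V] {A B : Subgroup H} (hA : Th D Q A) (hB : Th D Q B) (hne : A ≠ B) :
    Nat2 V A B := h.nat2 hA hB (h.opp_of_ne hA hB hne)

theorem LL_comm_Q : ∀ x ∈ LL D Q, ∀ y ∈ Q, x * y = y * x := by
  have h1 : LL D Q ≤ centralizer (Q : Set H) := by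
    apply sSup_le
    intro E hE x hx
    rw [mem_centralizer_iff]
    intro y hy
    exact (h.comm_Q hE x hx y hy).symm
  intro x hx y hy
  exact (mem_centralizer_iff.1 (h1 hx) y hy).symm

theorem pow_two_of_q [Finite H] {A : Subgroup H} (hA : A ∈ D) : ∃ n, q = 2 ^ n := by
  have : Fact (Nat.Prime 2) := ⟨Nat.prime_two⟩
  obtain ⟨n, hn⟩ := (IsPGroup.iff_card.1 (h.isPGroup_A hA))
  exact ⟨n, by rw [← h.card A hA, hn]⟩

/-- an element of odd order normalising `Q` which centralises a member of `Θ` centralises `⟨Θ⟩` -/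
theorem comm_LL_of_odd [Finite H] [Finite V] {A : Subgroup H} (hA : Th D Q A) {k : H}
    (hk : k ∈ normalizer (Q : Set H)) (hkA : ∀ a ∈ A, k * a = a * k) {n : ℕ} (hn : Odd n) (hkn : k ^ n = 1) :
    ∀ x ∈ LL D Q, k * x = x * k := by
  obtain ⟨B, hB, hne⟩ := h.exists_ne_th hA
  have hn2 := h.nat2' hA hB hne
  obtain ⟨F, _, _, π, φ, hnat⟩ := hn2
  -- `k` normalises `B`
  have hkA1 : cj k A = A := cj_of_comm hkA
  have hkB : cj k B = B := by
    rcases h.point' hA hB hne (hB.cj h.Dcj hk) with h1 | ⟨a, ha, h1⟩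
    · exfalso
      rw [← hkA1] at h1
      exact hne (cj_inj h1).symm
    · have h2 : ∀ m : ℕ, cj (k ^ m) B = cj (a ^ m) B := by
        intro m
        induction m with
        | zero => rw [pow_zero, pow_zero]
        | succ m ih =>
          have hc : ∀ m : ℕ, k * a ^ m = a ^ m * k := fun m => hkA _ (pow_mem ha m)
          rw [pow_succ', ← cj_cj, ih, cj_cj, hc, ← cj_cj, h1, cj_cj, ← pow_succ]
      have h3 := h2 n
      have h4 : a ^ n = a := by
        obtain ⟨m, rfl⟩ := hn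
        have h5 : a ^ 2 = 1 := by rw [pow_two]; exact h.sqA A hA.mem a ha
        rw [pow_add, pow_mul, h5, one_pow, one_mul, pow_one]
      rw [hkn, cj_one, h4] at h3
      rw [h1, ← h3]
  -- `k` centralises `B`
  have hkBc : ∀ b ∈ B, k * b = b * k := by
    intro b hb
    have hc : k * b * k⁻¹ * b⁻¹ ∈ B := by
      have h1 : k * b * k⁻¹ ∈ cj k B := conj_mem_cj hb
      rw [hkB] at h1
      exact mul_mem h1 (inv_mem hb)
    have hfix : cj (k * b * k⁻¹ * b⁻¹) A = A := by
      have hbA : Th D Q (cj b⁻¹ A) := hA.cj h.Dcj (inv_mem (hB.norm hb))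
      have h1 : cj k⁻¹ (cj b⁻¹ A) = cj b⁻¹ A := by
        rcases h.point' hA hB hne hbA with h2 | ⟨a, ha, h2⟩
        · rw [h2, cj_inv_eq hkA1]
        · rw [h2, cj_cj]
          have h3 : k⁻¹ * a = a * k⁻¹ := by
            rw [inv_mul_eq_iff_eq_mul, ← mul_assoc, hkA a ha, mul_assoc, mul_inv_cancel, mul_one]
          rw [h3, ← cj_cj, cj_inv_eq hkB]
      rw [← cj_cj, ← cj_cj, h1, cj_cj, mul_assoc, mul_inv_cancel, mul_one, hkA1]
    by_contra hne'
    have h1 : k * b * k⁻¹ * b⁻¹ ≠ 1 := by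
      intro h2
      apply hne'
      rw [mul_inv_eq_one, mul_inv_eq_iff_eq_mul] at h2
      exact h2
    exact hnat.cj_A_ne hc h1 hfix
  rw [h.LL_eq hA hB hne]
  have h1 : A ⊔ B ≤ centralizer ({k} : Set H) := by
    apply sup_le
    · intro a ha
      rw [mem_centralizer_singleton_iff]
      exact (hkA a ha).symm
    · intro b hb
      rw [mem_centralizer_singleton_iff]
      exact (hkBc b hb).symm
  intro x hx
  exact (mem_centralizer_singleton_iff.1 (h1 hx)).symm

end Loc

end Cfsg.Agent.Omega.FF.Glob
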