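import Mathlib
import Cfsg.Agent.ClassTwoFusion.Quad
import Cfsg.Agent.LieClassical.SLTwoUnipotent

/-!
# The FF-theorem for minimal parabolics, `q > 2`: interface between the local and the global part

`H` acts faithfully on the elementary abelian 2-group `V` (written multiplicatively), `T` is a Sylow 2-subgroup of `H`,
`M` the unique maximal subgroup over `T`.

* `Nat2 V A B`: `⟨A, B⟩ ≅ SL₂(F)`, `A` and `B` the upper and lower unipotent subgroups, `V / C_V(⟨A, B⟩)` the natural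
  module;
* `Loc V T M D q Q`: what the local theorem delivers (`D` a conjugation closed set of best offenders, `Q` generated
  by members of `D`, such that two members of `D` in `N_H(Q)`, not in `Q`, without a common point, generate `SL₂(q)`).
-/

set_option autoImplicit false

namespace Cfsg.Agent.Omega.FF.Glob

open Subgroup Cfsg.Agent.ClassTwoFusion.Quad Cfsg.Agent.LieClassical

variable {H : Type*} [Group H]

/-- `g A g⁻¹` -/
def cj (g : H) (A : Subgroup H) : Subgroup H := A.comap (MulAut.conj g⁻¹).toMonoidHom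

theorem mem_cj {g : H} {A : Subgroup H} {x : H} : x ∈ cj g A ↔ g⁻¹ * x * g ∈ A := by
  show MulAut.conj g⁻¹ x ∈ A ↔ _
  rw [MulAut.conj_apply, inv_inv]

/-- `A` and `B` are the upper and lower unipotent subgroups of `⟨A, B⟩ ≅ SL₂(F)`, and `V / C_V(⟨A, B⟩)` is the natural
module. -/
structure NatAt {V : Type*} [Group V] [MulDistribMulAction H V] (A B : Subgroup H) {F : Type} [Field F]
    (π : V → (Fin 2 → F)) (φ : ↥(A ⊔ B) →* Matrix.SpecialLinearGroup (Fin 2) F) : Prop where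
  mul : ∀ v w, π (v * w) = π v + π w
  surj : Function.Surjective π
  ker : ∀ v, π v = 0 ↔ ∀ x ∈ A ⊔ B, x • v = v
  kerA : ∀ v, π v 1 = 0 ↔ ∀ a ∈ A, a • v = v
  kerB : ∀ v, π v 0 = 0 ↔ ∀ b ∈ B, b • v = v
  act : ∀ (x : ↥(A ⊔ B)) (v : V), π ((x : H) • v) = (φ x).1.mulVec (π v)
  bij : Function.Bijective φ
  memA : ∀ x : ↥(A ⊔ B), (x : H) ∈ A ↔ ∃ c : F, φ x = SLTwoUnipotent.u c
  memB : ∀ x : ↥(A ⊔ B), (x : H) ∈ B ↔ ∃ c : F, φ x = SLTwoUnipotent.l c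

/-- `⟨A, B⟩ ≅ SL₂(F)`, natural module, `A` upper, `B` lower unipotent. -/
def Nat2 (V : Type*) [Group V] [MulDistribMulAction H V] (A B : Subgroup H) : Prop :=
  ∃ (F : Type) (_ : Field F) (_ : Fintype F) (π : V → (Fin 2 → F))
    (φ : ↥(A ⊔ B) →* Matrix.SpecialLinearGroup (Fin 2) F), NatAt A B π φ

/-- `A` is a candidate: in `D`, normalising `Q`, not in `Q`. -/
structure Th (D : Set (Subgroup H)) (Q A : Subgroup H) : Prop where
  mem : A ∈ D
  norm : A ≤ normalizer (Q : Set H)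
  nle : ¬ A ≤ Q

/-- no conjugate of `M` contains `A`, `B` and `Q` -/
def Opp (M Q A B : Subgroup H) : Prop := ∀ g : H, A ≤ cj g M → B ≤ cj g M → ¬ Q ≤ cj g M

/-- The output of the local theorem. -/
structure Loc (V : Type*) [Group V] [MulDistribMulAction H V] (T : Sylow 2 H) (M : Subgroup H)
    (D : Set (Subgroup H)) (q : ℕ) (Q : Subgroup H) : Prop where
  comm : ∀ v w : V, v * w = w * v
  sq : ∀ v : V, v * v = 1
  faith : ∀ x : H, (∀ v : V, x • v = v) → x = 1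
  core : ∀ N : Subgroup H, N.Normal → IsPGroup 2 N → N = ⊥
  TM : (T : Subgroup H) ≤ M
  Mne : M ≠ ⊤
  max : ∀ X : Subgroup H, (T : Subgroup H) ≤ X → X ≤ M ∨ X = ⊤
  nfix : ∃ v : V, (∀ t ∈ T, t • v = v) ∧ ∃ x : H, x • v ≠ v
  two_le : 2 ≤ q
  Dcj : ∀ A ∈ D, ∀ g : H, cj g A ∈ D
  card : ∀ A ∈ D, Nat.card A = q
  idx : ∀ A ∈ D, (cv V (A : Set H)).index = q
  sqA : ∀ A ∈ D, ∀ a ∈ A, a * a = 1
  ti : ∀ A ∈ D, ∀ a ∈ A, a ≠ 1 → ∀ v : V, a • v = v → ∀ a' ∈ A, a' • v = v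
  quad : ∀ A ∈ D, ∀ a ∈ A, ∀ a' ∈ A, ∀ v : V, a' • d a v = d a v
  noover : ∀ E : Subgroup H, (∀ x ∈ E, x * x = 1) → Nat.card E ≤ (cv V (E : Set H)).index
  comm4 : ∀ A ∈ D, ∀ B ∈ D, ∀ P : Subgroup H, IsPGroup 2 P → A ≤ P → B ≤ P → ∀ a ∈ A, ∀ b ∈ B, a * b = b * a
  Qgen : ∀ K : Subgroup H, (∀ A ∈ D, A ≤ Q → A ≤ K) → Q ≤ K
  Q2 : IsPGroup 2 Q
  uniq : ∀ A, Th D Q A → ∀ g h : H, A ≤ cj g M → Q ≤ cj g M → A ≤ cj h M → Q ≤ cj h M → cj g M = cj h M
  two : ∃ A B, Th D Q A ∧ Th D Q B ∧ Opp M Q A B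
  pair : ∀ A B, Th D Q A → Th D Q B → Opp M Q A B → Nat2 V A B ∧ ∀ a ∈ A, ∀ x ∈ Q, a * x = x * a

end Cfsg.Agent.Omega.FF.Glob
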