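import Cfsg.Agent.Omega.FF.GlobOne

/-!
# The FF-theorem, global part (C): members of `Θ` with the same point are equal
-/

set_option autoImplicit false
set_option linter.unusedSectionVars false

namespace Cfsg.Agent.Omega.FF.Glob

open Subgroup Cfsg.Agent.ClassTwoFusion.Quad Cfsg.Agent.LieClassical Matrix
open scoped Pointwise
open Cfsg.Agent.ZN (o2 le_o2 isPGroup_o2 normalizer_le_normalizer_o2)

variable {H V : Type*} [Group H] [Group V] [MulDistribMulAction H V]

/-- `v ↦ [v, x]` -/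
def dH (hc : ∀ v w : V, v * w = w * v) (x : H) : V →* V :=
  MonoidHom.mk' (fun v => d x v) (fun v w => by
    show (x • (v * w)) * (v * w) = (x • v) * v * ((x • w) * w)
    rw [smul_mul', mul_assoc, mul_assoc, ← mul_assoc (x • w), hc (x • w) v, mul_assoc])

namespace Loc

variable {T : Sylow 2 H} {M : Subgroup H} {D : Set (Subgroup H)} {q : ℕ} {Q : Subgroup H} (h : Loc V T M D q Q)
include h

theorem exists_sylow_cj [Finite H] {P : Subgroup H} (hP : IsPGroup 2 P) : ∃ g, P ≤ cj g (T : Subgroup H) := by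
  have : Fact (Nat.Prime 2) := ⟨Nat.prime_two⟩
  obtain ⟨S, hS⟩ := hP.exists_le_sylow
  obtain ⟨g, hg⟩ := MulAction.exists_smul_eq H T S
  refine ⟨g, hS.trans (le_of_eq ?_)⟩
  rw [← hg]
  ext x
  rw [mem_cj, Sylow.coe_subgroup_smul, Subgroup.mem_pointwise_smul_iff_inv_smul_mem, ← map_inv, MulAut.smul_def,
    MulAut.conj_apply, inv_inv]

/-- a 2-group normalised by `A`, `B` and `Q` has a fixed point in `V` which is moved by `⟨A, B⟩` -/
theorem exists_fix [Finite H] {A B P : Subgroup H} (hA : Th D Q A) (hAB : Opp M Q A B)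
    (hP : IsPGroup 2 P) (hPn : normalizer (Q : Set H) ≤ normalizer (P : Set H)) :
    ∃ v : V, (∀ x ∈ P, x • v = v) ∧ ∃ l ∈ A ⊔ B, l • v ≠ v := by
  have h1 : A ⊔ Q ≤ normalizer (P : Set H) := sup_le (hA.norm.trans hPn) (le_normalizer.trans hPn)
  have h2 : IsPGroup 2 ((A ⊔ Q) ⊔ P : Subgroup H) := (h.isPGroup_AQ hA).to_sup_of_normal_right' hP h1
  obtain ⟨g, hg⟩ := h.exists_sylow_cj h2
  obtain ⟨v₀, hv₀, x₀, hx₀⟩ := h.nfix
  have hfix : ∀ x ∈ cj g (T : Subgroup H), x • (g • v₀) = g • v₀ := by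
    intro x hx
    rw [mem_cj] at hx
    have h3 := hv₀ _ hx
    have h4 := congrArg (fun w => g • w) h3
    simp only [← mul_smul] at h4
    have e : g * (g⁻¹ * x * g) = x * g := by group
    rw [e, mul_smul] at h4
    exact h4
  refine ⟨g • v₀, fun x hx => hfix x (hg (mem_sup_right hx)), ?_⟩
  by_contra hc
  push Not at hc
  have h3 : A ⊔ B ≤ MulAction.stabilizer H (g • v₀) := fun l hl => hc l hl
  have h4 : cj g (T : Subgroup H) ≤ MulAction.stabilizer H (g • v₀) := fun l hl => hfix l hl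
  rcases h.max (cj g⁻¹ (MulAction.stabilizer H (g • v₀))) (by rw [← cj_le_iff]; exact h4) with h5 | h5
  · rw [cj_le_iff, inv_inv] at h5
    exact hAB g (le_sup_left.trans (h3.trans h5)) (le_sup_right.trans (h3.trans h5))
      ((le_sup_right.trans (le_sup_left.trans hg)).trans (h4.trans h5))
  · have h6 : MulAction.stabilizer H (g • v₀) = ⊤ := by
      rw [eq_top_iff]
      intro x _
      have h7 : g⁻¹ * x * g ∈ cj g⁻¹ (MulAction.stabilizer H (g • v₀)) := by rw [h5]; trivial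
      rw [mem_cj, inv_inv] at h7
      have e : g * (g⁻¹ * x * g) * g⁻¹ = x := by group
      rwa [e] at h7
    apply hx₀
    have h7 : g * x₀ * g⁻¹ ∈ MulAction.stabilizer H (g • v₀) := by rw [h6]; trivial
    have h8 : (g * x₀ * g⁻¹) • (g • v₀) = g • v₀ := h7
    rw [← mul_smul, inv_mul_cancel_right, mul_smul] at h8
    exact smul_left_cancel g h8

/-- `V = C_V(P) C_V(⟨A, B⟩)` -/
theorem decomp {A B P : Subgroup H} (hA : Th D Q A) (hB : Th D Q B) (hAB : Opp M Q A B)
    (hPn : A ⊔ B ≤ normalizer (P : Set H)) {v₀ : V} (h0 : ∀ x ∈ P, x • v₀ = v₀) (h0' : ∃ l ∈ A ⊔ B, l • v₀ ≠ v₀)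
    (v : V) : ∃ a : V, (∀ x ∈ P, x • a = a) ∧ ∃ b : V, (∀ l ∈ A ⊔ B, l • b = b) ∧ v = a * b := by
  obtain ⟨F, _, _, π, φ, hn⟩ := h.nat2 hA hB hAB
  have h1 : pr h.comm (cv V (P : Set H)) (cv V ((A ⊔ B : Subgroup H) : Set H)) = ⊤ := by
    apply hn.irr (v := v₀)
    · rintro l hl _ ⟨a, ha, b, hb, rfl⟩
      refine ⟨l • a, ?_, l • b, ?_, smul_mul' _ _ _⟩
      · intro x hx
        have h2 : l⁻¹ * x * l ∈ P := by
          have := (mem_normalizer_iff.1 (hPn (inv_mem hl)) x).1 hx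
          rwa [inv_inv] at this
        have h3 := ha _ h2
        have h4 := congrArg (fun w => l • w) h3
        simp only [← mul_smul] at h4
        have e : l * (l⁻¹ * x * l) = x * l := by group
        rw [e, mul_smul] at h4
        exact h4
      · rw [hb l hl]; exact hb
    · intro v hv
      exact ⟨1, one_mem _, v, hv, (one_mul v).symm⟩
    · exact ⟨v₀, h0, 1, one_mem _, (mul_one v₀).symm⟩
    · exact h0'
  have h2 : v ∈ pr h.comm (cv V (P : Set H)) (cv V ((A ⊔ B : Subgroup H) : Set H)) := by rw [h1]; trivial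
  obtain ⟨a, ha, b, hb, e⟩ := h2
  exact ⟨a, ha, b, hb, e⟩

theorem same_eq [Finite H] [Finite V] {A A' : Subgroup H} (hA : Th D Q A) (hA' : Th D Q A')
    (hs : ¬ Opp M Q A A') : A = A' := by
  by_contra hne
  obtain ⟨a, ha, a', ha', hx, hx1⟩ := h.exists_KK hA hA' hs hne
  obtain ⟨B, hB, hAB⟩ := h.exists_opp hA
  have hA'B : Opp M Q A' B := by
    by_contra h1
    exact h.same_trans hA' hs h1 hAB
  set x := a' * a with hxdef
  have haE : a ∈ EE M Q D A := le_EE hA (h.same_refl hA) ha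
  have haE' : a' ∈ EE M Q D A := le_EE hA' hs ha'
  have hxE : x ∈ EE M Q D A := mul_mem haE' haE
  have hxx : x * x = 1 := h.EE_sq hA x hxE
  have hxP : x ∈ o2 h.KK := h.le_o2_KK hA ⟨hxE, hx⟩
  have hPn : normalizer (Q : Set H) ≤ normalizer (o2 h.KK : Set H) :=
    h.normalizer_KK.trans (normalizer_le_normalizer_o2 _)
  have hLn : A ⊔ B ≤ normalizer (o2 h.KK : Set H) := (h.sup_le_norm hA hB).trans hPn
  obtain ⟨v₀, hv₀, hv₀'⟩ := h.exists_fix (B := B) hA hAB (isPGroup_o2 h.KK) hPn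
  have hdec := h.decomp hA hB hAB hLn hv₀ hv₀'
  -- `[v, x] ∈ [V, a']`
  have hdx : ∀ v : V, ∃ w : V, (∀ l ∈ A ⊔ B, l • w = w) ∧ d x v = d x w ∧ d x w = d a' w := by
    intro v
    obtain ⟨v₁, hv₁, w, hw, rfl⟩ := hdec v
    refine ⟨w, hw, ?_, ?_⟩
    · rw [h.d_mul, (h.d_eq_one x v₁).2 (hv₁ x hxP), one_mul]
    · rw [d, d, hxdef, mul_smul, hw a (mem_sup_left ha)]
  -- `|V : C_V(x)| ≤ q`
  have hidx : (dH h.comm x).ker.index ≤ q := by
    rw [Subgroup.index_ker]
    have h1 : (dH h.comm x).range ≤ (dH h.comm a').range := by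
      rintro _ ⟨v, rfl⟩
      obtain ⟨w, -, e1, e2⟩ := hdx v
      exact ⟨w, (e1.trans e2).symm⟩
    refine (Subgroup.card_le_of_le h1).trans ?_
    rw [← Subgroup.index_ker]
    have h2 : (dH h.comm a').ker = cv V (A' : Set H) := by
      have ha'1 : a' ≠ 1 := by
        rintro h3
        -- `x = a`, but `[V, x] ≤ [V, 1]`
        obtain ⟨v, hv⟩ := h.exists_mv hx1
        apply hv
        obtain ⟨w, -, e1, e2⟩ := hdx v
        rw [← h.d_eq_one, e1, e2, h3, h.d_eq_one, one_smul]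
      ext v
      constructor
      · intro hv
        have h3 : d a' v = 1 := hv
        exact h.ti A' hA'.mem a' ha' ha'1 v ((h.d_eq_one a' v).1 h3)
      · intro hv
        exact (h.d_eq_one a' v).2 (hv a' ha')
    rw [h2, h.idx A' hA'.mem]
  -- the closure of `x` under `⟨A, B⟩`
  set κ : Subgroup H := closure {y | ∃ l ∈ A ⊔ B, y = l * x * l⁻¹} with hκ
  have hgen : ∀ l ∈ A ⊔ B, l * x * l⁻¹ ∈ κ := fun l hl => subset_closure ⟨l, hl, rfl⟩
  have hfixall : ∀ k ∈ κ, ∀ v : V, x • v = v → k • v = v := by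
    intro k hk v hv
    have h1 : κ ≤ MulAction.stabilizer H v := by
      rw [hκ, closure_le]
      rintro _ ⟨l, hl, rfl⟩
      show (l * x * l⁻¹) • v = v
      have hyP : l * x * l⁻¹ ∈ o2 h.KK := (mem_normalizer_iff.1 (hLn hl) x).1 hxP
      obtain ⟨v₁, hv₁, w, hw, rfl⟩ := hdec v
      rw [smul_mul', hv₁ _ hyP]
      rw [smul_mul', hv₁ x hxP] at hv
      have h2 : x • w = w := mul_left_cancel hv
      rw [mul_smul, mul_smul, hw _ (inv_mem hl), h2, hw l hl]
    exact h1 hk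
  have hκn : ∀ l ∈ A ⊔ B, ∀ k ∈ κ, l * k * l⁻¹ ∈ κ := by
    intro l hl
    have h1 : κ ≤ cj l⁻¹ κ := by
      rw [hκ, closure_le]
      rintro _ ⟨m, hm, rfl⟩
      show _ ∈ cj l⁻¹ κ
      rw [mem_cj, inv_inv]
      have e : l * (m * x * m⁻¹) * l⁻¹ = (l * m) * x * (l * m)⁻¹ := by group
      rw [e]
      exact hgen _ (mul_mem hl hm)
    intro k hk
    have h2 := h1 hk
    rwa [mem_cj, inv_inv] at h2
  have hquad : ∀ k ∈ κ, ∀ v : V, x • d k v = d k v := by
    intro k hk
    rw [hκ] at hk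
    refine closure_induction (p := fun k _ => ∀ v : V, x • d k v = d k v) ?_ ?_ ?_ ?_ hk
    · rintro _ ⟨l, hl, rfl⟩ v
      have e1 : d (l * x * l⁻¹) v = l • d x (l⁻¹ • v) := by
        rw [d, d, smul_mul', ← mul_smul, ← mul_smul, ← mul_smul, mul_inv_cancel, one_smul]
      have e2 : x • d x (l⁻¹ • v) = d x (l⁻¹ • v) := by
        rw [d, smul_mul', ← mul_smul x x, hxx, one_smul, h.comm]
      rw [e1]
      have h3 := hfixall _ (by simpa using hgen _ (inv_mem hl) : l⁻¹ * x * l ∈ κ) _ e2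
      have h4 := congrArg (fun w => l • w) h3
      simp only [← mul_smul] at h4
      have e : l * (l⁻¹ * x * l) = x * l := by group
      rw [e, mul_smul] at h4
      exact h4
    · intro v
      rw [(h.d_eq_one 1 v).2 (one_smul _ _), smul_one]
    · intro k k' hk hk' hp hp' v
      have e1 : d (k * k') v = d k' v * d k v := by
        rw [d, mul_smul, h.smul_eq k' v, smul_mul', hfixall k hk _ (hp' v), h.smul_eq k v, mul_assoc, mul_assoc,
          h.sq, mul_one]
      rw [e1, smul_mul', hp, hp']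
    · intro k hk hp v
      have e0 : k • d k⁻¹ v = d k v := by
        rw [d, smul_mul', ← mul_smul, mul_inv_cancel, one_smul, h.comm]; rfl
      have e1 : d k⁻¹ v = d k v := by
        have h5 := hfixall k⁻¹ (inv_mem hk) _ (hp v)
        rw [← h5, ← e0, ← mul_smul, inv_mul_cancel, one_smul]
      rw [e1, hp]
  have hmul : ∀ k ∈ κ, ∀ k' ∈ κ, ∀ v : V, d (k * k') v = d k' v * d k v := by
    intro k hk k' hk' v
    rw [d, mul_smul, h.smul_eq k' v, smul_mul', hfixall k hk _ (hquad k' hk' v), h.smul_eq k v, mul_assoc,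
      mul_assoc, h.sq, mul_one]
  have hκsq : ∀ k ∈ κ, k * k = 1 := by
    intro k hk
    apply h.faith
    intro v
    rw [← h.d_eq_one, hmul k hk k hk, h.sq]
  have hxκ : x ∈ κ := by
    have := hgen 1 (one_mem _)
    rwa [one_mul, inv_one, mul_one] at this
  have hcard : Nat.card κ ≤ q := by
    refine (h.noover κ hκsq).trans ?_
    refine le_trans (le_of_eq ?_) hidx
    congr 1
    ext v
    constructor
    · intro hv
      exact (h.d_eq_one x v).2 (hv x hxκ)
    · intro hv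
      have h3 : d x v = 1 := hv
      exact fun k hk => hfixall k hk v ((h.d_eq_one x v).1 h3)
  -- lower bound
  obtain ⟨F, _, _, π, φ, hn⟩ := h.nat2 hA hB hAB
  obtain ⟨v, hv⟩ := h.exists_mv hx1
  obtain ⟨w, hw, e1, e2⟩ := hdx v
  have hxw : x • w ≠ w := by
    intro h1
    apply hv
    rw [← h.d_eq_one, e1, h.d_eq_one]
    exact h1
  let U : Subgroup V :=
    { carrier := {u | ∃ k ∈ κ, π u = π (d k w)}
      one_mem' := ⟨1, one_mem _, by rw [(h.d_eq_one 1 w).2 (one_smul _ _)]⟩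
      mul_mem' := by
        rintro u u' ⟨k, hk, hu⟩ ⟨k', hk', hu'⟩
        exact ⟨k' * k, mul_mem hk' hk, by rw [hmul k' hk' k hk, hn.mul, hn.mul, hu, hu']⟩
      inv_mem' := by
        rintro u ⟨k, hk, hu⟩
        refine ⟨k, hk, ?_⟩
        rw [h.inv_eq]
        exact hu }
  have hU : U = ⊤ := by
    apply hn.irr (v := d x w)
    · rintro l hl u ⟨k, hk, hu⟩
      refine ⟨l * k * l⁻¹, hκn l hl k hk, ?_⟩
      have e3 : d (l * k * l⁻¹) w = l • d k w := by
        rw [d, d, smul_mul', mul_smul, mul_smul, hw _ (inv_mem hl), hw l hl]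
      rw [e3, hn.act ⟨l, hl⟩ u, hn.act ⟨l, hl⟩ (d k w), hu]
    · intro u hu
      exact ⟨1, one_mem _, by rw [(h.d_eq_one 1 w).2 (one_smul _ _), hn.pi_one]; exact (hn.ker u).2 hu⟩
    · exact ⟨x, hxκ, rfl⟩
    · have h3 : a' • w ≠ w := by
        intro h4
        apply hxw
        rw [← h.d_eq_one, e2, h.d_eq_one]
        exact h4
      have h5 := h.star hA' hB hA'B ha' h3
      push Not at h5
      obtain ⟨b, hb, hbw⟩ := h5
      exact ⟨b, mem_sup_right hb, by rw [e2]; exact hbw⟩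
  have hsurj : Function.Surjective (fun k : κ => π (d (k : H) w)) := by
    intro z
    obtain ⟨u, rfl⟩ := hn.surj z
    have h3 : u ∈ U := by rw [hU]; trivial
    obtain ⟨k, hk, hu⟩ := h3
    exact ⟨⟨k, hk⟩, hu.symm⟩
  have h3 : Nat.card (Fin 2 → F) ≤ Nat.card κ := Nat.card_le_card_of_surjective _ hsurj
  have h4 : Nat.card (Fin 2 → F) = q ^ 2 := by
    rw [Nat.card_fun, hn.card_F, h.card A hA.mem, Nat.card_eq_fintype_card, Fintype.card_fin]
  have := h.two_le
  nlinarith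

end Loc

end Cfsg.Agent.Omega.FF.Glob
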