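import Cfsg.Agent.Omega.FF.GlobSemi

/-!
# The FF-theorem, global part: counting fixed points of semilinear maps in characteristic two
-/

set_option autoImplicit false
set_option linter.unusedSectionVars false

namespace Cfsg.Agent.Omega.FF.Glob

variable {F : Type} [Field F] [Finite F]

/-- the fixed points of `z ↦ α s(z)` -/
def FixS (s : F ≃+* F) (α : F) : AddSubgroup F where
  carrier := {z | α * s z = z}
  zero_mem' := by show α * s 0 = 0; rw [map_zero, mul_zero]
  add_mem' := by
    intro a b ha hb
    show α * s (a + b) = a + b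
    rw [map_add, mul_add, ha, hb]
  neg_mem' := by
    intro a ha
    show α * s (-a) = -a
    rw [map_neg, mul_neg, ha]

theorem mem_FixS {s : F ≃+* F} {α z : F} : z ∈ FixS s α ↔ α * s z = z := Iff.rfl

theorem card_FixS_le (s : F ≃+* F) (α : F) : Nat.card (FixS s α) ≤ Nat.card (FixS s 1) := by
  by_cases h : ∃ g ∈ FixS s α, g ≠ 0
  · obtain ⟨g, hg, hg0⟩ := h
    have hsg : s g ≠ 0 := fun h1 => hg0 (by rwa [map_eq_zero_iff s s.injective] at h1)
    refine Nat.card_le_card_of_injective (fun w : FixS s α => (⟨w.1 / g, ?_⟩ : FixS s 1)) ?_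
    · have hw : α * s w.1 = w.1 := w.2
      have hg' : α * s g = g := hg
      show 1 * s (w.1 / g) = w.1 / g
      rw [one_mul, map_div₀]
      rw [div_eq_div_iff hsg hg0]
      calc s w.1 * g = s w.1 * (α * s g) := by rw [hg']
        _ = (α * s w.1) * s g := by ring
        _ = w.1 * s g := by rw [hw]
    · intro w w' hww
      have h1 : w.1 / g = w'.1 / g := congrArg Subtype.val hww
      apply Subtype.ext
      field_simp at h1
      exact h1
  · push Not at h
    have h1 : FixS s α = ⊥ := by
      rw [eq_bot_iff]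
      intro x hx
      exact AddSubgroup.mem_bot.2 (h x hx)
    rw [h1, AddSubgroup.card_bot]
    exact Nat.card_pos

/-- a proper subgroup has at most half the elements -/
theorem two_mul_card_le {G : Type*} [AddGroup G] [Finite G] {K : AddSubgroup G} (h : ∃ x, x ∉ K) :
    2 * Nat.card K ≤ Nat.card G := by
  have h1 : K.index ≠ 1 := by
    intro h2
    rw [AddSubgroup.index_eq_one] at h2
    obtain ⟨x, hx⟩ := h
    exact hx (by rw [h2]; trivial)
  have h2 : K.index ≠ 0 := AddSubgroup.index_ne_zero_of_finite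
  rw [← K.card_mul_index, mul_comm 2]
  exact Nat.mul_le_mul le_rfl (by omega)

theorem two_mul_card_FixS {s : F ≃+* F} (hs : ∃ c, s c ≠ c) : 2 * Nat.card (FixS s 1) ≤ Nat.card F := by
  apply two_mul_card_le
  obtain ⟨c, hc⟩ := hs
  exact ⟨c, fun h => hc (by rw [mem_FixS, one_mul] at h; exact h)⟩

/-- the fixed points of an upper triangular semilinear map -/
theorem card_fix_le (s : F ≃+* F) {α γ δ : F} {C : AddSubgroup (Fin 2 → F)}
    (hC : ∀ w ∈ C, α * s (w 0) + γ * s (w 1) = w 0 ∧ δ * s (w 1) = w 1) :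
    Nat.card C ≤ Nat.card (FixS s 1) * Nat.card (FixS s 1) := by
  let f : C →+ F := (Pi.evalAddMonoidHom (fun _ : Fin 2 => F) 1).comp C.subtype
  have h1 : Nat.card C = Nat.card f.range * Nat.card f.ker := by
    rw [← AddSubgroup.index_ker, mul_comm, AddSubgroup.card_mul_index]
  rw [h1]
  apply Nat.mul_le_mul
  · refine le_trans ?_ (card_FixS_le s δ)
    apply AddSubgroup.card_le_of_le
    rintro _ ⟨w, rfl⟩
    exact (hC w.1 w.2).2
  · refine le_trans ?_ (card_FixS_le s α)
    refine Nat.card_le_card_of_injective (fun w : f.ker => (⟨w.1.1 0, ?_⟩ : FixS s α)) ?_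
    · have hw : w.1.1 1 = 0 := w.2
      have h2 := (hC w.1.1 w.1.2).1
      rw [hw, map_zero, mul_zero, add_zero] at h2
      exact h2
    · intro w w' hww
      have h0 : w.1.1 0 = w'.1.1 0 := congrArg Subtype.val hww
      have hw : w.1.1 1 = 0 := w.2
      have hw' : w'.1.1 1 = 0 := w'.2
      apply Subtype.ext
      apply Subtype.ext
      funext i
      fin_cases i
      · exact h0
      · exact hw.trans hw'.symm

/-- the fixed points on the line -/
theorem card_fix_le' (s : F ≃+* F) {α γ : F} {C : AddSubgroup (Fin 2 → F)}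
    (hC : ∀ w ∈ C, α * s (w 0) + γ * s (w 1) = w 0) (hC' : ∀ w ∈ C, w 1 = 0) :
    Nat.card C ≤ Nat.card (FixS s 1) := by
  refine le_trans ?_ (card_FixS_le s α)
  refine Nat.card_le_card_of_injective (fun w : C => (⟨w.1 0, ?_⟩ : FixS s α)) ?_
  · have h2 := hC w.1 w.2
    rw [hC' w.1 w.2, map_zero, mul_zero, add_zero] at h2
    exact h2
  · intro w w' hww
    have h0 : w.1 0 = w'.1 0 := congrArg Subtype.val hww
    apply Subtype.ext
    funext i
    fin_cases i
    · exact h0
    · exact (hC' _ w.2).trans (hC' _ w'.2).symm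

theorem card_line_le {C : AddSubgroup (Fin 2 → F)} (hC' : ∀ w ∈ C, w 1 = 0) : Nat.card C ≤ Nat.card F := by
  refine Nat.card_le_card_of_injective (fun w : C => w.1 0) ?_
  intro w w' hww
  apply Subtype.ext
  funext i
  fin_cases i
  · exact hww
  · exact (hC' _ w.2).trans (hC' _ w'.2).symm

theorem card_all_le (C : AddSubgroup (Fin 2 → F)) : Nat.card C ≤ Nat.card F * Nat.card F := by
  refine (Nat.card_le_card_of_injective (fun w : C => w.1) Subtype.val_injective).trans ?_
  rw [Nat.card_fun, Nat.card_eq_fintype_card (α := Fin 2), Fintype.card_fin, sq]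

end Cfsg.Agent.Omega.FF.Glob
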