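import Cfsg.Agent.Omega.FF.GlobNat
import Cfsg.Agent.ZN.Facts

/-!
# The FF-theorem, global part (A)-(C): at every point there is exactly one member of `Θ`
-/

set_option autoImplicit false
set_option linter.unusedSectionVars false

namespace Cfsg.Agent.Omega.FF.Glob

open Subgroup Cfsg.Agent.ClassTwoFusion.Quad Cfsg.Agent.LieClassical Matrix

variable {H V : Type*} [Group H] [Group V] [MulDistribMulAction H V]

namespace NatAt

variable {A B : Subgroup H} {F : Type} [Field F] {π : V → (Fin 2 → F)}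
  {φ : ↥(A ⊔ B) →* Matrix.SpecialLinearGroup (Fin 2) F} (h : NatAt A B π φ)
include h

theorem memA_iff (x : ↥(A ⊔ B)) : (x : H) ∈ A ↔ (φ x).1.mulVec ![1, 0] = ![1, 0] := by
  rw [h.memA]
  constructor
  · rintro ⟨c, hc⟩
    rw [hc, u_mulVec]
    ext i; fin_cases i <;> simp
  · intro h1
    have h2 := congrFun h1 0
    have h3 := congrFun h1 1
    simp only [Matrix.mulVec, dotProduct, Fin.sum_univ_two, cons_val_zero, cons_val_one, mul_one, mul_zero,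
      add_zero] at h2 h3
    have h4 : (φ x).1.det = 1 := (φ x).2
    rw [det_fin_two, h2, h3] at h4
    refine ⟨(φ x).1 0 1, ?_⟩
    apply Subtype.ext
    show (φ x).1 = !![1, (φ x).1 0 1; 0, 1]
    ext i j
    fin_cases i <;> fin_cases j
    · exact h2
    · rfl
    · exact h3
    · show (φ x).1 1 1 = 1
      linear_combination h4

theorem memB_iff (x : ↥(A ⊔ B)) : (x : H) ∈ B ↔ (φ x).1.mulVec ![0, 1] = ![0, 1] := by
  rw [h.memB]
  constructor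
  · rintro ⟨c, hc⟩
    rw [hc, l_mulVec]
    ext i; fin_cases i <;> simp
  · intro h1
    have h2 := congrFun h1 0
    have h3 := congrFun h1 1
    simp only [Matrix.mulVec, dotProduct, Fin.sum_univ_two, cons_val_zero, cons_val_one, mul_one, mul_zero,
      zero_add] at h2 h3
    have h4 : (φ x).1.det = 1 := (φ x).2
    rw [det_fin_two, h2, h3] at h4
    refine ⟨(φ x).1 1 0, ?_⟩
    apply Subtype.ext
    show (φ x).1 = !![1, 0; (φ x).1 1 0, 1]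
    ext i j
    fin_cases i <;> fin_cases j
    · show (φ x).1 0 0 = 1
      linear_combination h4
    · exact h2
    · rfl
    · exact h3

theorem cj_mem {l x : H} (hl : l ∈ A ⊔ B) (hx : x ∈ A ⊔ B) :
    x ∈ cj l A ↔ (φ ⟨x, hx⟩).1.mulVec ((φ ⟨l, hl⟩).1.mulVec ![1, 0]) = (φ ⟨l, hl⟩).1.mulVec ![1, 0] := by
  rw [mem_cj]
  have h1 := h.memA_iff ((⟨l, hl⟩ : ↥(A ⊔ B))⁻¹ * ⟨x, hx⟩ * ⟨l, hl⟩)
  have h2 : (((⟨l, hl⟩ : ↥(A ⊔ B))⁻¹ * ⟨x, hx⟩ * ⟨l, hl⟩ : ↥(A ⊔ B)) : H) = l⁻¹ * x * l := rfl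
  rw [h2] at h1
  rw [h1, map_mul, map_mul, map_inv]
  have e1 : ((φ ⟨l, hl⟩)⁻¹).1 * (φ ⟨l, hl⟩).1 = 1 := congrArg Subtype.val (inv_mul_cancel (φ ⟨l, hl⟩))
  have e2 : (φ ⟨l, hl⟩).1 * ((φ ⟨l, hl⟩)⁻¹).1 = 1 := congrArg Subtype.val (mul_inv_cancel (φ ⟨l, hl⟩))
  show (((φ ⟨l, hl⟩)⁻¹).1 * (φ ⟨x, hx⟩).1 * (φ ⟨l, hl⟩).1).mulVec ![1, 0] = _ ↔ _
  constructor
  · intro h3
    have h4 := congrArg ((φ ⟨l, hl⟩).1.mulVec) h3
    rw [Matrix.mulVec_mulVec, ← mul_assoc, ← mul_assoc, e2, one_mul, ← Matrix.mulVec_mulVec] at h4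
    exact h4
  · intro h3
    rw [mul_assoc, ← Matrix.mulVec_mulVec, ← Matrix.mulVec_mulVec, h3, Matrix.mulVec_mulVec, e1,
      Matrix.one_mulVec]

theorem cj_mem' {l x : H} (hl : l ∈ A ⊔ B) (hx : x ∈ A ⊔ B) :
    x ∈ cj l B ↔ (φ ⟨x, hx⟩).1.mulVec ((φ ⟨l, hl⟩).1.mulVec ![0, 1]) = (φ ⟨l, hl⟩).1.mulVec ![0, 1] := by
  rw [mem_cj]
  have h1 := h.memB_iff ((⟨l, hl⟩ : ↥(A ⊔ B))⁻¹ * ⟨x, hx⟩ * ⟨l, hl⟩)
  have h2 : (((⟨l, hl⟩ : ↥(A ⊔ B))⁻¹ * ⟨x, hx⟩ * ⟨l, hl⟩ : ↥(A ⊔ B)) : H) = l⁻¹ * x * l := rfl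
  rw [h2] at h1
  rw [h1, map_mul, map_mul, map_inv]
  have e1 : ((φ ⟨l, hl⟩)⁻¹).1 * (φ ⟨l, hl⟩).1 = 1 := congrArg Subtype.val (inv_mul_cancel (φ ⟨l, hl⟩))
  have e2 : (φ ⟨l, hl⟩).1 * ((φ ⟨l, hl⟩)⁻¹).1 = 1 := congrArg Subtype.val (mul_inv_cancel (φ ⟨l, hl⟩))
  show (((φ ⟨l, hl⟩)⁻¹).1 * (φ ⟨x, hx⟩).1 * (φ ⟨l, hl⟩).1).mulVec ![0, 1] = _ ↔ _
  constructor
  · intro h3
    have h4 := congrArg ((φ ⟨l, hl⟩).1.mulVec) h3
    rw [Matrix.mulVec_mulVec, ← mul_assoc, ← mul_assoc, e2, one_mul, ← Matrix.mulVec_mulVec] at h4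
    exact h4
  · intro h3
    rw [mul_assoc, ← Matrix.mulVec_mulVec, ← Matrix.mulVec_mulVec, h3, Matrix.mulVec_mulVec, e1,
      Matrix.one_mulVec]

/-- the conjugates of `A` in `⟨A, B⟩` -/
theorem cj_A {l : H} (hl : l ∈ A ⊔ B) : cj l A = A ∨ ∃ a ∈ A, cj l A = cj a B := by
  have hcl : cj l A ≤ A ⊔ B := by
    intro x hx
    rw [mem_cj] at hx
    have h1 := mul_mem (mul_mem hl (mem_sup_left hx : l⁻¹ * x * l ∈ A ⊔ B)) (inv_mem hl)
    have e : l * (l⁻¹ * x * l) * l⁻¹ = x := by group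
    rwa [e] at h1
  have hscal : ∀ (N : SpecialLinearGroup (Fin 2) F) (c : F) (w : Fin 2 → F), c ≠ 0 →
      (N.1.mulVec (c • w) = c • w ↔ N.1.mulVec w = w) := by
    intro N c w hc
    rw [Matrix.mulVec_smul]
    exact (smul_right_injective _ hc).eq_iff
  by_cases h0 : ((φ ⟨l, hl⟩).1.mulVec ![1, 0]) 1 = 0
  · left
    set w := (φ ⟨l, hl⟩).1.mulVec ![1, 0] with hw
    have hw0 : w 0 ≠ 0 := by
      intro h1
      have h2 : w = 0 := by ext i; fin_cases i <;> assumption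
      have e1 : ((φ ⟨l, hl⟩)⁻¹).1 * (φ ⟨l, hl⟩).1 = 1 := congrArg Subtype.val (inv_mul_cancel (φ ⟨l, hl⟩))
      have h3 := congrArg (((φ ⟨l, hl⟩)⁻¹).1.mulVec) (hw.symm.trans h2)
      rw [Matrix.mulVec_mulVec, e1, Matrix.one_mulVec, Matrix.mulVec_zero] at h3
      exact one_ne_zero (congrFun h3 0)
    have hww : w = w 0 • ![1, 0] := by ext i; fin_cases i <;> simp [h0]
    ext x
    constructor
    · intro hx
      rw [h.cj_mem hl (hcl hx), ← hw, hww, hscal _ _ _ hw0] at hx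
      exact (h.memA_iff ⟨x, _⟩).2 hx
    · intro hx
      rw [h.cj_mem hl (mem_sup_left hx), ← hw, hww, hscal _ _ _ hw0]
      exact (h.memA_iff ⟨x, mem_sup_left hx⟩).1 hx
  · right
    set w := (φ ⟨l, hl⟩).1.mulVec ![1, 0] with hw
    obtain ⟨y, hy⟩ := h.bij.2 (SLTwoUnipotent.u (w 0 * (w 1)⁻¹))
    have hyA : (y : H) ∈ A := (h.memA y).2 ⟨_, hy⟩
    refine ⟨y, hyA, ?_⟩
    have hww : w = w 1 • (φ y).1.mulVec ![0, 1] := by
      rw [hy, u_mulVec]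
      ext i; fin_cases i
      · simp; field_simp
      · simp
    have hcy : cj (y : H) B ≤ A ⊔ B := by
      intro x hx
      rw [mem_cj] at hx
      have h1 := mul_mem (mul_mem y.2 (mem_sup_right hx : (y : H)⁻¹ * x * y ∈ A ⊔ B)) (inv_mem y.2)
      have e : (y : H) * ((y : H)⁻¹ * x * y) * (y : H)⁻¹ = x := by group
      rwa [e] at h1
    ext x
    constructor
    · intro hx
      have hx' := hcl hx
      rw [h.cj_mem hl (hcl hx), ← hw, hww, hscal _ _ _ h0] at hx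
      exact (h.cj_mem' y.2 hx').2 hx
    · intro hx
      rw [h.cj_mem hl (hcy hx), ← hw, hww, hscal _ _ _ h0]
      exact (h.cj_mem' y.2 (hcy hx)).1 hx

/-- `A` acts semiregularly on the conjugates of `A` different from `A` -/
theorem cj_B_ne {a : H} (ha : a ∈ A) (ha1 : a ≠ 1) : cj a B ≠ B := by
  intro h1
  obtain ⟨c, hc⟩ := (h.memA ⟨a, mem_sup_left ha⟩).1 ha
  have hc0 : c ≠ 0 := by
    rintro rfl
    rw [SLTwoUnipotent.u_zero, ← map_one φ] at hc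
    exact ha1 (congrArg Subtype.val (h.bij.1 hc))
  obtain ⟨y, hy⟩ := h.bij.2 (SLTwoUnipotent.l 1)
  have hyB : (y : H) ∈ B := (h.memB y).2 ⟨1, hy⟩
  have h2 : (y : H) ∈ cj a B := h1.symm ▸ hyB
  have h3 := (h.cj_mem' (mem_sup_left ha) y.2).1 h2
  rw [hc, u_mulVec] at h3
  have h4 := congrFun h3 1
  have h5 : (φ ⟨(y : H), y.2⟩) = SLTwoUnipotent.l 1 := hy
  rw [h5, l_mulVec] at h4
  simp at h4
  exact hc0 h4

end NatAt

end Cfsg.Agent.Omega.FF.Glob
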