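import Cfsg.Agent.Omega.FF.GlobDef

/-!
# The FF-theorem, global part: conjugation, and the basic properties of `Nat2`
-/

set_option autoImplicit false
set_option linter.unusedSectionVars false

namespace Cfsg.Agent.Omega.FF.Glob

open Subgroup Cfsg.Agent.ClassTwoFusion.Quad Cfsg.Agent.LieClassical Matrix

section Cj

variable {H : Type*} [Group H]

theorem conj_mem_cj {g : H} {A : Subgroup H} {x : H} (hx : x ∈ A) : g * x * g⁻¹ ∈ cj g A := by
  rw [mem_cj]
  have : g⁻¹ * (g * x * g⁻¹) * g = x := by group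
  rwa [this]

theorem cj_mono {g : H} {A B : Subgroup H} (h : A ≤ B) : cj g A ≤ cj g B := fun _ hx =>
  mem_cj.2 (h (mem_cj.1 hx))

theorem cj_one (A : Subgroup H) : cj 1 A = A := by
  ext x
  rw [mem_cj, inv_one, one_mul, mul_one]

theorem cj_cj (g h : H) (A : Subgroup H) : cj g (cj h A) = cj (g * h) A := by
  ext x
  rw [mem_cj, mem_cj, mem_cj]
  have : h⁻¹ * (g⁻¹ * x * g) * h = (g * h)⁻¹ * x * (g * h) := by group
  rw [this]

theorem cj_inv_cj (g : H) (A : Subgroup H) : cj g⁻¹ (cj g A) = A := by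
  rw [cj_cj, inv_mul_cancel, cj_one]

theorem cj_cj_inv (g : H) (A : Subgroup H) : cj g (cj g⁻¹ A) = A := by
  rw [cj_cj, mul_inv_cancel, cj_one]

theorem cj_le_iff {g : H} {A B : Subgroup H} : cj g A ≤ B ↔ A ≤ cj g⁻¹ B := by
  constructor
  · intro h
    have := cj_mono (g := g⁻¹) h
    rwa [cj_inv_cj] at this
  · intro h
    have := cj_mono (g := g) h
    rwa [cj_cj_inv] at this

theorem le_cj_iff {g : H} {A B : Subgroup H} : A ≤ cj g B ↔ cj g⁻¹ A ≤ B := by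
  rw [cj_le_iff, inv_inv]

theorem cj_le_cj_iff {g : H} {A B : Subgroup H} : cj g A ≤ cj g B ↔ A ≤ B := by
  rw [cj_le_iff, cj_inv_cj]

theorem cj_inj {g : H} {A B : Subgroup H} (h : cj g A = cj g B) : A = B := by
  rw [← cj_inv_cj g A, h, cj_inv_cj]

theorem cj_sup (g : H) (A B : Subgroup H) : cj g (A ⊔ B) = cj g A ⊔ cj g B := by
  apply le_antisymm
  · rw [cj_le_iff]
    apply sup_le
    · rw [← cj_le_iff]; exact le_sup_left
    · rw [← cj_le_iff]; exact le_sup_right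
  · exact sup_le (cj_mono le_sup_left) (cj_mono le_sup_right)

/-- conjugation as an isomorphism -/
def cjEquiv (g : H) (A : Subgroup H) : cj g A ≃* A where
  toFun x := ⟨g⁻¹ * x * g, mem_cj.1 x.2⟩
  invFun x := ⟨g * x * g⁻¹, conj_mem_cj x.2⟩
  left_inv x := Subtype.ext (by show g * (g⁻¹ * (x : H) * g) * g⁻¹ = x; group)
  right_inv x := Subtype.ext (by show g⁻¹ * (g * (x : H) * g⁻¹) * g = x; group)
  map_mul' x y := Subtype.ext (by
    show g⁻¹ * ((x : H) * y) * g = g⁻¹ * x * g * (g⁻¹ * y * g); group)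

theorem card_cj (g : H) (A : Subgroup H) : Nat.card (cj g A) = Nat.card A :=
  Nat.card_congr (cjEquiv g A).toEquiv

theorem cj_eq_iff {g : H} {A : Subgroup H} : cj g A = A ↔ g ∈ normalizer (A : Set H) := by
  rw [← inv_mem_iff, mem_normalizer_iff, SetLike.ext_iff]
  constructor
  · intro h x
    rw [← h x, mem_cj, inv_inv]
  · intro h x
    rw [h x, mem_cj, inv_inv]

theorem cj_eq_of_mem {g : H} {A : Subgroup H} (hg : g ∈ A) : cj g A = A :=
  cj_eq_iff.2 (le_normalizer hg)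

theorem cj_of_comm {g : H} {A : Subgroup H} (h : ∀ a ∈ A, g * a = a * g) : cj g A = A := by
  rw [cj_eq_iff, mem_normalizer_iff]
  intro x
  constructor
  · intro hx
    rw [h x hx, mul_inv_cancel_right]; exact hx
  · intro hx
    have h1 := h _ hx
    have h2 : g * x * g⁻¹ = x := by
      have h3 : g * (g * x * g⁻¹) * g⁻¹ = g * x * g⁻¹ := by rw [h1]; group
      calc g * x * g⁻¹ = g⁻¹ * (g * (g * x * g⁻¹) * g⁻¹) * g := by group
        _ = g⁻¹ * (g * x * g⁻¹) * g := by rw [h3]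
        _ = x := by group
    rwa [h2] at hx

theorem normalizer_cj (g : H) (A : Subgroup H) : normalizer (cj g A : Set H) = cj g (normalizer (A : Set H)) := by
  ext x
  rw [mem_cj, ← cj_eq_iff, ← cj_eq_iff, cj_cj]
  constructor
  · intro h
    rw [← cj_cj, ← cj_cj, cj_cj x g, h, cj_inv_cj]
  · intro h
    have h1 := congrArg (cj g) h
    rw [cj_cj] at h1
    have e : g * (g⁻¹ * x * g) = x * g := by group
    rwa [e] at h1

theorem isPGroup_cj {p : ℕ} {g : H} {A : Subgroup H} (h : IsPGroup p A) : IsPGroup p (cj g A) :=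
  h.of_equiv (cjEquiv g A).symm

end Cj

section Mat

variable {F : Type} [Field F]

theorem exists_mulVec_one_zero (w : Fin 2 → F) : ∃ g : SpecialLinearGroup (Fin 2) F, (g.1.mulVec w) 1 = 0 := by
  by_cases h : w 1 = 0
  · exact ⟨1, by simpa using h⟩
  · refine ⟨⟨!![0, -(w 1)⁻¹; w 1, -(w 0)], ?_⟩, ?_⟩
    · rw [det_fin_two_of]; field_simp; ring
    · show (Matrix.mulVec !![0, -(w 1)⁻¹; w 1, -(w 0)] w) 1 = 0
      simp [Matrix.mulVec, dotProduct, Fin.sum_univ_two]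
      ring

theorem exists_mulVec_e0 {w : Fin 2 → F} (hw : w ≠ 0) :
    ∃ g : SpecialLinearGroup (Fin 2) F, g.1.mulVec ![1, 0] = w := by
  by_cases h : w 0 = 0
  · have h1 : w 1 ≠ 0 := by
      intro h1; apply hw; ext i; fin_cases i
      · exact h
      · exact h1
    refine ⟨⟨!![w 0, -(w 1)⁻¹; w 1, 0], ?_⟩, ?_⟩
    · rw [det_fin_two_of]; field_simp; ring
    · ext i; fin_cases i <;> simp [Matrix.mulVec, dotProduct, Fin.sum_univ_two]
  · refine ⟨⟨!![w 0, 0; w 1, (w 0)⁻¹], ?_⟩, ?_⟩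
    · rw [det_fin_two_of]; field_simp; ring
    · ext i; fin_cases i <;> simp [Matrix.mulVec, dotProduct, Fin.sum_univ_two]

theorem exists_mulVec_eq {w w' : Fin 2 → F} (hw : w ≠ 0) (hw' : w' ≠ 0) :
    ∃ g : SpecialLinearGroup (Fin 2) F, g.1.mulVec w = w' := by
  obtain ⟨g, hg⟩ := exists_mulVec_e0 hw
  obtain ⟨g', hg'⟩ := exists_mulVec_e0 hw'
  refine ⟨g' * g⁻¹, ?_⟩
  have h2 : (g⁻¹).1 * g.1 = 1 := congrArg Subtype.val (inv_mul_cancel g)
  show (g'.1 * (g⁻¹).1).mulVec w = w'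
  rw [← hg', ← Matrix.mulVec_mulVec]
  congr 1
  rw [← hg, Matrix.mulVec_mulVec, h2, Matrix.one_mulVec]

theorem u_mulVec (c : F) (w : Fin 2 → F) : (SLTwoUnipotent.u c).1.mulVec w = ![w 0 + c * w 1, w 1] := by
  ext i
  show (Matrix.mulVec !![1, c; 0, 1] w) i = _
  fin_cases i <;> simp [Matrix.mulVec, dotProduct, Fin.sum_univ_two]

theorem l_mulVec (c : F) (w : Fin 2 → F) : (SLTwoUnipotent.l c).1.mulVec w = ![w 0, c * w 0 + w 1] := by
  ext i
  show (Matrix.mulVec !![1, 0; c, 1] w) i = _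
  fin_cases i <;> simp [Matrix.mulVec, dotProduct, Fin.sum_univ_two]

end Mat

section Nat

variable {H V : Type*} [Group H] [Group V] [MulDistribMulAction H V]

theorem mem_cv' {A : Subgroup H} {v : V} : v ∈ cv V (A : Set H) ↔ ∀ a ∈ A, a • v = v := Iff.rfl

namespace NatAt

variable {A B : Subgroup H} {F : Type} [Field F] {π : V → (Fin 2 → F)}
  {φ : ↥(A ⊔ B) →* Matrix.SpecialLinearGroup (Fin 2) F} (h : NatAt A B π φ)
include h

theorem pi_one : π 1 = 0 := by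
  have h1 := h.mul 1 1
  rw [mul_one] at h1
  exact left_eq_add.1 h1

theorem pi_inv (v : V) : π v⁻¹ = - π v := by
  have h1 := h.mul v⁻¹ v
  rw [inv_mul_cancel, h.pi_one] at h1
  exact eq_neg_of_add_eq_zero_left h1.symm

/-- `π` as a homomorphism -/
def hom : V →* Multiplicative (Fin 2 → F) where
  toFun v := Multiplicative.ofAdd (π v)
  map_one' := by rw [h.pi_one]; rfl
  map_mul' v w := by rw [h.mul]; rfl

theorem two (sq : ∀ v : V, v * v = 1) (w : Fin 2 → F) : w + w = 0 := by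
  obtain ⟨v, rfl⟩ := h.surj w
  rw [← h.mul, sq, h.pi_one]

theorem char2 (sq : ∀ v : V, v * v = 1) (c : F) : c + c = 0 := congrFun (h.two sq ![c, 0]) 0

theorem cover (v : V) : ∃ l ∈ A ⊔ B, ∀ a ∈ A, a • (l • v) = l • v := by
  obtain ⟨g, hg⟩ := exists_mulVec_one_zero (π v)
  obtain ⟨x, hx⟩ := h.bij.2 g
  refine ⟨x, x.2, (h.kerA _).1 ?_⟩
  rw [h.act, hx, hg]

/-- irreducibility -/
theorem irr {U : Subgroup V} (hU : ∀ x ∈ A ⊔ B, ∀ v ∈ U, x • v ∈ U)
    (hk : ∀ v, (∀ x ∈ A ⊔ B, x • v = v) → v ∈ U) {v : V} (hv : v ∈ U) (hv0 : ∃ x ∈ A ⊔ B, x • v ≠ v) : U = ⊤ := by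
  rw [eq_top_iff]
  intro w _
  by_cases hw : π w = 0
  · exact hk _ ((h.ker w).1 hw)
  have hv1 : π v ≠ 0 := by
    intro h1
    obtain ⟨x, hx, hxv⟩ := hv0
    exact hxv ((h.ker v).1 h1 x hx)
  obtain ⟨g, hg⟩ := exists_mulVec_eq hv1 hw
  obtain ⟨x, hx⟩ := h.bij.2 g
  have h1 : π ((x : H) • v) = π w := by rw [h.act, hx, hg]
  have h2 : π (w * ((x : H) • v)⁻¹) = 0 := by rw [h.mul, h.pi_inv, h1, add_neg_cancel]
  have h3 := mul_mem (hk _ ((h.ker _).1 h2)) (hU x x.2 v hv)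
  rwa [inv_mul_cancel_right] at h3

theorem u_act {a : H} (ha : a ∈ A) : ∃ c : F, (a = 1 ↔ c = 0) ∧ ∀ v, π (a • v) = ![π v 0 + c * π v 1, π v 1] := by
  obtain ⟨c, hc⟩ := (h.memA ⟨a, mem_sup_left ha⟩).1 ha
  refine ⟨c, ?_, ?_⟩
  · constructor
    · rintro rfl
      have h1 : φ (⟨1, mem_sup_left ha⟩ : ↥(A ⊔ B)) = 1 := map_one φ
      rw [h1, ← SLTwoUnipotent.u_zero] at hc
      have h2 := congrArg (fun M : SpecialLinearGroup (Fin 2) F => M.1 0 1) hc
      simpa [SLTwoUnipotent.u] using h2.symm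
    · rintro rfl
      rw [SLTwoUnipotent.u_zero, ← map_one φ] at hc
      exact congrArg Subtype.val (h.bij.1 hc)
  · intro v
    have h1 := h.act ⟨a, mem_sup_left ha⟩ v
    rw [hc, u_mulVec] at h1
    exact h1

theorem exists_u (c : F) : ∃ a ∈ A, (a = 1 ↔ c = 0) ∧ ∀ v, π (a • v) = ![π v 0 + c * π v 1, π v 1] := by
  obtain ⟨x, hx⟩ := h.bij.2 (SLTwoUnipotent.u c)
  have hxA : (x : H) ∈ A := (h.memA x).2 ⟨c, hx⟩
  refine ⟨x, hxA, ?_, fun v => by rw [h.act, hx, u_mulVec]⟩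
  constructor
  · intro h1
    have h2 : x = 1 := Subtype.ext h1
    rw [h2, map_one, ← SLTwoUnipotent.u_zero] at hx
    have h3 := congrArg (fun M : SpecialLinearGroup (Fin 2) F => M.1 0 1) hx
    simpa [SLTwoUnipotent.u] using h3.symm
  · rintro rfl
    rw [SLTwoUnipotent.u_zero, ← map_one φ] at hx
    exact congrArg Subtype.val (h.bij.1 hx)

/-- `[v, a]` is not fixed by `⟨A, B⟩` if it is not trivial -/
theorem d_not_ker (sq : ∀ v : V, v * v = 1) {a : H} (ha : a ∈ A) {v : V} (hv : a • v ≠ v) :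
    π (d a v) ≠ 0 := by
  obtain ⟨c, hc, hact⟩ := h.u_act ha
  have ha1 : a ≠ 1 := by
    rintro rfl
    exact hv (one_smul H v)
  have hc0 : c ≠ 0 := fun h1 => ha1 (hc.2 h1)
  have hv1 : π v 1 ≠ 0 := by
    intro h1
    exact hv ((h.kerA v).1 h1 a ha)
  intro h1
  rw [d, h.mul, hact] at h1
  have h2 := congrFun h1 0
  simp only [Pi.add_apply, cons_val_zero, Pi.zero_apply] at h2
  have h3 : π v 0 + c * π v 1 + π v 0 = c * π v 1 := by
    have := h.char2 sq (π v 0)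
    calc π v 0 + c * π v 1 + π v 0 = (π v 0 + π v 0) + c * π v 1 := by ring
      _ = c * π v 1 := by rw [this, zero_add]
  rw [h3] at h2
  exact (mul_ne_zero hc0 hv1) h2

end NatAt

end Nat

end Cfsg.Agent.Omega.FF.Glob
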