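import Cfsg.Agent.Omega.FF.GlobFix

/-!
# The FF-theorem, global part: an elementary abelian subgroup `E` of `T` and one summand

`Ei` = the stabiliser in `E` of the `i`-th summand, `KE` = the elements of `Ei` acting trivially on it, `LE` = the
elements of `Ei` acting linearly on it.
-/

set_option autoImplicit false
set_option linter.unusedSectionVars false

namespace Cfsg.Agent.Omega.FF.Glob

open Subgroup Cfsg.Agent.ClassTwoFusion.Quad Cfsg.Agent.LieClassical Matrix
open scoped Pointwise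

variable {H V : Type*} [Group H] [Group V] [MulDistribMulAction H V]

namespace NatAt

variable {A B : Subgroup H} {F : Type} [Field F] {π : V → (Fin 2 → F)}
  {φ : ↥(A ⊔ B) →* Matrix.SpecialLinearGroup (Fin 2) F} (h : NatAt A B π φ)
include h

theorem exists_ne_one : ∃ a ∈ A, a ≠ 1 ∧ ∀ v, π (a • v) = ![π v 0 + π v 1, π v 1] := by
  obtain ⟨a, ha, h1, h2⟩ := h.exists_u 1
  refine ⟨a, ha, fun h3 => one_ne_zero (h1.1 h3), fun v => ?_⟩
  rw [h2, one_mul]

theorem not_comm : ¬ ∀ a ∈ A, ∀ b ∈ B, a * b = b * a := by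
  intro hc
  obtain ⟨a, ha, ha1, -⟩ := h.exists_ne_one
  exact h.cj_B_ne ha ha1 (cj_of_comm fun b hb => hc a ha b hb)

/-- an element of `⟨A, B⟩` acting trivially on the natural module is trivial -/
theorem eq_one_of_act {x : H} (hx : x ∈ A ⊔ B) (hact : ∀ v, π (x • v) = π v) : x = 1 := by
  have h1 : ∀ w : Fin 2 → F, (φ ⟨x, hx⟩).1.mulVec w = w := by
    intro w
    obtain ⟨v, rfl⟩ := h.surj w
    rw [← h.act]
    exact hact v
  have h2 : φ ⟨x, hx⟩ = 1 := by
    apply Subtype.ext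
    show (φ ⟨x, hx⟩).1 = 1
    rw [Matrix.one_fin_two]
    have e0 := h1 ![1, 0]
    have e1 := h1 ![0, 1]
    ext i j
    fin_cases j
    · have := congrFun e0 i
      simp only [Matrix.mulVec, dotProduct, Fin.sum_univ_two] at this
      fin_cases i <;> simpa using this
    · have := congrFun e1 i
      simp only [Matrix.mulVec, dotProduct, Fin.sum_univ_two] at this
      fin_cases i <;> simpa using this
  have h3 := h.bij.1 (h2.trans (map_one φ).symm)
  exact congrArg Subtype.val h3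

/-- every vector is of the form `[v, y]` modulo `C_V(L)` and products -/
theorem exists_d (sq : ∀ v : V, v * v = 1) (w : Fin 2 → F) : ∃ a ∈ A ⊔ B, ∃ b ∈ A ⊔ B, ∃ v v' : V,
    π (d a v * d b v') = w := by
  obtain ⟨a, ha, -, ha'⟩ := h.exists_ne_one
  obtain ⟨y, hy⟩ := h.bij.2 (SLTwoUnipotent.l 1)
  obtain ⟨v, hv⟩ := h.surj ![0, w 0]
  obtain ⟨v', hv'⟩ := h.surj ![w 1, 0]
  refine ⟨a, mem_sup_left ha, y, y.2, v, v', ?_⟩
  have h1 : π ((y : H) • v') = ![π v' 0, 1 * π v' 0 + π v' 1] := by rw [h.act, hy, l_mulVec]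
  rw [h.mul, d, d, h.mul, h.mul, ha', h1, hv, hv']
  have h2 := h.char2 sq (w 0)
  have h3 := h.char2 sq (w 1)
  ext i
  fin_cases i
  · simp [h3]
  · simp [h2]

end NatAt

namespace Out0

variable {T : Sylow 2 H} {k : ℕ} {A B : Fin k → Subgroup H} (o : Out0 V T k A B)
include o

theorem inv_eq (v : V) : v⁻¹ = v := inv_eq_of_mul_eq_one_left (o.sq v)

theorem smul_eq (x : H) (v : V) : x • v = d x v * v := by rw [d, mul_assoc, o.sq, mul_one]

theorem d_eq_one (x : H) (v : V) : d x v = 1 ↔ x • v = v := by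
  rw [d, mul_eq_one_iff_eq_inv, o.inv_eq]

theorem d_mul (x : H) (v w : V) : d x (v * w) = d x v * d x w := by
  rw [d, smul_mul', d, d, mul_assoc, mul_assoc, ← mul_assoc (x • w), o.comm (x • w) v, mul_assoc]

omit o in
theorem smul_d (x y : H) (v : V) : x • d y v = d (x * y * x⁻¹) (x • v) := by
  rw [d, d, smul_mul', ← mul_smul, ← mul_smul, inv_mul_cancel_right]

theorem not_comm_AB (i : Fin k) : ¬ ∀ a ∈ A i, ∀ b ∈ B i, a * b = b * a := by
  obtain ⟨F, _, _, π, φ, hn⟩ := o.nat i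
  exact hn.not_comm

theorem L_inj {i j : Fin k} (hij : A i ⊔ B i = A j ⊔ B j) : i = j := by
  by_contra hne
  apply o.not_comm_AB i
  intro a ha b hb
  have h1 := o.LL i j hne a (mem_sup_left ha) b (by rw [← hij]; exact mem_sup_right hb)
  exact h1

theorem cj_L_of_A {x : H} {i j : Fin k} (h : cj x (A i) = A j) :
    cj x (A i ⊔ B i) = A j ⊔ B j := by
  obtain ⟨l, hl⟩ := o.cjL x i
  have h1 : l = j := by
    by_contra hne
    apply o.not_comm_AB j
    intro a ha b hb
    have h2 : a ∈ A l ⊔ B l := by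
      rw [← hl]
      exact cj_mono le_sup_left (by rw [h]; exact ha)
    exact o.LL l j hne a h2 b (mem_sup_right hb)
  rw [hl, h1]

theorem cj_A_of_L {x : H} (hx : x ∈ T) {i j : Fin k} (h : cj x (A i ⊔ B i) = A j ⊔ B j) :
    cj x (A i) = A j := by
  obtain ⟨l, hl⟩ := o.cjA x hx i
  have h1 := o.cj_L_of_A hl
  rw [h] at h1
  rw [hl, o.L_inj h1]

end Out0

/-- the stabiliser of the `i`-th summand -/
def Ei (E A : Subgroup H) : Subgroup H := E ⊓ normalizer (A : Set H)

theorem mem_Ei {E A : Subgroup H} {x : H} : x ∈ Ei E A ↔ x ∈ E ∧ cj x A = A := by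
  rw [Ei, mem_inf, cj_eq_iff]

theorem Ei_le {E A : Subgroup H} : Ei E A ≤ E := inf_le_left

/-- the kernel on the summand -/
def KE {A B : Subgroup H} {F : Type} [Field F] (π : V → (Fin 2 → F)) (E : Subgroup H)
    {φ : ↥(A ⊔ B) →* Matrix.SpecialLinearGroup (Fin 2) F} (_ : NatAt A B π φ) : Subgroup H where
  carrier := {x | x ∈ Ei E A ∧ ∀ v, π (x • v) = π v}
  one_mem' := ⟨one_mem _, fun v => by rw [one_smul]⟩
  mul_mem' := by
    rintro x y ⟨hx, hx'⟩ ⟨hy, hy'⟩
    exact ⟨mul_mem hx hy, fun v => by rw [mul_smul, hx', hy']⟩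
  inv_mem' := by
    rintro x ⟨hx, hx'⟩
    refine ⟨inv_mem hx, fun v => ?_⟩
    rw [← hx' (x⁻¹ • v), smul_inv_smul]

namespace Out0

variable {T : Sylow 2 H} {k : ℕ} {A B : Fin k → Subgroup H} (o : Out0 V T k A B)
  {i : Fin k} {F : Type} [Field F] {π : V → (Fin 2 → F)}
  {φ : ↥(A i ⊔ B i) →* Matrix.SpecialLinearGroup (Fin 2) F} (hn : NatAt (A i) (B i) π φ)
  {E : Subgroup H}
include o

theorem mem_KE {x : H} : x ∈ KE π E hn ↔ x ∈ Ei E (A i) ∧ ∀ v, π (x • v) = π v := Iff.rfl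

/-- `[V, L_i]` is centralised by `KE` -/
theorem KE_fix {z : H} (hz : z ∈ KE π E hn) {y : H} (hy : y ∈ A i ⊔ B i) (v : V) :
    z • d y v = d y v := by
  obtain ⟨hz1, hz2⟩ := hz
  obtain ⟨hzE, hzA⟩ := mem_Ei.1 hz1
  have hzL := o.cj_L_of_A hzA
  -- `z` commutes with `y`
  have h1 : z * y * z⁻¹ * y⁻¹ ∈ A i ⊔ B i := by
    have h2 : z * y * z⁻¹ ∈ cj z (A i ⊔ B i) := conj_mem_cj hy
    rw [hzL] at h2
    exact mul_mem h2 (inv_mem hy)
  have h2 : z * y * z⁻¹ * y⁻¹ = 1 := by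
    apply hn.eq_one_of_act h1
    intro v
    have hz2' : ∀ v, π (z⁻¹ • v) = π v := fun v => by rw [← hz2 (z⁻¹ • v), smul_inv_smul]
    have hyy : ∀ v w : V, π v = π w → π (y • v) = π (y • w) := by
      intro v w hvw
      rw [hn.act ⟨y, hy⟩, hn.act ⟨y, hy⟩, hvw]
    rw [mul_smul, mul_smul, mul_smul, hz2, hyy _ (y⁻¹ • v) (hz2' _), smul_inv_smul]
  have h3 : z * y * z⁻¹ = y := by
    rw [mul_inv_eq_one] at h2
    exact h2
  rw [smul_d, h3]
  -- `z • v = v * c`
  have h4 : π (d z v) = 0 := by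
    rw [d, hn.mul, hz2]
    exact hn.two o.sq _
  have h5 : d y (d z v) = 1 := (o.d_eq_one _ _).2 ((hn.ker _).1 h4 y hy)
  rw [o.smul_eq z v, o.d_mul, h5, one_mul]

include hn in
/-- elements of `E` outside the stabiliser move `[V, L_i]` into `C_V(L_i)` -/
theorem pi_eq_zero [Finite H] (hET : E ≤ T) {x : H} (hx : x ∈ E) (hxi : x ∉ Ei E (A i)) {y : H}
    (hy : y ∈ A i ⊔ B i) (v : V) : π (x • d y v) = 0 := by
  obtain ⟨j, hj⟩ := o.cjL x i
  have hji : j ≠ i := by
    rintro rfl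
    exact hxi (mem_Ei.2 ⟨hx, o.cj_A_of_L (hET hx) hj⟩)
  rw [smul_d, hn.ker]
  have h1 : x * y * x⁻¹ ∈ A j ⊔ B j := by rw [← hj]; exact conj_mem_cj hy
  intro z hz
  exact o.mod j i hji _ h1 z hz _

/-- the group generated by the `x • [v, y]` -/
def UU (E A B : Subgroup H) (V : Type*) [Group V] [MulDistribMulAction H V] : Subgroup V :=
  closure {w | ∃ x ∈ E, ∃ y ∈ A ⊔ B, ∃ v : V, w = x • d y v}

omit o in
theorem mem_UU {E A B : Subgroup H} {x y : H} (hx : x ∈ E) (hy : y ∈ A ⊔ B) (v : V) :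
    x • d y v ∈ UU E A B V := subset_closure ⟨x, hx, y, hy, v, rfl⟩

/-- (S1) -/
theorem relIndex_UU_le [Finite H] [Finite V] (hc : ∀ x ∈ E, ∀ y ∈ E, x * y = y * x)
    (hsq : ∀ x ∈ E, x * x = 1)
    (hE : (cv V (E : Set H)).index ≤ Nat.card E) :
    (cv V (E : Set H)).relIndex (UU E (A i) (B i) V) ≤ (KE π E hn).relIndex E := by
  set K := KE π E hn with hK
  have hKE : K ≤ E := fun x hx => Ei_le hx.1
  have hUK : UU E (A i) (B i) V ≤ cv V (K : Set H) := by
    rw [UU, closure_le]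
    rintro _ ⟨x, hx, y, hy, v, rfl⟩ z hz
    show z • x • d y v = x • d y v
    rw [← mul_smul, hc z (hKE hz) x hx, mul_smul, o.KE_fix hn hz hy v]
  have hEK : cv V (E : Set H) ≤ cv V (K : Set H) := cv_anti (V := V) hKE
  have h1 : Nat.card K ≤ (cv V (K : Set H)).index := o.noover K fun x hx => hsq x (hKE hx)
  have h2 : (cv V (E : Set H)).relIndex (cv V (K : Set H)) * (cv V (K : Set H)).index = (cv V (E : Set H)).index :=
    relIndex_mul_index hEK
  have h3 : Nat.card K * K.relIndex E = Nat.card E := by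
    rw [← Subgroup.card_mul_index (K.subgroupOf E), ← relIndex]
    congr 1
    exact (Nat.card_congr (subgroupOfEquivOfLe hKE).toEquiv).symm
  have h4 : (cv V (E : Set H)).relIndex (UU E (A i) (B i) V) ≤
      (cv V (E : Set H)).relIndex (cv V (K : Set H)) := by
    apply relIndex_le_of_le_right hUK
    exact index_ne_zero_of_finite
  refine h4.trans ?_
  have hKpos : 0 < Nat.card K := Nat.card_pos
  apply Nat.le_of_mul_le_mul_left _ hKpos
  calc Nat.card K * (cv V (E : Set H)).relIndex (cv V (K : Set H)) ≤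
      (cv V (K : Set H)).index * (cv V (E : Set H)).relIndex (cv V (K : Set H)) := Nat.mul_le_mul_right _ h1
    _ = (cv V (E : Set H)).index := by rw [mul_comm, h2]
    _ ≤ Nat.card E := hE
    _ = Nat.card K * K.relIndex E := h3.symm

end Out0

end Cfsg.Agent.Omega.FF.Glob
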