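import Cfsg.Agent.Omega.FF.GlobOffA

/-!
# The FF-theorem, global part: counting for an elementary abelian subgroup of `T`
-/

set_option autoImplicit false
set_option linter.unusedSectionVars false

namespace Cfsg.Agent.Omega.FF.Glob

open Subgroup Cfsg.Agent.ClassTwoFusion.Quad Cfsg.Agent.LieClassical Matrix
open scoped Pointwise

variable {H V : Type*} [Group H] [Group V] [MulDistribMulAction H V]

/-- the image of `C_V(E)` in `F²` -/
def CC {A B : Subgroup H} {F : Type} [Field F] {π : V → (Fin 2 → F)}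
    {φ : ↥(A ⊔ B) →* Matrix.SpecialLinearGroup (Fin 2) F} (hn : NatAt A B π φ) (E : Subgroup H) :
    AddSubgroup (Fin 2 → F) where
  carrier := {w | ∃ v : V, (∀ x ∈ E, x • v = v) ∧ π v = w}
  zero_mem' := ⟨1, fun x _ => smul_one x, hn.pi_one⟩
  add_mem' := by
    rintro _ _ ⟨v, hv, rfl⟩ ⟨w, hw, rfl⟩
    exact ⟨v * w, fun x hx => by rw [smul_mul', hv x hx, hw x hx], hn.mul v w⟩
  neg_mem' := by
    rintro _ ⟨v, hv, rfl⟩
    exact ⟨v⁻¹, fun x hx => by rw [smul_inv', hv x hx], hn.pi_inv v⟩

namespace Out0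

variable {T : Sylow 2 H} {k : ℕ} {A B : Fin k → Subgroup H} (o : Out0 V T k A B)
  {i : Fin k} {F : Type} [Field F] {π : V → (Fin 2 → F)}
  {φ : ↥(A i ⊔ B i) →* Matrix.SpecialLinearGroup (Fin 2) F} (hn : NatAt (A i) (B i) π φ)
  {E : Subgroup H}
include o

/-- (S2) -/
theorem pow_le [Finite H] [Finite V] [Finite F] (hET : E ≤ T) :
    Nat.card F ^ (2 * (Ei E (A i)).relIndex E) ≤
      (cv V (E : Set H)).relIndex (UU E (A i) (B i) V) * Nat.card (CC hn E) := by
  classical
  set S := (Ei E (A i)).subgroupOf E with hS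
  let r : E ⧸ S → E := Quotient.out
  have hr : ∀ x, (QuotientGroup.mk (r x) : E ⧸ S) = x := fun x => Quotient.out_eq' x
  have hrne : ∀ x y, x ≠ y → (((r y : E) : H)⁻¹ * (r x : H)) ∉ Ei E (A i) := by
    intro x y hxy hmem
    apply hxy
    have h1 : (QuotientGroup.mk (r y) : E ⧸ S) = QuotientGroup.mk (r x) := by
      rw [QuotientGroup.eq, hS, mem_subgroupOf]
      exact hmem
    rw [hr, hr] at h1
    exact h1.symm
  let ρ : V →* Multiplicative ((E ⧸ S) → Fin 2 → F) :=
    { toFun := fun v => Multiplicative.ofAdd fun x => π (((r x : E) : H)⁻¹ • v)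
      map_one' := by
        have : (fun x : E ⧸ S => π (((r x : E) : H)⁻¹ • (1 : V))) = 0 := by
          funext x
          rw [smul_one, hn.pi_one]; rfl
        rw [this]; rfl
      map_mul' := fun v w => by
        rw [← ofAdd_add]
        congr 1
        funext x
        rw [smul_mul', hn.mul]; rfl }
  have hρ : ∀ v x, (Multiplicative.toAdd (ρ v)) x = π (((r x : E) : H)⁻¹ • v) := fun v x => rfl
  set U := UU E (A i) (B i) V with hU
  let f : U →* Multiplicative ((E ⧸ S) → Fin 2 → F) := ρ.comp U.subtype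
  have hf : Function.Surjective f := by
    intro z
    have key : ∀ s : Finset (E ⧸ S), ∃ u : U, ∀ x, (Multiplicative.toAdd (f u)) x =
        if x ∈ s then Multiplicative.toAdd z x else 0 := by
      intro s
      induction s using Finset.induction_on with
      | empty =>
        refine ⟨1, fun x => ?_⟩
        rw [map_one]
        simp
      | insert y s hy ih =>
        obtain ⟨u, hu⟩ := ih
        obtain ⟨a, ha, b, hb, v, v', hw⟩ := hn.exists_d o.sq (Multiplicative.toAdd z y)
        have hm : ((r y : E) : H) • (d a v * d b v') ∈ U := by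
          rw [smul_mul']
          exact mul_mem (mem_UU (r y).2 ha v) (mem_UU (r y).2 hb v')
        refine ⟨⟨_, hm⟩ * u, fun x => ?_⟩
        rw [map_mul, toAdd_mul, Pi.add_apply, hu]
        have h1 : (Multiplicative.toAdd (f ⟨_, hm⟩)) x =
            π (((r x : E) : H)⁻¹ • ((r y : E) : H) • (d a v * d b v')) := rfl
        rw [h1]
        by_cases hxy : x = y
        · subst hxy
          rw [inv_smul_smul, hw, if_neg hy, if_pos (Finset.mem_insert_self _ _), add_zero]
        · have h2 : π (((r x : E) : H)⁻¹ • ((r y : E) : H) • (d a v * d b v')) = 0 := by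
            rw [← mul_smul, smul_mul', hn.mul]
            have hxE : ((r x : E) : H)⁻¹ * (r y : H) ∈ E := mul_mem (inv_mem (r x).2) (r y).2
            have hxi := hrne y x (fun h => hxy h.symm)
            rw [o.pi_eq_zero hn hET hxE hxi ha, o.pi_eq_zero hn hET hxE hxi hb, add_zero]
          rw [h2, zero_add]
          by_cases hxs : x ∈ s
          · rw [if_pos hxs, if_pos (Finset.mem_insert_of_mem hxs)]
          · rw [if_neg hxs, if_neg (by simp [hxy, hxs])]
    have := Fintype.ofFinite (E ⧸ S)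
    obtain ⟨u, hu⟩ := key Finset.univ
    refine ⟨u, ?_⟩
    apply Multiplicative.toAdd.injective
    funext x
    rw [hu, if_pos (Finset.mem_univ _)]
  set N : Subgroup U := (cv V (E : Set H)).subgroupOf U with hN
  have h1 : (N.map f).index ≤ N.index := by
    apply Nat.le_of_dvd
    · exact Nat.pos_of_ne_zero index_ne_zero_of_finite
    · exact N.index_map_dvd hf
  have h2 : Nat.card (N.map f) ≤ Nat.card (CC hn E) := by
    let x₀ : E ⧸ S := QuotientGroup.mk 1
    have hconst : ∀ z ∈ N.map f, ∀ x, Multiplicative.toAdd z x = Multiplicative.toAdd z x₀ := by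
      rintro _ ⟨u, hu, rfl⟩ x
      have hu' : ∀ y ∈ E, y • (u : V) = u := hu
      show π (((r x : E) : H)⁻¹ • (u : V)) = π (((r x₀ : E) : H)⁻¹ • (u : V))
      rw [hu' _ (inv_mem (r x).2), hu' _ (inv_mem (r x₀).2)]
    refine Nat.card_le_card_of_injective
      (fun z : N.map f => (⟨Multiplicative.toAdd z.1 x₀, ?_⟩ : CC hn E)) ?_
    · obtain ⟨u, hu, hz⟩ := z.2
      have hu' : ∀ y ∈ E, y • (u : V) = u := hu
      refine ⟨u, hu', ?_⟩
      rw [← hz]
      show π (u : V) = π (((r x₀ : E) : H)⁻¹ • (u : V))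
      rw [hu' _ (inv_mem (r x₀).2)]
    · intro z z' hzz
      have h3 : Multiplicative.toAdd z.1 x₀ = Multiplicative.toAdd z'.1 x₀ := congrArg Subtype.val hzz
      apply Subtype.ext
      apply Multiplicative.toAdd.injective
      funext x
      rw [hconst z.1 z.2 x, hconst z'.1 z'.2 x, h3]
  have h3 : Nat.card (Multiplicative ((E ⧸ S) → Fin 2 → F)) = Nat.card F ^ (2 * (Ei E (A i)).relIndex E) := by
    have e1 : Nat.card (Multiplicative ((E ⧸ S) → Fin 2 → F)) = Nat.card ((E ⧸ S) → Fin 2 → F) :=
      Nat.card_congr Multiplicative.toAdd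
    rw [e1, Nat.card_fun, Nat.card_fun, Nat.card_eq_fintype_card (α := Fin 2), Fintype.card_fin, ← pow_mul]
    rfl
  rw [← h3, ← (N.map f).index_mul_card]
  exact Nat.mul_le_mul h1 h2

end Out0

end Cfsg.Agent.Omega.FF.Glob
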