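import Cfsg.Agent.Omega.FF.GlobOffB

/-!
# The FF-theorem, global part: every best offender in `T` acts on every summand as a subgroup of `A i`
-/

set_option autoImplicit false
set_option linter.unusedSectionVars false

namespace Cfsg.Agent.Omega.FF.Glob

open Subgroup Cfsg.Agent.ClassTwoFusion.Quad Cfsg.Agent.LieClassical Matrix
open scoped Pointwise

variable {H V : Type*} [Group H] [Group V] [MulDistribMulAction H V]

/-- the elements acting linearly on the summand -/
def LE {A B : Subgroup H} {F : Type} [Field F] (π : V → (Fin 2 → F)) (E : Subgroup H)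
    {φ : ↥(A ⊔ B) →* Matrix.SpecialLinearGroup (Fin 2) F} (_ : NatAt A B π φ) : Subgroup H where
  carrier := {x | x ∈ Ei E A ∧ ∃ c : F, ∀ v, π (x • v) = ![π v 0 + c * π v 1, π v 1]}
  one_mem' := ⟨one_mem _, 0, fun v => by
    rw [one_smul, zero_mul, add_zero]
    ext i; fin_cases i <;> rfl⟩
  mul_mem' := by
    rintro x y ⟨hx, c, hc⟩ ⟨hy, e, he⟩
    refine ⟨mul_mem hx hy, c + e, fun v => ?_⟩
    rw [mul_smul, hc, he]
    ext i; fin_cases i
    · simp; ring
    · simp
  inv_mem' := by
    rintro x ⟨hx, c, hc⟩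
    refine ⟨inv_mem hx, -c, fun v => ?_⟩
    have h1 := hc (x⁻¹ • v)
    rw [smul_inv_smul] at h1
    have h2 := congrFun h1 0
    have h3 := congrFun h1 1
    simp only [cons_val_zero, cons_val_one] at h2 h3
    ext i; fin_cases i
    · simp [h2, h3]
    · simp [h3]

namespace Out0

variable {T : Sylow 2 H} {k : ℕ} {A B : Fin k → Subgroup H} (o : Out0 V T k A B)
  {i : Fin k} {F : Type} [Field F] {π : V → (Fin 2 → F)}
  {φ : ↥(A i ⊔ B i) →* Matrix.SpecialLinearGroup (Fin 2) F} (hn : NatAt (A i) (B i) π φ)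
  {E : Subgroup H}
include o

include hn in
theorem eq_one_of_sq {a : F} (ha : a * a = 1) : a = 1 := by
  have h2 := hn.char2 o.sq (1 : F)
  have h3 : (a - 1) * (a - 1) = 0 := by
    have h4 := hn.char2 o.sq a
    calc (a - 1) * (a - 1) = (a * a - 1) - (a + a) + (1 + 1) := by ring
      _ = 0 := by rw [ha, h4, h2]; ring
  have h5 := mul_self_eq_zero.1 h3
  exact sub_eq_zero.1 h5

include hn in
/-- an involution acting upper triangular and linearly is in `LE` -/
theorem lin_of {x : H} (hxx : x * x = 1) {α γ δ : F} 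
    (hact : ∀ v, π (x • v) = ![α * π v 0 + γ * π v 1, δ * π v 1]) :
    ∀ v, π (x • v) = ![π v 0 + γ * π v 1, π v 1] := by
  have hxx' : ∀ v : V, x • x • v = v := fun v => by rw [← mul_smul, hxx, one_smul]
  have hα : α = 1 := by
    apply eq_one_of_sq o hn
    obtain ⟨v, hv⟩ := hn.surj ![1, 0]
    have h1 := hact (x • v)
    rw [hxx', hact, hv] at h1
    have h2 := congrFun h1 0
    simp at h2
    exact h2.symm
  have hδ : δ = 1 := by
    apply eq_one_of_sq o hn
    obtain ⟨v, hv⟩ := hn.surj ![0, 1]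
    have h1 := hact (x • v)
    rw [hxx', hact, hv] at h1
    have h2 := congrFun h1 1
    simp at h2
    exact h2.symm
  intro v
  rw [hact, hα, hδ, one_mul, one_mul]

include hn in
theorem s_sq {x : H} (hxx : x * x = 1) {s : F ≃+* F} {α γ δ : F}
    (hact : ∀ v, π (x • v) = ![α * s (π v 0) + γ * s (π v 1), δ * s (π v 1)]) : ∀ c, s (s c) = c := by
  have hxx' : ∀ v : V, x • x • v = v := fun v => by rw [← mul_smul, hxx, one_smul]
  have h1 : ∀ c, δ * (s δ * s (s c)) = c := by
    intro c
    obtain ⟨v, hv⟩ := hn.surj ![0, c]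
    have h1 := hact (x • v)
    rw [hxx', hact, hv] at h1
    have h2 := congrFun h1 1
    simp at h2
    exact h2.symm
  have h2 : δ * s δ = 1 := by
    have := h1 1
    rwa [map_one, map_one, mul_one] at this
  intro c
  have h3 := h1 c
  rw [← mul_assoc, h2, one_mul] at h3
  exact h3

/-- the form of the elements of `Ei` -/
theorem exists_tri [Finite F] {x : H} (hx : x ∈ Ei E (A i)) (hxx : x * x = 1) (hxL : x ∉ LE π E hn) :
    ∃ (s : F ≃+* F) (α γ δ : F), (∀ v, π (x • v) = ![α * s (π v 0) + γ * s (π v 1), δ * s (π v 1)]) ∧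
      (∀ c, s (s c) = c) ∧ ∃ c, s c ≠ c := by
  obtain ⟨-, hxA⟩ := mem_Ei.1 hx
  obtain ⟨s, α, γ, δ, -, -, hact⟩ := hn.exists_tri (o.cj_L_of_A hxA) hxA
  refine ⟨s, α, γ, δ, hact, s_sq o hn hxx hact, ?_⟩
  by_contra hc
  push Not at hc
  apply hxL
  refine ⟨hx, γ, lin_of o hn hxx (α := α) (δ := δ) fun v => ?_⟩
  rw [hact, hc, hc]

/-- `|Ei : LE| ≤ 2` -/
theorem relIndex_LE_le [Finite H] [Finite F] (hsq : ∀ x ∈ E, x * x = 1) :
    (LE π E hn).relIndex (Ei E (A i)) ≤ 2 ∧ ((LE π E hn).relIndex (Ei E (A i)) ≠ 1 → ∃ x, x ∈ Ei E (A i) ∧ x ∉ LE π E hn) := by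
  constructor
  · by_cases hall : ∀ x ∈ Ei E (A i), x ∈ LE π E hn
    · rw [relIndex_eq_one.2 hall]; norm_num
    · push Not at hall
      obtain ⟨a, ha, haL⟩ := hall
      apply le_of_eq
      rw [relIndex, index_eq_two_iff]
      refine ⟨⟨a, ha⟩, fun b => ?_⟩
      rw [mem_subgroupOf, mem_subgroupOf]
      show Xor (((b : H) * a) ∈ LE π E hn) ((b : H) ∈ LE π E hn)
      by_cases hb : (b : H) ∈ LE π E hn
      · right
        refine ⟨hb, fun h1 => haL ?_⟩
        have h2 := mul_mem (inv_mem hb) h1
        rwa [inv_mul_cancel_left] at h2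
      · left
        refine ⟨?_, hb⟩
        have haa := hsq a (Ei_le ha)
        have hbb := hsq b (Ei_le b.2)
        obtain ⟨s, α, γ, δ, hact, hs, hs1⟩ := o.exists_tri hn ha haa haL
        obtain ⟨s', α', γ', δ', hact', hs', hs1'⟩ := o.exists_tri hn b.2 hbb hb
        have hss : s' = s := ringAut_inv_unique hs' hs hs1' hs1
        subst hss
        have hba : ((b : H) * a) * ((b : H) * a) = 1 := hsq _ (mul_mem (Ei_le b.2) (Ei_le ha))
        refine ⟨mul_mem b.2 ha, α' * s' γ + γ' * s' δ, lin_of o hn hba (α := α' * s' α) (δ := δ' * s' δ) fun v => ?_⟩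
        rw [mul_smul, hact', hact]
        ext j
        fin_cases j
        · simp [hs]; ring
        · simp [hs]; ring
  · intro h1
    by_contra hc
    push Not at hc
    exact h1 (relIndex_eq_one.2 hc)

theorem KE_le_LE : KE π E hn ≤ LE π E hn := by
  rintro x ⟨hx, hx'⟩
  refine ⟨hx, 0, fun v => ?_⟩
  rw [hx', zero_mul, add_zero]
  ext i; fin_cases i <;> rfl

/-- `x ↦ c` on `LE` -/
theorem exists_gam [Finite H] : ∃ g : LE π E hn →* Multiplicative F, g.ker = (KE π E hn).subgroupOf (LE π E hn) ∧
    ∀ x : LE π E hn, ∀ v, π ((x : H) • v) = ![π v 0 + Multiplicative.toAdd (g x) * π v 1, π v 1] := by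
  have hex : ∀ x : LE π E hn, ∃ c : F, ∀ v, π ((x : H) • v) = ![π v 0 + c * π v 1, π v 1] := fun x => x.2.2
  choose c hc using hex
  have huniq : ∀ (x : LE π E hn) (e : F), (∀ v, π ((x : H) • v) = ![π v 0 + e * π v 1, π v 1]) → c x = e := by
    intro x e he
    obtain ⟨v, hv⟩ := hn.surj ![0, 1]
    have h1 := hc x v
    rw [he, hv] at h1
    have h2 := congrFun h1 0
    simp at h2
    exact h2.symm
  refine ⟨MonoidHom.mk' (fun x => Multiplicative.ofAdd (c x)) fun x y => ?_, ?_, hc⟩
  · show Multiplicative.ofAdd (c (x * y)) = Multiplicative.ofAdd (c x) * Multiplicative.ofAdd (c y)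
    rw [← ofAdd_add]
    congr 1
    apply huniq
    intro v
    rw [Subgroup.coe_mul, mul_smul, hc, hc]
    ext i; fin_cases i
    · simp; ring
    · simp
  · ext x
    rw [MonoidHom.mem_ker, mem_subgroupOf]
    show Multiplicative.ofAdd (c x) = 1 ↔ _
    constructor
    · intro h1
      have h2 : c x = 0 := Multiplicative.ofAdd.injective (h1.trans ofAdd_zero.symm)
      refine ⟨x.2.1, fun v => ?_⟩
      rw [hc, h2, zero_mul, add_zero]
      ext i; fin_cases i <;> rfl
    · rintro ⟨-, h1⟩
      rw [huniq x 0 fun v => by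
        rw [h1, zero_mul, add_zero]
        ext i; fin_cases i <;> rfl]
      rfl

/-- (S4) -/
theorem count [Finite H] [Finite V] [Finite F] (hc : ∀ x ∈ E, ∀ y ∈ E, x * y = y * x)
    (hsq : ∀ x ∈ E, x * x = 1) :
    (KE π E hn).relIndex (LE π E hn) * Nat.card (CC hn E) ≤ Nat.card F * Nat.card F ∧
    ((∃ x, x ∈ Ei E (A i) ∧ x ∉ LE π E hn) →
      4 * ((KE π E hn).relIndex (LE π E hn) * Nat.card (CC hn E)) ≤ Nat.card F * Nat.card F) := by
  obtain ⟨g, hg, hgact⟩ := o.exists_gam hn (E := E)
  have hrel : (KE π E hn).relIndex (LE π E hn) = Nat.card g.range := by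
    rw [relIndex, ← hg, index_ker]
  have hrange : Nat.card g.range ≤ Nat.card F := by
    refine (Nat.card_le_card_of_injective (fun w : g.range => Multiplicative.toAdd w.1) ?_)
    intro w w' h1
    exact Subtype.ext (Multiplicative.toAdd.injective h1)
  -- if `LE` is not trivial on the summand, the fixed points are on the line
  have hline : Nat.card g.range ≠ 1 → ∀ w ∈ CC hn E, w 1 = 0 := by
    intro h1 w hw
    obtain ⟨x, hx⟩ : ∃ x, g x ≠ 1 := by
      by_contra hcon
      push Not at hcon
      apply h1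
      have : g.range = ⊥ := by
        rw [eq_bot_iff]
        rintro _ ⟨x, rfl⟩
        exact mem_bot.2 (hcon x)
      rw [this, card_bot]
    obtain ⟨v, hv, rfl⟩ := hw
    have h2 := hgact x v
    rw [hv x (Ei_le x.2.1)] at h2
    have h3 := congrFun h2 0
    simp only [cons_val_zero] at h3
    have h4 : Multiplicative.toAdd (g x) ≠ 0 := fun h5 => hx (Multiplicative.toAdd.injective h5)
    have h5 : Multiplicative.toAdd (g x) * π v 1 = 0 := by linear_combination -h3
    exact (mul_eq_zero.1 h5).resolve_left h4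
  rw [hrel]
  constructor
  · by_cases h1 : Nat.card g.range = 1
    · rw [h1, one_mul]
      exact card_all_le _
    · exact Nat.mul_le_mul hrange (card_line_le (hline h1))
  · rintro ⟨b, hb, hbL⟩
    have hbE : b ∈ E := Ei_le hb
    obtain ⟨s, α, γ, δ, hact, hs, hs1⟩ := o.exists_tri hn hb (hsq b hbE) hbL
    have hc2 := two_mul_card_FixS hs1
    set c := Nat.card (FixS s 1) with hcdef
    have hfix : ∀ w ∈ CC hn E, α * s (w 0) + γ * s (w 1) = w 0 ∧ δ * s (w 1) = w 1 := by
      rintro _ ⟨v, hv, rfl⟩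
      have h2 := hact v
      rw [hv b hbE] at h2
      have h3 := congrFun h2 0
      have h4 := congrFun h2 1
      simp only [cons_val_zero, cons_val_one] at h3 h4
      exact ⟨h3.symm, h4.symm⟩
    have hmain : Nat.card g.range * Nat.card (CC hn E) ≤ c * c := by
      by_cases h1 : Nat.card g.range = 1
      · rw [h1, one_mul]
        exact card_fix_le s hfix
      · apply Nat.mul_le_mul
        · -- `γ_x` is a fixed point of a semilinear map
          have hα : α ≠ 0 := by
            rintro rfl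
            obtain ⟨v, hv⟩ := hn.surj ![1, 0]
            have h2 := hact v
            have h3 : π (b • v) = 0 := by
              rw [h2, hv]; ext j; fin_cases j <;> simp
            have h4 := hact (b • v)
            rw [← mul_smul, hsq b hbE, one_smul, h3, hv] at h4
            have h5 := congrFun h4 0
            simp at h5
          have hδ : δ ≠ 0 := by
            rintro rfl
            obtain ⟨v, hv⟩ := hn.surj ![0, 1]
            have h2 := hact v
            have h3 : π (b • v) 1 = 0 := by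
              rw [h2]; simp
            have h4 := hact (b • v)
            rw [← mul_smul, hsq b hbE, one_smul, hv] at h4
            have h5 := congrFun h4 1
            simp at h5
          refine le_trans ?_ (card_FixS_le s (α / δ))
          refine (Nat.card_le_card_of_injective
            (fun w : g.range => (⟨Multiplicative.toAdd w.1, ?_⟩ : FixS s (α / δ))) ?_)
          · obtain ⟨x, hx⟩ := w.2
            rw [← hx]
            set z := Multiplicative.toAdd (g x) with hz
            show α / δ * s z = z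
            obtain ⟨v, hv⟩ := hn.surj ![0, 1]
            have e1 : b • (x : H) • v = (x : H) • b • v := by
              rw [← mul_smul, hc b hbE x (Ei_le x.2.1), mul_smul]
            have e2 := congrArg π e1
            rw [hact, hgact, hgact, hact, hv] at e2
            have e3 := congrFun e2 0
            simp at e3
            have e4 : α * s z = δ * z := by linear_combination e3
            field_simp
            exact e4
          · intro w w' h1
            have h9 : Multiplicative.toAdd w.1 = Multiplicative.toAdd w'.1 :=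
              congrArg (fun z : FixS s (α / δ) => z.1) h1
            exact Subtype.ext (Multiplicative.toAdd.injective h9)
        · exact card_fix_le' s (fun w hw => (hfix w hw).1) (hline h1)
    calc 4 * (Nat.card g.range * Nat.card (CC hn E)) ≤ 4 * (c * c) := Nat.mul_le_mul le_rfl hmain
      _ = (2 * c) * (2 * c) := by ring
      _ ≤ Nat.card F * Nat.card F := Nat.mul_le_mul hc2 hc2

/-- **every best offender acts on every summand as a subgroup of `A i`** -/
theorem lin_of_off [Finite H] [Finite V] [Finite F] (hET : E ≤ T) (hc : ∀ x ∈ E, ∀ y ∈ E, x * y = y * x)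
    (hsq : ∀ x ∈ E, x * x = 1) (hE : (cv V (E : Set H)).index ≤ Nat.card E) : ∀ x ∈ E, x ∈ LE π E hn := by
  set n := (Ei E (A i)).relIndex E with hn'
  have hnpos : 0 < n := Nat.pos_of_ne_zero index_ne_zero_of_finite
  have hF4 : 4 ≤ Nat.card F := by rw [hn.card_F]; exact o.card4 i
  have h1 := o.relIndex_UU_le hn hc hsq hE
  have h2 := o.pow_le hn hET
  have h3 : Nat.card F ^ (2 * n) ≤ (KE π E hn).relIndex E * Nat.card (CC hn E) :=
    h2.trans (Nat.mul_le_mul_right _ h1)
  have hLEi : LE π E hn ≤ Ei E (A i) := fun x hx => hx.1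
  have h4 : (KE π E hn).relIndex E = (KE π E hn).relIndex (LE π E hn) * (LE π E hn).relIndex (Ei E (A i)) * n := by
    rw [relIndex_mul_relIndex _ _ _ (o.KE_le_LE hn) hLEi,
      relIndex_mul_relIndex _ _ _ ((o.KE_le_LE hn).trans hLEi) Ei_le]
  obtain ⟨h5, h6⟩ := o.count hn hc hsq
  obtain ⟨h7, h8⟩ := o.relIndex_LE_le hn hsq
  set r := (KE π E hn).relIndex (LE π E hn) with hr
  set t := (LE π E hn).relIndex (Ei E (A i)) with ht
  set C := Nat.card (CC hn E) with hC
  set Q := Nat.card F with hQ
  have hQpos : 0 < Q := by omega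
  rw [h4] at h3
  have hpow : Q ^ (2 * n) = Q * Q * (Q * Q) ^ (n - 1) := by
    obtain ⟨m, hm⟩ : ∃ m, n = m + 1 := ⟨n - 1, by omega⟩
    rw [hm, Nat.add_sub_cancel, pow_mul, pow_two, pow_succ, mul_comm]
  have hbig : n ≤ (Q * Q) ^ (n - 1) ∧ (1 < n → n < (Q * Q) ^ (n - 1)) := by
    have h16 : 16 ≤ Q * Q := by nlinarith
    obtain ⟨m, hm⟩ : ∃ m, n = m + 1 := ⟨n - 1, by omega⟩
    rw [hm, Nat.add_sub_cancel]
    have h9 : m < 16 ^ m := Nat.lt_pow_self (by norm_num)
    have h10 : 16 ^ m ≤ (Q * Q) ^ m := Nat.pow_le_pow_left h16 m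
    refine ⟨by omega, fun h11 => ?_⟩
    have h12 : 1 ≤ m := by omega
    have h13 : m + 1 < 16 ^ m := by
      obtain ⟨l, rfl⟩ : ∃ l, m = l + 1 := ⟨m - 1, by omega⟩
      have h14 : l < 16 ^ l := Nat.lt_pow_self (by norm_num)
      rw [pow_succ]
      have : 1 ≤ 16 ^ l := Nat.one_le_pow _ _ (by norm_num)
      omega
    omega
  have hQQ : 0 < Q * Q := Nat.mul_pos hQpos hQpos
  by_cases hcase : ∃ x, x ∈ Ei E (A i) ∧ x ∉ LE π E hn
  · exfalso
    have h9 := h6 hcase
    have h10 : 2 * (r * t * n * C) ≤ Q * Q * n := by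
      calc 2 * (r * t * n * C) = 2 * t * n * (r * C) := by ring
        _ ≤ 2 * 2 * n * (r * C) := by gcongr
        _ = n * (4 * (r * C)) := by ring
        _ ≤ n * (Q * Q) := Nat.mul_le_mul le_rfl h9
        _ = Q * Q * n := by ring
    have h11 : 2 * (Q * Q * (Q * Q) ^ (n - 1)) ≤ Q * Q * n := by
      rw [← hpow]
      exact (Nat.mul_le_mul le_rfl h3).trans h10
    have h12 : Q * Q * (2 * (Q * Q) ^ (n - 1)) ≤ Q * Q * n := by
      calc Q * Q * (2 * (Q * Q) ^ (n - 1)) = 2 * (Q * Q * (Q * Q) ^ (n - 1)) := by ring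
        _ ≤ Q * Q * n := h11
    have h13 := Nat.le_of_mul_le_mul_left h12 hQQ
    have := hbig.1
    omega
  · push Not at hcase
    have ht1 : t = 1 := by
      by_contra h9
      obtain ⟨x, hx, hx'⟩ := h8 h9
      exact hx' (hcase x hx)
    have h10 : Q * Q * (Q * Q) ^ (n - 1) ≤ Q * Q * n := by
      calc Q * Q * (Q * Q) ^ (n - 1) = Q ^ (2 * n) := hpow.symm
        _ ≤ r * t * n * C := h3
        _ = n * (r * C) := by rw [ht1]; ring
        _ ≤ n * (Q * Q) := Nat.mul_le_mul le_rfl h5
        _ = Q * Q * n := by ring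
    have h11 := Nat.le_of_mul_le_mul_left h10 hQQ
    have hn1 : n = 1 := by
      by_contra h12
      have := hbig.2 (by omega)
      omega
    intro x hx
    apply hcase
    exact relIndex_eq_one.1 hn1 hx

end Out0

end Cfsg.Agent.Omega.FF.Glob
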