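import Cfsg.Agent.Omega.FF.GlobTh

/-!
# The FF-theorem, global part (C): at every point there is exactly one member of `Θ`
-/

set_option autoImplicit false
set_option linter.unusedSectionVars false

namespace Cfsg.Agent.Omega.FF.Glob

open Subgroup Cfsg.Agent.ClassTwoFusion.Quad Cfsg.Agent.LieClassical Matrix
open scoped Pointwise
open Cfsg.Agent.PLocal.ElemAbSup (coe_sup_of_le_centralizer)
open Cfsg.Agent.ZN (o2 le_o2 isPGroup_o2 normalizer_le_normalizer_o2)

variable {H V : Type*} [Group H] [Group V] [MulDistribMulAction H V]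

theorem NatAt.card_F {A B : Subgroup H} {F : Type} [Field F] {π : V → (Fin 2 → F)}
    {φ : ↥(A ⊔ B) →* Matrix.SpecialLinearGroup (Fin 2) F} (h : NatAt A B π φ) : Nat.card F = Nat.card A := by
  have hex : ∀ c : F, ∃ a : A, φ ⟨a, mem_sup_left a.2⟩ = SLTwoUnipotent.u c := by
    intro c
    obtain ⟨x, hx⟩ := h.bij.2 (SLTwoUnipotent.u c)
    exact ⟨⟨x, (h.memA x).2 ⟨c, hx⟩⟩, hx⟩
  choose f hf using hex
  refine Nat.card_congr (Equiv.ofBijective f ⟨?_, ?_⟩)
  · intro c c' hcc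
    have h1 := hf c
    rw [hcc, hf c'] at h1
    have h2 := congrArg (fun M : SpecialLinearGroup (Fin 2) F => M.1 0 1) h1
    simpa [SLTwoUnipotent.u] using h2.symm
  · intro a
    obtain ⟨c, hc⟩ := (h.memA ⟨a, mem_sup_left a.2⟩).1 a.2
    refine ⟨c, Subtype.ext ?_⟩
    have h1 := h.bij.1 ((hf c).trans hc.symm)
    exact congrArg (fun z : ↥(A ⊔ B) => (z : H)) h1

/-- the product of two subgroups -/
def pr (hc : ∀ v w : V, v * w = w * v) (X Y : Subgroup V) : Subgroup V where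
  carrier := {v | ∃ a ∈ X, ∃ b ∈ Y, v = a * b}
  one_mem' := ⟨1, one_mem _, 1, one_mem _, (mul_one 1).symm⟩
  mul_mem' := by
    rintro _ _ ⟨a, ha, b, hb, rfl⟩ ⟨a', ha', b', hb', rfl⟩
    refine ⟨a * a', mul_mem ha ha', b * b', mul_mem hb hb', ?_⟩
    rw [mul_assoc, mul_assoc, ← mul_assoc b, hc b a', mul_assoc]
  inv_mem' := by
    rintro _ ⟨a, ha, b, hb, rfl⟩
    exact ⟨a⁻¹, inv_mem ha, b⁻¹, inv_mem hb, by rw [_root_.mul_inv_rev, hc]⟩

theorem mem_pr {hc : ∀ v w : V, v * w = w * v} {X Y : Subgroup V} {v : V} :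
    v ∈ pr hc X Y ↔ ∃ a ∈ X, ∃ b ∈ Y, v = a * b := Iff.rfl

namespace Loc

variable {T : Sylow 2 H} {M : Subgroup H} {D : Set (Subgroup H)} {q : ℕ} {Q : Subgroup H} (h : Loc V T M D q Q)

/-- the kernel on the points -/
def KK [Finite H] (h : Loc V T M D q Q) : Subgroup H where
  carrier := {n | n ∈ normalizer (Q : Set H) ∧ ∀ E, Th D Q E → ¬ Opp M Q E (cj n E)}
  one_mem' := ⟨one_mem _, fun E hE => by rw [cj_one]; exact h.same_refl hE⟩
  mul_mem' := by
    rintro n m ⟨hn, hn'⟩ ⟨hm, hm'⟩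
    refine ⟨mul_mem hn hm, fun E hE => ?_⟩
    rw [← cj_cj]
    exact h.same_trans (hE.cj h.Dcj hm) (hm' E hE) (hn' _ (hE.cj h.Dcj hm))
  inv_mem' := by
    rintro n ⟨hn, hn'⟩
    refine ⟨inv_mem hn, fun E hE => ?_⟩
    have h1 := hn' _ (hE.cj h.Dcj (inv_mem hn))
    rw [cj_cj_inv] at h1
    exact fun h2 => h1 h2.symm

theorem mem_KK [Finite H] {n : H} : n ∈ h.KK ↔ n ∈ normalizer (Q : Set H) ∧
    ∀ E, Th D Q E → ¬ Opp M Q E (cj n E) := Iff.rfl

theorem KK_le [Finite H] : h.KK ≤ normalizer (Q : Set H) := fun _ hx => hx.1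

theorem normalizer_KK [Finite H] : normalizer (Q : Set H) ≤ normalizer (h.KK : Set H) := by
  have key : ∀ n ∈ normalizer (Q : Set H), h.KK ≤ cj n h.KK := by
    intro n hn x hx
    rw [mem_cj, h.mem_KK]
    refine ⟨mul_mem (mul_mem (inv_mem hn) hx.1) hn, fun E hE h1 => ?_⟩
    have h2 := h1.cj hn
    rw [cj_cj] at h2
    have e : n * (n⁻¹ * x * n) = x * n := by group
    rw [e, ← cj_cj] at h2
    exact hx.2 _ (hE.cj h.Dcj hn) h2
  intro n hn
  rw [← cj_eq_iff]
  apply le_antisymm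
  · rw [cj_le_iff]; exact key _ (inv_mem hn)
  · exact key _ hn

/-- the group generated by the members at the point of `A` -/
def EE (M Q : Subgroup H) (D : Set (Subgroup H)) (A : Subgroup H) : Subgroup H :=
  sSup {A' | Th D Q A' ∧ ¬ Opp M Q A A'}

theorem le_EE {A A' : Subgroup H} (hA' : Th D Q A') (hs : ¬ Opp M Q A A') : A' ≤ EE M Q D A :=
  le_sSup (show A' ∈ {A' | Th D Q A' ∧ ¬ Opp M Q A A'} from ⟨hA', hs⟩)

include h

theorem EE_comm [Finite H] {A : Subgroup H} (hA : Th D Q A) : ∀ x ∈ EE M Q D A, ∀ y ∈ EE M Q D A, x * y = y * x := by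
  have h1 : ∀ A' ∈ {A' | Th D Q A' ∧ ¬ Opp M Q A A'}, EE M Q D A ≤ centralizer (A' : Set H) := by
    rintro A' ⟨hA', hs⟩
    apply sSup_le
    rintro A'' ⟨hA'', hs'⟩
    intro x hx
    rw [mem_centralizer_iff]
    intro a ha
    exact h.comm_same hA' hA'' (h.same_trans hA (fun h6 => hs h6.symm) hs') a ha x hx
  have h2 : EE M Q D A ≤ centralizer (EE M Q D A : Set H) := by
    apply sSup_le
    intro A' hA' a ha
    rw [mem_centralizer_iff]
    intro x hx
    exact (mem_centralizer_iff.1 (h1 A' hA' hx) a ha).symm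
  intro x hx y hy
  exact (mem_centralizer_iff.1 (h2 hx) y hy).symm

theorem EE_sq [Finite H] {A : Subgroup H} (hA : Th D Q A) : ∀ x ∈ EE M Q D A, x * x = 1 := by
  let K : Subgroup H :=
    { carrier := {x | x ∈ EE M Q D A ∧ x * x = 1}
      one_mem' := ⟨one_mem _, one_mul 1⟩
      mul_mem' := by
        rintro x y ⟨hx, hx'⟩ ⟨hy, hy'⟩
        refine ⟨mul_mem hx hy, ?_⟩
        rw [mul_assoc, ← mul_assoc y, h.EE_comm hA y hy x hx, mul_assoc x, hy', mul_one, hx']
      inv_mem' := by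
        rintro x ⟨hx, hx'⟩
        refine ⟨inv_mem hx, ?_⟩
        rw [← _root_.mul_inv_rev, hx', inv_one] }
  have h1 : EE M Q D A ≤ K := by
    apply sSup_le
    rintro A' ⟨hA', hs⟩ x hx
    exact ⟨le_EE hA' hs hx, h.sqA A' hA'.mem x hx⟩
  exact fun x hx => (h1 hx).2

theorem cj_EE [Finite H] {A : Subgroup H} {k : H} (hk : k ∈ h.KK) : cj k (EE M Q D A) ≤ EE M Q D A := by
  rw [cj_le_iff]
  apply sSup_le
  rintro A' ⟨hA', hs⟩
  rw [← cj_le_iff]
  exact le_EE (hA'.cj h.Dcj hk.1) (h.same_trans hA' hs (hk.2 A' hA'))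

theorem le_o2_KK [Finite H] {A : Subgroup H} (hA : Th D Q A) : EE M Q D A ⊓ h.KK ≤ o2 h.KK := by
  apply le_o2 inf_le_right
  · intro x
    refine ⟨1, Subtype.ext ?_⟩
    rw [pow_one, pow_two]
    exact h.EE_sq hA x x.2.1
  · intro k hk
    rw [← cj_eq_iff]
    have key : ∀ k ∈ h.KK, cj k (EE M Q D A ⊓ h.KK) ≤ EE M Q D A ⊓ h.KK := by
      intro k hk
      apply le_inf
      · exact (cj_mono inf_le_left).trans (h.cj_EE hk)
      · calc cj k (EE M Q D A ⊓ h.KK) ≤ cj k h.KK := cj_mono inf_le_right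
          _ = h.KK := cj_eq_of_mem hk
    apply le_antisymm (key k hk)
    have h1 := key _ (inv_mem hk)
    rw [cj_le_iff, inv_inv] at h1
    exact h1

/-- (C3) -/
theorem exists_KK [Finite H] [Finite V] {A A' : Subgroup H} (hA : Th D Q A) (hA' : Th D Q A')
    (hs : ¬ Opp M Q A A') (hne : A ≠ A') : ∃ a ∈ A, ∃ a' ∈ A', a' * a ∈ h.KK ∧ a' * a ≠ 1 := by
  obtain ⟨B, hB, hAB⟩ := h.exists_opp hA
  obtain ⟨a, ha, ha1⟩ := h.exists_ne hA.mem
  have hna : a ∈ normalizer (Q : Set H) := hA.norm ha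
  have hB2 : Th D Q (cj a B) := hB.cj h.Dcj hna
  have hs' : ¬ Opp M Q A' A := fun h1 => hs h1.symm
  have h1 : Opp M Q A (cj a B) := by
    have := hAB.cj hna
    rwa [cj_eq_of_mem ha] at this
  have h2 : Opp M Q A' (cj a B) := by
    by_contra h3
    exact h.same_trans hA' hs h3 h1
  have h3 : Opp M Q A' B := by
    by_contra h3
    exact h.same_trans hA' hs h3 hAB
  rcases h.point hA' hB2 h2 hB with h4 | ⟨a', ha', h4⟩
  · exact absurd h3.symm h4
  have hna' : a' ∈ normalizer (Q : Set H) := hA'.norm ha'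
  rw [cj_cj] at h4
  refine ⟨a, ha, a', ha', ?_, ?_⟩
  · rw [h.mem_KK]
    refine ⟨mul_mem hna' hna, fun E hE => ?_⟩
    have hx : a' * a ∈ normalizer (Q : Set H) := mul_mem hna' hna
    have hcA : ∀ a₁ ∈ A, a' * a * a₁ = a₁ * (a' * a) := by
      intro a₁ ha₁
      have e1 : a * a₁ = a₁ * a := h.comm4 A hA.mem A hA.mem A (h.isPGroup_A hA.mem) le_rfl le_rfl a ha a₁ ha₁
      have e2 : a₁ * a' = a' * a₁ := h.comm_same hA hA' hs a₁ ha₁ a' ha'
      rw [mul_assoc, e1, ← mul_assoc, ← e2, mul_assoc]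
    rcases h.point hA hB hAB hE with h5 | ⟨a₁, ha₁, h5⟩
    · have h6 : cj (a' * a) A = A := cj_of_comm hcA
      have h7 : ¬ Opp M Q A (cj (a' * a) E) := by
        intro h8
        have h9 := h8.cj (inv_mem hx)
        rw [cj_inv_cj] at h9
        rw [← h6, cj_inv_cj] at h9
        exact h5 h9.symm
      exact h.same_trans hA h5 h7
    · have hC : Th D Q (cj a₁ B) := hB.cj h.Dcj (hA.norm ha₁)
      have h6 : ¬ Opp M Q (cj (a' * a) E) (cj a₁ B) := by
        intro h7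
        -- conjugate by the inverse
        have h8 := h7.cj (inv_mem hx)
        rw [cj_inv_cj, cj_cj] at h8
        have e1 : (a' * a)⁻¹ * a₁ = a₁ * (a' * a)⁻¹ := by
          rw [inv_mul_eq_iff_eq_mul, ← mul_assoc, hcA a₁ ha₁, mul_assoc, mul_inv_cancel, mul_one]
        rw [e1, ← cj_cj] at h8
        -- `cj (a'a)⁻¹ B ~ B`
        have h9 : ¬ Opp M Q (cj a₁ B) (cj a₁ (cj (a' * a)⁻¹ B)) := by
          intro h10
          have h11 := h10.cj (inv_mem (hA.norm ha₁))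
          rw [cj_inv_cj, cj_inv_cj] at h11
          have h12 := h11.cj hx
          rw [cj_cj_inv] at h12
          exact h4 h12.symm
        exact h.same_trans hC h5 h9 h8
      exact h.same_trans hC h5 fun h7 => h6 h7.symm
  · intro h5
    apply hne
    have h6 : a' = a⁻¹ := eq_inv_of_mul_eq_one_left h5
    have h7 : a' ∈ A := h6 ▸ inv_mem ha
    have h8 : a' ≠ 1 := by
      rintro rfl
      exact ha1 (by rw [one_mul] at h5; exact h5)
    apply h.eq_of_fix hA.mem hA'.mem (h.comm_same hA hA' hs)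
    intro v hv
    exact h.ti A' hA'.mem a' ha' h8 v (hv a' h7)

end Loc

end Cfsg.Agent.Omega.FF.Glob
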