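import Cfsg.Agent.Omega.FF.GlobComm

/-!
# The FF-theorem, global part (F), (G): `H = (L₁ × ... × L_r) T`
-/

set_option autoImplicit false
set_option linter.unusedSectionVars false

namespace Cfsg.Agent.Omega.FF.Glob

open Subgroup Cfsg.Agent.ClassTwoFusion.Quad Cfsg.Agent.LieClassical Matrix
open scoped Pointwise

variable {H V : Type*} [Group H] [Group V] [MulDistribMulAction H V]

theorem le_QQ {D : Set (Subgroup H)} {T E F : Subgroup H} (hE : E ∈ D) (hET : E ≤ T) (hne : E ≠ F) :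
    E ≤ QQ D T F := le_sSup ⟨hE, hET, hne⟩

theorem QQ_le {D : Set (Subgroup H)} {T F : Subgroup H} : QQ D T F ≤ T := sSup_le fun _ hE => hE.2.1

namespace Loc

variable {T : Sylow 2 H} {M : Subgroup H} {D : Set (Subgroup H)} {q : ℕ} {Q : Subgroup H} (h : Loc V T M D q Q)
include h

theorem odd_pred [Finite H] {A : Subgroup H} (hA : A ∈ D) : Odd (q - 1) := by
  obtain ⟨n, hn⟩ := h.pow_two_of_q hA
  have h2 := h.two_le
  cases n with
  | zero => rw [pow_zero] at hn; omega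
  | succ n =>
    have h3 : q = 2 * 2 ^ n := by rw [hn, pow_succ, mul_comm]
    refine ⟨2 ^ n - 1, ?_⟩
    have : 1 ≤ 2 ^ n := Nat.one_le_two_pow
    omega

/-- `[V, L₂] ≤ C_V(L₁)` -/
theorem d_LL [Finite H] [Finite V] (hq : 2 < q) {F₁ F₂ : Subgroup H} (h1 : F₁ ∈ D) (h1T : F₁ ≤ T) (h2 : F₂ ∈ D)
    (h2T : F₂ ≤ T) (hne : F₁ ≠ F₂) :
    ∀ x ∈ LL D (QQ D T F₂), ∀ v : V, ∀ y ∈ LL D (QQ D T F₁), y • d x v = d x v := by
  obtain ⟨-, -, hfam⟩ := h.family
  obtain ⟨l1, t1⟩ := hfam F₁ h1 h1T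
  obtain ⟨l2, t2⟩ := hfam F₂ h2 h2T
  obtain ⟨B₁, hB₁, hne₁⟩ := l1.exists_ne_th t1
  obtain ⟨B₂, hB₂, hne₂⟩ := l2.exists_ne_th t2
  obtain ⟨K, _, _, π, φ, hn⟩ := l1.nat2' t1 hB₁ hne₁
  obtain ⟨K', _, _, π', φ', hn'⟩ := l2.nat2' t2 hB₂ hne₂
  have hcK : Nat.card K = q := by rw [hn.card_F, h.card _ h1]
  obtain ⟨k, hk, hkF, hkn, hkv⟩ := hn.exists_torus (by rw [hcK]; exact hq)
  rw [hcK] at hkn
  rw [← l1.LL_eq t1 hB₁ hne₁] at hk hkv
  have hF21 : F₂ ≤ QQ D T F₁ := le_QQ h2 h2T hne.symm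
  have hF12 : F₁ ≤ QQ D T F₂ := le_QQ h1 h1T hne
  have hkQ : k ∈ normalizer (QQ D T F₂ : Set H) := by
    have key : ∀ E, E ∈ D → E ≤ (T : Subgroup H) → cj k E = E := by
      intro E hE hET
      by_cases h3 : E = F₁
      · rw [h3, hkF]
      · exact cj_of_comm fun a ha => l1.LL_comm_Q k hk a (le_QQ hE hET h3 ha)
    rw [← cj_eq_iff]
    apply le_antisymm
    · rw [cj_le_iff]
      apply sSup_le
      rintro E ⟨hE, hET, hEF⟩
      rw [← cj_le_iff, key E hE hET]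
      exact le_QQ hE hET hEF
    · apply sSup_le
      rintro E ⟨hE, hET, hEF⟩
      rw [← key E hE hET]
      exact cj_mono (le_QQ hE hET hEF)
  have hk2 : ∀ x ∈ LL D (QQ D T F₂), k * x = x * k := l2.comm_LL_of_odd t2 hkQ
    (fun a ha => l1.LL_comm_Q k hk a (hF21 ha)) (h.odd_pred h1) hkn
  -- `L₂` preserves `C_V(L₁)`
  have hpres : ∀ x ∈ LL D (QQ D T F₂), ∀ v : V, (∀ y ∈ LL D (QQ D T F₁), y • v = v) →
      ∀ y ∈ LL D (QQ D T F₁), y • (x • v) = x • v := by
    intro x hx v hv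
    apply hkv
    rw [← mul_smul, hk2 x hx, mul_smul, hv k hk]
  -- `[V, F₂] ≤ C_V(L₁)`
  have hbase : ∀ a ∈ F₂, ∀ v : V, ∀ y ∈ LL D (QQ D T F₁), y • d a v = d a v := by
    intro a ha
    have hac : ∀ y ∈ LL D (QQ D T F₁), y * a = a * y := fun y hy => l1.LL_comm_Q y hy a (hF21 ha)
    have hyd : ∀ y ∈ LL D (QQ D T F₁), ∀ v : V, y • d a v = d a (y • v) := by
      intro y hy v
      rw [d, d, smul_mul', ← mul_smul, hac y hy, mul_smul]
    let U : Subgroup V :=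
      { carrier := {v | ∀ y ∈ LL D (QQ D T F₁), y • d a v = d a v}
        one_mem' := fun y _ => by rw [(h.d_eq_one a 1).2 (smul_one a), smul_one]
        mul_mem' := by
          intro v w hv hw y hy
          rw [h.d_mul, smul_mul', hv y hy, hw y hy]
        inv_mem' := by
          intro v hv
          rw [h.inv_eq]
          exact hv }
    by_contra hcon
    push Not at hcon
    obtain ⟨v, y, hy, hv⟩ := hcon
    have hU : U = ⊤ := by
      have haa : a * a = 1 := h.sqA F₂ h2 a ha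
      refine hn.irr (v := d a v) ?_ ?_ ?_ ?_
      · intro l hl v hv
        rw [← l1.LL_eq t1 hB₁ hne₁] at hl
        intro y hy
        have e1 : d a (l • v) = d a v := by rw [← hyd l hl, hv l hl]
        rw [e1]
        exact hv y hy
      · intro v hv y hy
        rw [hyd y hy, hv y (by rw [← l1.LL_eq t1 hB₁ hne₁]; exact hy)]
      · intro y _
        have e1 : d a (d a v) = 1 := by
          rw [h.d_eq_one, d, smul_mul', ← mul_smul, haa, one_smul, h.comm]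
        rw [e1, smul_one]
      · exact ⟨y, by rw [← l1.LL_eq t1 hB₁ hne₁]; exact hy, hv⟩
    have : v ∈ U := by rw [hU]; trivial
    exact hv (this y hy)
  -- all of `L₂`
  let W : Subgroup H :=
    { carrier := {x | x ∈ LL D (QQ D T F₂) ∧ ∀ v : V, ∀ y ∈ LL D (QQ D T F₁), y • d x v = d x v}
      one_mem' := ⟨one_mem _, fun v y _ => by rw [(h.d_eq_one 1 v).2 (one_smul _ _), smul_one]⟩
      mul_mem' := by
        rintro x x' ⟨hx, hx'⟩ ⟨hy, hy'⟩
        refine ⟨mul_mem hx hy, fun v y hyy => ?_⟩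
        have e1 : d (x * x') v = (x • d x' v) * d x v := by
          rw [d, mul_smul, h.smul_eq x' v, smul_mul', h.smul_eq x v, mul_assoc, mul_assoc, h.sq, mul_one]
        rw [e1, smul_mul', hpres x hx _ (hy' v) y hyy, hx' v y hyy]
      inv_mem' := by
        rintro x ⟨hx, hx'⟩
        refine ⟨inv_mem hx, fun v y hyy => ?_⟩
        have e1 : d x⁻¹ v = x⁻¹ • d x v := by
          rw [d, d, smul_mul', ← mul_smul, inv_mul_cancel, one_smul, h.comm]
        rw [e1]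
        exact hpres x⁻¹ (inv_mem hx) _ (hx' v) y hyy }
  have hW : LL D (QQ D T F₂) ≤ W := by
    have key : ∀ l ∈ LL D (QQ D T F₂), cj l F₂ ≤ W := by
      intro l hl x hx
      have hx' : l⁻¹ * x * l ∈ F₂ := mem_cj.1 hx
      have hxL : x ∈ LL D (QQ D T F₂) := by
        have h3 := mul_mem (mul_mem hl (le_LL t2 hx')) (inv_mem hl)
        have e : l * (l⁻¹ * x * l) * l⁻¹ = x := by group
        rwa [e] at h3
      refine ⟨hxL, fun v y hyy => ?_⟩
      have e1 : d x v = l • d (l⁻¹ * x * l) (l⁻¹ • v) := by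
        rw [d, d, smul_mul', ← mul_smul, ← mul_smul, ← mul_smul]
        have e : l * (l⁻¹ * x * l) * l⁻¹ = x := by group
        rw [e, mul_inv_cancel, one_smul]
      rw [e1]
      exact hpres l hl _ (hbase _ hx' _) y hyy
    obtain ⟨l, hl, hlB⟩ := hn'.exists_swap
    rw [← l2.LL_eq t2 hB₂ hne₂] at hl
    apply sSup_le
    intro E hE
    rcases l2.point' t2 hB₂ hne₂ hE with rfl | ⟨a, ha, rfl⟩
    · have := key 1 (one_mem _)
      rwa [cj_one] at this
    · rw [← hlB, cj_cj]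
      exact key _ (mul_mem (le_LL t2 ha) hl)
  exact fun x hx v y hy => (hW hx).2 v y hy

theorem commute_of_d {x y : H} (h1 : ∀ v : V, y • d x v = d x v) (h2 : ∀ v : V, x • d y v = d y v) :
    x * y = y * x := by
  have h3 : ∀ v : V, (x * y) • v = (y * x) • v := by
    intro v
    rw [mul_smul, mul_smul, h.smul_eq y v, h.smul_eq x v, smul_mul', smul_mul', h1, h2, h.smul_eq y v,
      h.smul_eq x v, ← mul_assoc, ← mul_assoc, h.comm (d x v)]
  have h2 : (y * x)⁻¹ * (x * y) = 1 := by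
    apply h.faith
    intro v
    rw [mul_smul, h3, ← mul_smul, inv_mul_cancel, one_smul]
  exact (inv_mul_eq_one.1 h2).symm

/-- `[L₁, L₂] = 1` -/
theorem comm_LL [Finite H] [Finite V] (hq : 2 < q) {F₁ F₂ : Subgroup H} (h1 : F₁ ∈ D) (h1T : F₁ ≤ T) (h2 : F₂ ∈ D)
    (h2T : F₂ ≤ T) (hne : F₁ ≠ F₂) :
    ∀ x ∈ LL D (QQ D T F₁), ∀ y ∈ LL D (QQ D T F₂), x * y = y * x := fun x hx y hy =>
  h.commute_of_d (fun v => h.d_LL hq h2 h2T h1 h1T hne.symm x hx v y hy)
    (fun v => h.d_LL hq h1 h1T h2 h2T hne y hy v x hx)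

omit [MulDistribMulAction H V] [Group V] h in
theorem _root_.Cfsg.Agent.Omega.FF.Glob.LL_cj {D : Set (Subgroup H)} (hD : ∀ A ∈ D, ∀ g : H, cj g A ∈ D) (g : H)
    (Q : Subgroup H) : LL D (cj g Q) = cj g (LL D Q) := by
  have key : ∀ (k : H) (Q' A : Subgroup H), Th D Q' A → Th D (cj k Q') (cj k A) := by
    intro k Q' A hA
    refine ⟨hD A hA.mem k, ?_, ?_⟩
    · rw [normalizer_cj]; exact cj_mono hA.norm
    · rw [cj_le_cj_iff]; exact hA.nle
  apply le_antisymm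
  · apply sSup_le
    intro E hE
    have h1 := key g⁻¹ _ _ hE
    rw [cj_inv_cj] at h1
    have h2 := cj_mono (g := g) (le_LL h1)
    rwa [cj_cj_inv] at h2
  · rw [cj_le_iff]
    apply sSup_le
    intro E hE
    rw [← cj_le_iff]
    exact le_LL (key g _ _ hE)

end Loc

/-- `⟨L_F⟩` -/
def XX (D : Set (Subgroup H)) (T : Subgroup H) : Subgroup H :=
  sSup {L | ∃ F ∈ D, F ≤ T ∧ L = LL D (QQ D T F)}

theorem le_XX {D : Set (Subgroup H)} {T F : Subgroup H} (hF : F ∈ D) (hFT : F ≤ T) :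
    LL D (QQ D T F) ≤ XX D T := le_sSup ⟨F, hF, hFT, rfl⟩

namespace Loc

variable {T : Sylow 2 H} {M : Subgroup H} {D : Set (Subgroup H)} {q : ℕ} {Q : Subgroup H} (h : Loc V T M D q Q)
include h

theorem cj_LL {t : H} (ht : t ∈ T) (F : Subgroup H) : cj t (LL D (QQ D T F)) = LL D (QQ D T (cj t F)) := by
  rw [h.QQ_cj ht, LL_cj h.Dcj]

theorem XX_sup [Finite H] [Finite V] : XX D T ⊔ T = ⊤ := by
  obtain ⟨⟨F, hF, hFT⟩, -, hfam⟩ := h.family
  obtain ⟨l1, t1⟩ := hfam F hF hFT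
  obtain ⟨B, hB, hFB⟩ := l1.exists_opp t1
  rcases h.max (XX D T ⊔ T) le_sup_right with h1 | h1
  · exfalso
    refine hFB 1 ?_ ?_ ?_
    · rw [cj_one]; exact hFT.trans h.TM
    · rw [cj_one]; exact (le_LL hB).trans ((le_XX hF hFT).trans (le_sup_left.trans h1))
    · rw [cj_one]; exact QQ_le.trans h.TM
  · exact h1

theorem XX_normal [Finite H] [Finite V] : (XX D T).Normal := by
  rw [← normalizer_eq_top_iff, eq_top_iff, ← h.XX_sup]
  apply sup_le le_normalizer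
  have key : ∀ t ∈ T, cj t (XX D T) ≤ XX D T := by
    intro t ht
    rw [cj_le_iff]
    apply sSup_le
    rintro _ ⟨F, hF, hFT, rfl⟩
    rw [← cj_le_iff, h.cj_LL ht]
    refine le_XX (h.Dcj F hF t) ?_
    rw [cj_le_iff, cj_eq_of_mem (inv_mem ht)]
    exact hFT
  intro t ht
  rw [← cj_eq_iff]
  apply le_antisymm (key t ht)
  have h1 := key _ (inv_mem ht)
  rwa [cj_le_iff, inv_inv] at h1

end Loc

end Cfsg.Agent.Omega.FF.Glob
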