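import Cfsg.Agent.Omega.FF.GlobOut
import Cfsg.Agent.Omega.NatPair.Of
import Cfsg.Agent.LieRecognition.FieldSemilinear

/-!
# The FF-theorem, global part: the normaliser of `A` acts semilinearly on the natural module
-/

set_option autoImplicit false
set_option linter.unusedSectionVars false

namespace Cfsg.Agent.Omega.FF.Glob

open Subgroup Cfsg.Agent.ClassTwoFusion.Quad Cfsg.Agent.LieClassical Matrix
open Cfsg.Agent.Omega.NatPair (ap ap_eq_mulVec)

variable {H V : Type*} [Group H] [Group V] [MulDistribMulAction H V]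

namespace NatAt

variable {A B : Subgroup H} {F : Type} [Field F] {π : V → (Fin 2 → F)}
  {φ : ↥(A ⊔ B) →* Matrix.SpecialLinearGroup (Fin 2) F} (h : NatAt A B π φ)
include h

theorem pi_eq_iff {v w : V} : π v = π w ↔ ∀ x ∈ A ⊔ B, x • (v * w⁻¹) = v * w⁻¹ := by
  rw [← h.ker, h.mul, h.pi_inv, ← sub_eq_add_neg, sub_eq_zero]

theorem dep {x : H} (hx : Glob.cj x (A ⊔ B) = A ⊔ B) {v w : V} (hvw : π v = π w) : π (x • v) = π (x • w) := by
  rw [h.pi_eq_iff] at hvw ⊢
  have e : x • v * (x • w)⁻¹ = x • (v * w⁻¹) := by rw [smul_mul', smul_inv']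
  rw [e, ← hx, smul_fix_cj, inv_smul_smul]
  exact hvw

theorem exists_map {x : H} (hx : Glob.cj x (A ⊔ B) = A ⊔ B) : ∃ T : (Fin 2 → F) → (Fin 2 → F),
    ∀ v, T (π v) = π (x • v) := by
  refine ⟨fun w => π (x • (Function.surjInv h.surj w)), fun v => ?_⟩
  exact h.dep hx (Function.surjInv_eq h.surj (π v))

/-- elements normalising `A` and `⟨A, B⟩` act semilinearly and upper triangular -/
theorem exists_tri [Finite F] {x : H} (hx : Glob.cj x (A ⊔ B) = A ⊔ B) (hxA : Glob.cj x A = A) :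
    ∃ (s : F ≃+* F) (α γ δ : F), α ≠ 0 ∧ δ ≠ 0 ∧
      ∀ v, π (x • v) = ![α * s (π v 0) + γ * s (π v 1), δ * s (π v 1)] := by
  obtain ⟨T, hT⟩ := h.exists_map hx
  have hx' : Glob.cj x⁻¹ (A ⊔ B) = A ⊔ B := cj_inv_eq hx
  obtain ⟨T', hT'⟩ := h.exists_map hx'
  have hadd : ∀ w w', T (w + w') = T w + T w' := by
    intro w w'
    obtain ⟨v, rfl⟩ := h.surj w
    obtain ⟨v', rfl⟩ := h.surj w'
    rw [← h.mul, hT, hT, hT, smul_mul', h.mul]
  have h1 : ∀ w, T' (T w) = w := by
    intro w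
    obtain ⟨v, rfl⟩ := h.surj w
    rw [hT, hT', inv_smul_smul]
  have h2 : ∀ w, T (T' w) = w := by
    intro w
    obtain ⟨v, rfl⟩ := h.surj w
    rw [hT', hT, smul_inv_smul]
  have hn : ∀ A' : Matrix.SpecialLinearGroup (Fin 2) F, ∃ B' : Matrix.SpecialLinearGroup (Fin 2) F,
      ∀ w, T' (ap A' (T w)) = ap B' w := by
    intro A'
    obtain ⟨l, rfl⟩ := h.bij.2 A'
    have hl : x⁻¹ * l * x ∈ A ⊔ B := by
      have h3 : (l : H) ∈ Glob.cj x (A ⊔ B) := by rw [hx]; exact l.2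
      exact mem_cj.1 h3
    refine ⟨φ ⟨x⁻¹ * l * x, hl⟩, fun w => ?_⟩
    obtain ⟨v, rfl⟩ := h.surj w
    rw [hT, ap_eq_mulVec, ap_eq_mulVec, ← h.act, hT', ← h.act]
    congr 1
    show x⁻¹ • (l : H) • x • v = (x⁻¹ * l * x) • v
    rw [mul_smul, mul_smul]
  obtain ⟨σ, hσ⟩ := NatPair.exists_semi T T' hadd h1 h2 hn
  obtain ⟨s, hs⟩ := NatPair.exists_ringEquiv T T' hadd h1 σ hσ
  have hline : ∀ w : Fin 2 → F, w 1 = 0 → T w 1 = 0 := by
    intro w hw
    obtain ⟨v, rfl⟩ := h.surj w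
    rw [hT, h.kerA, ← hxA, smul_fix_cj, inv_smul_smul]
    exact (h.kerA v).1 hw
  have hline' : ∀ w : Fin 2 → F, w 1 = 0 → T' w 1 = 0 := by
    intro w hw
    obtain ⟨v, rfl⟩ := h.surj w
    rw [hT', h.kerA, ← cj_inv_eq hxA, smul_fix_cj, inv_smul_smul]
    exact (h.kerA v).1 hw
  have hT0 : T 0 = 0 := by
    have := hadd 0 0
    rw [add_zero] at this
    exact left_eq_add.1 this
  have hT'0 : T' 0 = 0 := by
    have := h1 0
    rwa [hT0] at this
  refine ⟨s, T ![1, 0] 0, T ![0, 1] 0, T ![0, 1] 1, ?_, ?_, ?_⟩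
  · intro h3
    have h4 : T ![1, 0] = 0 := by
      ext i
      fin_cases i
      · exact h3
      · exact hline _ rfl
    have h5 := h1 ![1, 0]
    rw [h4, hT'0] at h5
    exact zero_ne_one (congrFun h5 0)
  · intro h3
    have h5 := hline' _ h3
    rw [h1] at h5
    exact one_ne_zero h5
  · intro v
    have e : π v = π v 0 • ![1, 0] + π v 1 • ![0, 1] := by
      ext i; fin_cases i <;> simp
    rw [← hT]
    conv_lhs => rw [e]
    rw [hadd, hs, hs]
    ext i
    fin_cases i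
    · simp; ring
    · have : T ![1, 0] 1 = 0 := hline _ rfl
      simp [this]; ring

end NatAt

/-- the involution in the automorphism group of a finite field is unique -/
theorem ringAut_inv_unique {F : Type*} [Field F] [Finite F] {σ τ : F ≃+* F}
    (hσ : ∀ c, σ (σ c) = c) (hτ : ∀ c, τ (τ c) = c) (hσ1 : ∃ c, σ c ≠ c) (hτ1 : ∃ c, τ c ≠ c) : σ = τ := by
  classical
  have : IsCyclic (F ≃+* F) := Cfsg.Agent.LieRecognition.FieldSemilinear.isCyclic_ringAut F
  have : Finite (F ≃+* F) := Finite.of_injective (fun σ : F ≃+* F => (σ : F → F)) DFunLike.coe_injective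
  let _ := Fintype.ofFinite (F ≃+* F)
  by_contra hne
  have h1 := IsCyclic.card_pow_eq_one_le (α := F ≃+* F) (n := 2) (by norm_num)
  have hs1 : σ ≠ 1 := by
    rintro rfl
    obtain ⟨c, hc⟩ := hσ1
    exact hc rfl
  have ht1 : τ ≠ 1 := by
    rintro rfl
    obtain ⟨c, hc⟩ := hτ1
    exact hc rfl
  have h3 : ({1, σ, τ} : Finset (F ≃+* F)) ⊆ Finset.univ.filter (fun a => a ^ 2 = 1) := by
    intro x hx
    simp only [Finset.mem_insert, Finset.mem_singleton] at hx
    rw [Finset.mem_filter]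
    refine ⟨Finset.mem_univ _, ?_⟩
    rcases hx with rfl | rfl | rfl
    · exact one_pow _
    · rw [sq]
      exact RingEquiv.ext hσ
    · rw [sq]
      exact RingEquiv.ext hτ
  have h4 := Finset.card_le_card h3
  have h5 : ({1, σ, τ} : Finset (F ≃+* F)).card = 3 := by
    rw [Finset.card_insert_of_notMem, Finset.card_insert_of_notMem, Finset.card_singleton]
    · simpa using hne
    · simp only [Finset.mem_insert, Finset.mem_singleton, not_or]
      exact ⟨fun h => hs1 h.symm, fun h => ht1 h.symm⟩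
  omega

end Cfsg.Agent.Omega.FF.Glob
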