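import Cfsg.Agent.Omega.FF.GlobLoc
import Cfsg.Agent.PLocal.ElemAbSup

/-!
# The FF-theorem, global part (A)-(C): at every point there is exactly one member of `Θ`
-/

set_option autoImplicit false
set_option linter.unusedSectionVars false

namespace Cfsg.Agent.Omega.FF.Glob

open Subgroup Cfsg.Agent.ClassTwoFusion.Quad Cfsg.Agent.LieClassical Matrix
open scoped Pointwise
open Cfsg.Agent.PLocal.ElemAbSup (coe_sup_of_le_centralizer)

variable {H V : Type*} [Group H] [Group V] [MulDistribMulAction H V]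

section Opp

variable {M Q A B : Subgroup H}

theorem Opp.symm (h : Opp M Q A B) : Opp M Q B A := fun g h1 h2 => h g h2 h1

theorem cj_cj_le {g n : H} {A M : Subgroup H} : cj n A ≤ cj g M ↔ A ≤ cj (n⁻¹ * g) M := by
  rw [cj_le_iff, cj_cj]

theorem Opp.cj (h : Opp M Q A B) {n : H} (hn : n ∈ normalizer (Q : Set H)) :
    Opp M Q (cj n A) (Glob.cj n B) := by
  intro g h1 h2 h3
  rw [cj_cj_le] at h1 h2
  apply h _ h1 h2
  rw [← cj_cj_le, cj_eq_iff.2 hn]
  exact h3

theorem Th.cj {D : Set (Subgroup H)} (hD : ∀ A ∈ D, ∀ g : H, Glob.cj g A ∈ D) (h : Th D Q A) {n : H}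
    (hn : n ∈ normalizer (Q : Set H)) : Th D Q (Glob.cj n A) where
  mem := hD A h.mem n
  norm := by
    rw [cj_le_iff, ← normalizer_cj, cj_eq_iff.2 (inv_mem hn)]
    exact h.norm
  nle := by
    rw [cj_le_iff, cj_eq_iff.2 (inv_mem hn)]
    exact h.nle

end Opp

namespace Loc

variable {T : Sylow 2 H} {M : Subgroup H} {D : Set (Subgroup H)} {q : ℕ} {Q : Subgroup H} (h : Loc V T M D q Q)
include h

/-! ### the module -/

theorem inv_eq (v : V) : v⁻¹ = v := inv_eq_of_mul_eq_one_left (h.sq v)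

theorem smul_eq (x : H) (v : V) : x • v = d x v * v := by rw [d, mul_assoc, h.sq, mul_one]

theorem d_eq_one (x : H) (v : V) : d x v = 1 ↔ x • v = v := by
  rw [d, mul_eq_one_iff_eq_inv, h.inv_eq]

theorem mmc (a b c e : V) : a * b * (c * e) = a * c * (b * e) := by
  rw [mul_assoc, mul_assoc, ← mul_assoc b, h.comm b c, mul_assoc]

theorem d_mul (x : H) (v w : V) : d x (v * w) = d x v * d x w := by
  rw [d, smul_mul']
  exact h.mmc _ _ _ _

theorem exists_mv {x : H} (hx : x ≠ 1) : ∃ v : V, x • v ≠ v := by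
  by_contra hc
  push Not at hc
  exact hx (h.faith x hc)

theorem exists_ne {A : Subgroup H} (hA : A ∈ D) : ∃ a ∈ A, a ≠ 1 := by
  by_contra hc
  push Not at hc
  have h1 : A = ⊥ := by rw [eq_bot_iff]; exact fun a ha => mem_bot.2 (hc a ha)
  have h2 := h.card A hA
  rw [h1, card_bot] at h2
  have := h.two_le
  omega

/-! ### points -/

theorem same_trans {A B C : Subgroup H} (hB : Th D Q B) (h1 : ¬ Opp M Q A B) (h2 : ¬ Opp M Q B C) :
    ¬ Opp M Q A C := by
  unfold Opp at h1 h2 ⊢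
  push Not at h1 h2 ⊢
  obtain ⟨g, ha, hb, hq⟩ := h1
  obtain ⟨k, hb', hc, hq'⟩ := h2
  have h3 := h.uniq B hB g k hb hq hb' hq'
  exact ⟨g, ha, h3 ▸ hc, hq⟩

theorem exists_opp {A : Subgroup H} (hA : Th D Q A) : ∃ B, Th D Q B ∧ Opp M Q A B := by
  obtain ⟨B, C, hB, hC, hBC⟩ := h.two
  by_contra hc
  push Not at hc
  exact h.same_trans hA (fun h1 => hc B hB h1.symm) (hc C hC) hBC

theorem comm_Q {A : Subgroup H} (hA : Th D Q A) : ∀ a ∈ A, ∀ x ∈ Q, a * x = x * a := by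
  obtain ⟨B, hB, hAB⟩ := h.exists_opp hA
  exact (h.pair A B hA hB hAB).2

theorem isPGroup_A {A : Subgroup H} (hA : A ∈ D) : IsPGroup 2 A := by
  intro x
  refine ⟨1, Subtype.ext ?_⟩
  rw [pow_one, pow_two]
  exact h.sqA A hA x x.2

theorem isPGroup_AQ {A : Subgroup H} (hA : Th D Q A) : IsPGroup 2 (A ⊔ Q : Subgroup H) :=
  (h.isPGroup_A hA.mem).to_sup_of_normal_right' h.Q2 hA.norm

theorem same_refl [Finite H] {A : Subgroup H} (hA : Th D Q A) : ¬ Opp M Q A A := by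
  have : Fact (Nat.Prime 2) := ⟨Nat.prime_two⟩
  obtain ⟨S, hS⟩ := (h.isPGroup_AQ hA).exists_le_sylow
  obtain ⟨g, hg⟩ := MulAction.exists_smul_eq H T S
  have h1 : (S : Subgroup H) = cj g T := by
    rw [← hg]
    ext x
    rw [mem_cj, Sylow.coe_subgroup_smul, Subgroup.mem_pointwise_smul_iff_inv_smul_mem, ← map_inv, MulAut.smul_def,
      MulAut.conj_apply, inv_inv]
  intro h2
  have h3 : A ⊔ Q ≤ cj g M := (hS.trans h1.le).trans (cj_mono h.TM)
  exact h2 g (le_sup_left.trans h3) (le_sup_left.trans h3) (le_sup_right.trans h3)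

theorem nat2 {A B : Subgroup H} (hA : Th D Q A) (hB : Th D Q B) (hAB : Opp M Q A B) : Nat2 V A B :=
  (h.pair A B hA hB hAB).1

/-- `[v, a]` is not fixed by `B` -/
theorem star {A B : Subgroup H} (hA : Th D Q A) (hB : Th D Q B) (hAB : Opp M Q A B) {a : H} (ha : a ∈ A) {v : V}
    (hv : a • v ≠ v) : ¬ ∀ b ∈ B, b • d a v = d a v := by
  obtain ⟨F, _, _, π, φ, hn⟩ := h.nat2 hA hB hAB
  intro h1
  apply hn.d_not_ker h.sq ha hv
  have e0 : π (d a v) 0 = 0 := (hn.kerB _).2 h1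
  have e1 : π (d a v) 1 = 0 := (hn.kerA _).2 fun a' ha' => h.quad A hA.mem a ha a' ha' v
  ext i
  fin_cases i
  · exact e0
  · exact e1

theorem sup_le_norm {A B : Subgroup H} (hA : Th D Q A) (hB : Th D Q B) : A ⊔ B ≤ normalizer (Q : Set H) :=
  sup_le hA.norm hB.norm

theorem fix_cj {A : Subgroup H} {l : H} {v : V} (hv : ∀ a ∈ A, a • (l • v) = l • v) :
    ∀ x ∈ cj l⁻¹ A, x • v = v := by
  intro x hx
  rw [mem_cj, inv_inv] at hx
  have h1 := hv _ hx
  have h2 := congrArg (fun w => l⁻¹ • w) h1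
  simp only [← mul_smul] at h2
  have e : l⁻¹ * (l * x * l⁻¹ * l) = x := by group
  rw [e, inv_mul_cancel, one_smul] at h2
  exact h2

theorem cover {A B : Subgroup H} (hA : Th D Q A) (hB : Th D Q B) (hAB : Opp M Q A B) (v : V) :
    ∃ l ∈ A ⊔ B, ∀ x ∈ cj l A, x • v = v := by
  obtain ⟨F, _, _, π, φ, hn⟩ := h.nat2 hA hB hAB
  obtain ⟨l, hl, hlv⟩ := hn.cover v
  exact ⟨l⁻¹, inv_mem hl, h.fix_cj hlv⟩

theorem cj_A {A B : Subgroup H} (hA : Th D Q A) (hB : Th D Q B) (hAB : Opp M Q A B) {l : H} (hl : l ∈ A ⊔ B) :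
    cj l A = A ∨ ∃ a ∈ A, cj l A = cj a B := by
  obtain ⟨F, _, _, π, φ, hn⟩ := h.nat2 hA hB hAB
  exact hn.cj_A hl

/-- (B) the points -/
theorem point {A B E : Subgroup H} (hA : Th D Q A) (hB : Th D Q B) (hAB : Opp M Q A B) (hE : Th D Q E) :
    ¬ Opp M Q E A ∨ ∃ a ∈ A, ¬ Opp M Q E (cj a B) := by
  obtain ⟨e, he, he1⟩ := h.exists_ne hE.mem
  obtain ⟨v, hv⟩ := h.exists_mv he1
  obtain ⟨l, hl, hlw⟩ := h.cover hA hB hAB (d e v)
  have hl' : Th D Q (cj l A) := hA.cj h.Dcj (h.sup_le_norm hA hB hl)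
  have h1 : ¬ Opp M Q E (cj l A) := fun h2 => h.star hE hl' h2 he hv hlw
  rcases h.cj_A hA hB hAB hl with h2 | ⟨a, ha, h2⟩
  · left; rwa [h2] at h1
  · right; exact ⟨a, ha, by rwa [h2] at h1⟩

/-- (C1) `[V, A] ≤ C_V(A')` if `A`, `A'` have the same point -/
theorem d_fix [Finite H] {A A' : Subgroup H} (hA : Th D Q A) (hA' : Th D Q A') (hs : ¬ Opp M Q A A') {a : H}
    (ha : a ∈ A) (v : V) : ∀ a' ∈ A', a' • d a v = d a v := by
  by_cases hv : a • v = v
  · intro a' _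
    rw [(h.d_eq_one a v).2 hv, smul_one]
  obtain ⟨B, hB, hAB⟩ := h.exists_opp hA
  have hA'B : Opp M Q A' B := by
    by_contra h1
    exact h.same_trans hA' hs h1 hAB
  obtain ⟨l, hl, hlw⟩ := h.cover hA' hB hA'B (d a v)
  rcases h.cj_A hA' hB hA'B hl with h2 | ⟨a', ha', h2⟩
  · rwa [h2] at hlw
  · exfalso
    rw [h2] at hlw
    have hn : a' ∈ normalizer (Q : Set H) := hA'.norm ha'
    have hB' : Th D Q (cj a' B) := hB.cj h.Dcj hn
    have h3 : Opp M Q A (cj a' B) := by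
      by_contra h4
      have h5 := h.same_trans hA (fun h6 => hs h6.symm) h4
      have h6 := hA'B.cj hn
      rw [cj_eq_of_mem ha'] at h6
      exact h5 h6
    exact h.star hA hB' h3 ha hv hlw

theorem comm_same [Finite H] {A A' : Subgroup H} (hA : Th D Q A) (hA' : Th D Q A') (hs : ¬ Opp M Q A A') :
    ∀ a ∈ A, ∀ a' ∈ A', a * a' = a' * a := by
  intro a ha a' ha'
  have h1 : ∀ v : V, (a * a') • v = (a' * a) • v := by
    intro v
    have e1 : a' • d a v = d a v := h.d_fix hA hA' hs ha v a' ha'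
    have e2 : a • d a' v = d a' v := h.d_fix hA' hA (fun h6 => hs h6.symm) ha' v a ha
    rw [mul_smul, mul_smul, h.smul_eq a' v, h.smul_eq a v, smul_mul', smul_mul', e1, e2, h.smul_eq a' v,
      h.smul_eq a v, ← mul_assoc, ← mul_assoc, h.comm (d a v)]
  have h2 : (a' * a)⁻¹ * (a * a') = 1 := by
    apply h.faith
    intro v
    rw [mul_smul, h1, ← mul_smul, inv_mul_cancel, one_smul]
  exact (inv_mul_eq_one.1 h2).symm

/-- members with the same fixed points, and commuting, are equal -/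
theorem eq_of_fix [Finite H] [Finite V] {A A' : Subgroup H} (hA : A ∈ D) (hA' : A' ∈ D)
    (hc : ∀ a ∈ A, ∀ a' ∈ A', a * a' = a' * a) (hf : ∀ v : V, (∀ a ∈ A, a • v = v) → ∀ a' ∈ A', a' • v = v) :
    A = A' := by
  -- the product is elementary abelian
  have hE : ∀ x ∈ A ⊔ A', x * x = 1 := by
    intro x hx
    have hle : A' ≤ centralizer (A : Set H) := fun b hb => mem_centralizer_iff.2 fun a ha => hc a ha b hb
    have h1 : x ∈ (A : Set H) * (A' : Set H) := by
      rw [← coe_sup_of_le_centralizer hle]; exact hx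
    obtain ⟨a, ha, b, hb, rfl⟩ := Set.mem_mul.1 h1
    have e : a * b * (a * b) = a * a * (b * b) := by
      rw [mul_assoc, ← mul_assoc b, ← hc a ha b hb]
      simp only [mul_assoc]
    rw [e, h.sqA A hA a ha, h.sqA A' hA' b hb, one_mul]
  have h1 := h.noover _ hE
  have h2 : cv V ((A ⊔ A' : Subgroup H) : Set H) = cv V (A : Set H) := by
    apply le_antisymm
    · exact cv_anti (V := V) (le_sup_left (a := A) (b := A'))
    · intro v hv
      have h3 : A ⊔ A' ≤ MulAction.stabilizer H v := sup_le (fun a ha => hv a ha) (fun b hb => hf v hv b hb)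
      exact fun x hx => h3 hx
  rw [h2, h.idx A hA] at h1
  have h3 : A = A ⊔ A' := Subgroup.eq_of_le_of_card_ge le_sup_left (by rw [h.card A hA]; exact h1)
  have h4 : A' = A ⊔ A' := Subgroup.eq_of_le_of_card_ge le_sup_right (by rw [h.card A' hA']; exact h1)
  exact h3.trans h4.symm

end Loc

end Cfsg.Agent.Omega.FF.Glob
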