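import Cfsg.Agent.Omega.FF.Conf

/-!
# THEOREM FF, step (2): minimal pairs
-/

set_option autoImplicit false
set_option linter.unusedSectionVars false

namespace Cfsg.Agent.Omega.FF.Min

open Cfsg.Agent.Omega.FF.Basic Cfsg.Agent.Omega.FF.Setup Cfsg.Agent.Omega.FF.Frat Cfsg.Agent.Omega.FF.Conf
open scoped Pointwise

variable {X : Type*} [Group X] [Finite X] {V : Type*} [AddCommGroup V] [Finite V] [DistribMulAction X V]

/-- minimal pair `(B, C)` -/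
structure Mn (𝒟 : Set (Subgroup X)) (D B C : Subgroup X) : Prop where
  hB : B ∈ AN 𝒟 D
  hC : C ∈ AN 𝒟 D
  ne : pp D C ≠ pp D B
  min : ∀ C' ∈ AN 𝒟 D, pp D C' ≠ pp D B → C' ≤ D ⊔ B ⊔ C → C ≤ D ⊔ B ⊔ C'

variable {𝒟 : Set (Subgroup X)} {D B C : Subgroup X} (h : Hyp V 𝒟) (c : Cfg 𝒟 D)
include h c

theorem exists_syl (hB : B ∈ AN 𝒟 D) : ∃ T : Sylow 2 X, D ⊔ B ≤ T :=
  exists_sylow (isPGroup_sup c.p (h.ea B hB.1).isPGroup hB.2.1)

theorem pp_eq (hB : B ∈ AN 𝒟 D) {T : Sylow 2 X} (hT : D ⊔ B ≤ T) : pp D B = pt (T : Subgroup X) := by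
  have hex : ∃ T : Sylow 2 X, D ⊔ B ≤ T := ⟨T, hT⟩
  have h1 : pp D B = pt (hex.choose : Subgroup X) := by
    rw [pp]; exact dif_pos hex
  rw [h1]
  exact c.uniq B hB _ _ hex.choose_spec hT

theorem le_pp (hB : B ∈ AN 𝒟 D) : D ⊔ B ≤ pp D B := by
  obtain ⟨T, hT⟩ := exists_syl h c hB
  rw [pp_eq h c hB hT]
  exact hT.trans (h.le_pt T)

theorem pp_cj (hB : B ∈ AN 𝒟 D) {n : X} (hn : n ∈ Subgroup.normalizer (D : Set X)) :
    pp D (cj n B) = cj n (pp D B) := by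
  obtain ⟨T, hT⟩ := exists_syl h c hB
  have h1 : D ⊔ cj n B ≤ ((n • T : Sylow 2 X) : Subgroup X) := by
    rw [coe_smul, ← (cj_eq_iff_mem_normalizer.2 hn : cj n D = D), ← cj_sup]
    exact cj_mono n hT
  rw [pp_eq h c (mem_AN_cj h hB hn) h1, coe_smul, h.pt_cj, pp_eq h c hB hT]

theorem mem_pp_of_cj (hB : B ∈ AN 𝒟 D) {g : X} (hg : cj g (pp D B) = pp D B) : g ∈ pp D B := by
  obtain ⟨T, hT⟩ := exists_syl h c hB
  rw [pp_eq h c hB hT] at hg ⊢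
  exact h.mem_pt_of_cj hg

theorem pt_eq_pp (hB : B ∈ AN 𝒟 D) {T' : Sylow 2 X} (hT' : D ⊔ B ≤ pt (T' : Subgroup X)) :
    pt (T' : Subgroup X) = pp D B := by
  obtain ⟨m, hm, hle⟩ := exists_conj_ge T' (h.le_pt T') (isPGroup_sup c.p (h.ea B hB.1).isPGroup hB.2.1) hT'
  have h1 : D ⊔ B ≤ ((m • T' : Sylow 2 X) : Subgroup X) := by rw [coe_smul]; exact hle
  rw [pp_eq h c hB h1, coe_smul, h.pt_cj, cj_eq_self_of_mem hm]

/-- `DB` lies in only one point -/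
theorem pp_eq_of_le {C : Subgroup X} (hB : B ∈ AN 𝒟 D) (hC : C ∈ AN 𝒟 D) (hle : D ⊔ B ≤ pp D C) : pp D C = pp D B := by
  obtain ⟨T, hT⟩ := exists_syl h c hC
  rw [pp_eq h c hC hT] at hle ⊢
  exact pt_eq_pp h c hB hle

theorem pp_eq_of_le_cj (hB : B ∈ AN 𝒟 D) {g : X} (hle : D ⊔ B ≤ cj g (pp D B)) : g ∈ pp D B := by
  obtain ⟨T, hT⟩ := exists_syl h c hB
  rw [pp_eq h c hB hT, ← h.pt_cj, ← coe_smul] at hle
  have h1 := pt_eq_pp h c hB hle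
  rw [coe_smul, h.pt_cj, ← pp_eq h c hB hT] at h1
  exact mem_pp_of_cj h c hB h1

theorem exists_two : ∃ B ∈ AN 𝒟 D, ∃ C ∈ AN 𝒟 D, pp D C ≠ pp D B := by
  obtain ⟨B, hB, C, hC, T, T', hT, hT', hne⟩ := c.two
  refine ⟨B, hB, C, hC, ?_⟩
  rw [pp_eq h c hB hT, pp_eq h c hC hT']
  exact Ne.symm hne

theorem exists_partner (B : Subgroup X) : ∃ C ∈ AN 𝒟 D, pp D C ≠ pp D B := by
  obtain ⟨B₁, hB₁, C₁, hC₁, hne⟩ := exists_two h c
  by_cases e : pp D B₁ = pp D B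
  · exact ⟨C₁, hC₁, by rw [← e]; exact hne⟩
  · exact ⟨B₁, hB₁, e⟩

omit h c in
/-- existence of minimal pairs below a given pair -/
theorem exists_mn {B C : Subgroup X} (hB : B ∈ AN 𝒟 D) (hC : C ∈ AN 𝒟 D) (hne : pp D C ≠ pp D B) :
    ∃ F, Mn 𝒟 D B F ∧ F ≤ D ⊔ B ⊔ C := by
  classical
  let S : Set (Subgroup X) := {F | F ∈ AN 𝒟 D ∧ pp D F ≠ pp D B ∧ F ≤ D ⊔ B ⊔ C}
  have hS : S.Finite := Set.toFinite _
  obtain ⟨F, ⟨hF, hFB, hFC⟩, hmin⟩ := Set.exists_min_image S (fun F => Nat.card (D ⊔ B ⊔ F : Subgroup X)) hS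
    ⟨C, hC, hne, le_sup_right⟩
  refine ⟨F, ⟨hB, hF, hFB, ?_⟩, hFC⟩
  intro C' hC' hne' hle
  have h1 : D ⊔ B ⊔ C' ≤ D ⊔ B ⊔ F := sup_le le_sup_left hle
  have h2 : D ⊔ B ⊔ F ≤ D ⊔ B ⊔ C := sup_le le_sup_left hFC
  have h3 := hmin C' ⟨hC', hne', le_sup_right.trans (h1.trans h2)⟩
  have h4 : D ⊔ B ⊔ C' = D ⊔ B ⊔ F := Subgroup.eq_of_le_of_card_ge h1 h3
  rw [h4]; exact le_sup_right

variable (m : Mn 𝒟 D B C)
include m

omit h c in
theorem Y_le : D ⊔ B ⊔ C ≤ Subgroup.normalizer (D : Set X) :=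
  sup_le (sup_le Subgroup.le_normalizer m.hB.2.1) m.hC.2.1

/-- proper subgroups over `DB` lie in the point of `B` -/
theorem le_P {H : Subgroup X} (hH : H ≤ D ⊔ B ⊔ C) (hDB : D ⊔ B ≤ H) (hC : ¬ C ≤ H) : H ≤ pp D B := by
  intro x hx
  apply mem_pp_of_cj h c m.hB
  by_contra hne
  have hxn : x ∈ Subgroup.normalizer (D : Set X) := Y_le m (hH hx)
  have h1 : cj x B ∈ AN 𝒟 D := mem_AN_cj h m.hB hxn
  have hxB : cj x B ≤ H := by
    rw [← cj_eq_self_of_mem hx]; exact cj_mono x (le_sup_right.trans hDB)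
  rw [← pp_cj h c m.hB hxn] at hne
  apply hC
  refine (m.min _ h1 hne (hxB.trans hH)).trans ?_
  exact sup_le hDB hxB

theorem C_not_le : ¬ C ≤ pp D B := by
  intro e
  apply m.ne
  have : D ⊔ C ≤ pp D B := sup_le (le_sup_left.trans (le_pp h c m.hB)) e
  exact (pp_eq_of_le h c m.hC m.hB this).symm

theorem C_le {x : X} (hx : x ∈ D ⊔ B ⊔ C) (hxP : x ∉ pp D B) : C ≤ D ⊔ B ⊔ cj x B := by
  have hxn : x ∈ Subgroup.normalizer (D : Set X) := Y_le m hx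
  apply m.min _ (mem_AN_cj h m.hB hxn)
  · rw [pp_cj h c m.hB hxn]
    intro e; exact hxP (mem_pp_of_cj h c m.hB e)
  · rw [← cj_eq_self_of_mem hx]; exact cj_mono x (le_sup_right.trans le_sup_left)

theorem Y_eq {x : X} (hx : x ∈ D ⊔ B ⊔ C) (hxP : x ∉ pp D B) : D ⊔ B ⊔ cj x B = D ⊔ B ⊔ C := by
  apply le_antisymm
  · apply sup_le le_sup_left
    rw [← cj_eq_self_of_mem hx]; exact cj_mono x (le_sup_right.trans le_sup_left)
  · exact sup_le le_sup_left (C_le h c m hx hxP)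

theorem le_P' {H : Subgroup X} {x : X} (hx : x ∈ D ⊔ B ⊔ C) (hH : H ≤ D ⊔ B ⊔ C) (hDB : D ⊔ cj x B ≤ H)
    (hC : ¬ D ⊔ B ⊔ C ≤ H) : H ≤ cj x (pp D B) := by
  have hxn : x ∈ Subgroup.normalizer (D : Set X) := Y_le m hx
  have h1 : cj x⁻¹ H ≤ pp D B := by
    apply le_P h c m
    · rw [← cj_eq_self_of_mem (Subgroup.inv_mem _ hx)]; exact cj_mono _ hH
    · have := cj_mono x⁻¹ hDB
      rw [cj_sup, cj_inv_cj, (cj_eq_iff_mem_normalizer.2 (Subgroup.inv_mem _ hxn) : cj x⁻¹ D = D)] at this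
      exact this
    · intro hcon
      apply hC
      have h2 : D ⊔ B ⊔ C ≤ cj x⁻¹ H := by
        apply sup_le _ hcon
        have := cj_mono x⁻¹ hDB
        rw [cj_sup, cj_inv_cj, (cj_eq_iff_mem_normalizer.2 (Subgroup.inv_mem _ hxn) : cj x⁻¹ D = D)] at this
        exact this
      have := cj_mono x h2
      rwa [cj_cj_inv, cj_eq_self_of_mem hx] at this
  have := cj_mono x h1
  rwa [cj_cj_inv] at this

/-- `O = O₂(Y)` (what we need of it) -/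
theorem exists_O : ∃ O : Subgroup X, O ≤ D ⊔ B ⊔ C ∧ IsPGroup 2 O ∧ D ⊔ B ⊔ C ≤ Subgroup.normalizer (O : Set X) ∧
    D ≤ O ∧ O ≤ pp D B ∧
    (∀ a ∈ B, a ∉ O → ∃ x ∈ D ⊔ B ⊔ C, x ∉ pp D B ∧ a ∉ cj x (pp D B)) := by
  classical
  set Y := D ⊔ B ⊔ C with hY
  set P := pp D B with hP
  let K : Subgroup X :=
    { carrier := {a | a ∈ Y ∧ ∀ x ∈ Y, a ∈ cj x P}
      one_mem' := ⟨Y.one_mem, fun x _ => (cj x P).one_mem⟩
      mul_mem' := fun ha hb => ⟨Y.mul_mem ha.1 hb.1, fun x hx => (cj x P).mul_mem (ha.2 x hx) (hb.2 x hx)⟩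
      inv_mem' := fun ha => ⟨Y.inv_mem ha.1, fun x hx => (cj x P).inv_mem (ha.2 x hx)⟩ }
  have hKY : K ≤ Y := fun a ha => ha.1
  have hKP : K ≤ P := fun a ha => by
    have := ha.2 1 Y.one_mem
    rwa [cj_one] at this
  have hYK : Y ≤ Subgroup.normalizer (K : Set X) := by
    intro y hy
    rw [← cj_eq_iff_mem_normalizer]
    apply cj_eq_of_le
    rw [cj_le_iff]
    intro a ha
    refine ⟨Y.mul_mem (Y.mul_mem hy ha.1) (Y.inv_mem hy), fun x hx => ?_⟩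
    have h1 := ha.2 (y⁻¹ * x) (Y.mul_mem (Y.inv_mem hy) hx)
    rw [mem_cj] at h1 ⊢
    convert h1 using 1; group
  have hDY : D ≤ Y := le_sup_left.trans le_sup_left
  have hBY : B ≤ Y := le_sup_right.trans le_sup_left
  have hDBY : D ⊔ B ≤ Y := le_sup_left
  have hDBP : D ⊔ B ≤ P := le_pp h c m.hB
  obtain ⟨R, hRK, hR2, hER, hfr, hsy⟩ := frat hYK hDBY (isPGroup_sup c.p (h.ea B m.hB.1).isPGroup m.hB.2.1)
  have hYR : Y ≤ Subgroup.normalizer (R : Set X) := by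
    by_contra hcon
    have hC : ¬ C ≤ Y ⊓ Subgroup.normalizer (R : Set X) := by
      intro e
      exact hcon (sup_le hER (e.trans inf_le_right))
    have h1 : Y ⊓ Subgroup.normalizer (R : Set X) ≤ P :=
      le_P h c m inf_le_left (le_inf hDBY hER) hC
    apply C_not_le h c m
    refine le_trans (le_sup_right : C ≤ Y) ?_
    intro y hy
    obtain ⟨k, hk, hky⟩ := hfr y hy
    have h2 : k⁻¹ * y ∈ P := h1 (Subgroup.mem_inf.2 ⟨Y.mul_mem (Y.inv_mem (hKY hk)) hy, hky⟩)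
    have := P.mul_mem (hKP hk) h2
    convert this using 1; group
  have hsy' : ∀ Q ≤ K, IsPGroup 2 Q → Q ≤ R := by
    intro Q hQ hQ2
    obtain ⟨k, hk, hle⟩ := hsy Q hQ hQ2
    rwa [cj_eq_iff_mem_normalizer.2 (hYR (hKY hk))] at hle
  refine ⟨R, hRK.trans hKY, hR2, hYR, ?_, hRK.trans hKP, ?_⟩
  · apply hsy' D _ c.p
    intro d hd
    refine ⟨hDY hd, fun x hx => ?_⟩
    have hxn : x ∈ Subgroup.normalizer (D : Set X) := Y_le m hx
    have h1 : D ≤ cj x P := by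
      rw [← (cj_eq_iff_mem_normalizer.2 hxn : cj x D = D)]
      exact cj_mono x (le_sup_left.trans hDBP)
    exact h1 hd
  · intro a ha haR
    by_contra hcon
    push Not at hcon
    apply haR
    have haK : a ∈ K := by
      refine ⟨hBY ha, fun x hx => ?_⟩
      by_cases hxP : x ∈ P
      · rw [cj_eq_self_of_mem hxP]; exact hDBP ((le_sup_right : B ≤ D ⊔ B) ha)
      · exact hcon x hx hxP
    have h1 : Subgroup.zpowers a ≤ K := Subgroup.zpowers_le.2 haK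
    have h2 : IsPGroup 2 (Subgroup.zpowers a) := by
      apply (h.ea B m.hB.1).isPGroup.to_le
      exact Subgroup.zpowers_le.2 ha
    exact hsy' _ h1 h2 (Subgroup.mem_zpowers a)

end Cfsg.Agent.Omega.FF.Min
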