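import Cfsg.Agent.Omega.FF.Eight
import Cfsg.Agent.Omega.FF.FamDef

/-!
# THEOREM FF, step (9): the structure of `J(T)`; existence of `Fam`
-/

set_option autoImplicit false
set_option linter.unusedSectionVars false

namespace Cfsg.Agent.Omega.FF.Nine

open Cfsg.Agent.Omega.FF.Basic Cfsg.Agent.Omega.FF.Setup Cfsg.Agent.Omega.FF.Frat Cfsg.Agent.Omega.FF.Conf
open Cfsg.Agent.Omega.FF.Min Cfsg.Agent.Omega.FF.Chief Cfsg.Agent.Omega.FF.Pair Cfsg.Agent.Omega.FF.Pts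
open Cfsg.Agent.Omega.FF.Seven Cfsg.Agent.Omega.FF.Eight Cfsg.Agent.Omega.FF.FamDef
open scoped Pointwise

variable {X : Type*} [Group X] [Finite X] {V : Type*} [AddCommGroup V] [Finite V] [DistribMulAction X V]
variable {𝒟 : Set (Subgroup X)} (h : Hyp V 𝒟)
include h

theorem normalizer_cj {D : Subgroup X} (g : X) :
    Subgroup.normalizer (cj g D : Set X) = cj g (Subgroup.normalizer (D : Set X)) := by
  ext x
  rw [← cj_eq_iff_mem_normalizer, mem_cj, ← cj_eq_iff_mem_normalizer]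
  constructor
  · intro e
    rw [cj_cj] at e
    rw [mul_assoc, ← cj_cj, e, cj_cj, inv_mul_cancel, cj_one]
  · intro e
    have := congrArg (cj g) e
    rw [cj_cj] at this
    rw [cj_cj, ← this]
    congr 1; group

theorem AN_cj {D B : Subgroup X} (g : X) (hB : B ∈ AN 𝒟 D) : cj g B ∈ AN 𝒟 (cj g D) := by
  refine ⟨h.conj B hB.1 g, ?_, fun e => hB.2.2 (cj_le_cj.1 e)⟩
  rw [normalizer_cj h]
  exact cj_mono g hB.2.1

theorem Cfg_cj {D : Subgroup X} (c : Cfg 𝒟 D) (g : X) : Cfg 𝒟 (cj g D) := by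
  refine ⟨isPGroup_cj g c.p, by rw [h.J_cj, c.gen], ?_, ?_⟩
  · intro B hB T T' hT hT'
    have h1 := AN_cj h g⁻¹ hB
    rw [cj_inv_cj] at h1
    have h2 : ∀ U : Sylow 2 X, cj g D ⊔ B ≤ (U : Subgroup X) → D ⊔ cj g⁻¹ B ≤ ((g⁻¹ • U : Sylow 2 X) : Subgroup X) := by
      intro U hU
      have := cj_mono g⁻¹ hU
      rwa [cj_sup, cj_inv_cj, ← coe_smul] at this
    have h3 := c.uniq _ h1 _ _ (h2 T hT) (h2 T' hT')
    rw [coe_smul, coe_smul, h.pt_cj, h.pt_cj] at h3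
    exact cj_inj h3
  · obtain ⟨B, hB, C, hC, T, T', hT, hT', hne⟩ := c.two
    refine ⟨cj g B, AN_cj h g hB, cj g C, AN_cj h g hC, g • T, g • T', ?_, ?_, ?_⟩
    · rw [← cj_sup, coe_smul]; exact cj_mono g hT
    · rw [← cj_sup, coe_smul]; exact cj_mono g hT'
    · rw [coe_smul, coe_smul, h.pt_cj, h.pt_cj]
      exact fun e => hne (cj_inj e)

theorem mem_T_iff {D : Subgroup X} (c : Cfg 𝒟 D) {B : Subgroup X} (hB : B ∈ AN 𝒟 D) {T : Sylow 2 X}
    (hT : D ⊔ B ≤ (T : Subgroup X)) {A : Subgroup X} (hA : A ∈ 𝒟) : A ≤ (T : Subgroup X) ↔ A ≤ D ∨ A = B := by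
  constructor
  · intro hAT
    by_cases hAD : A ≤ D
    · exact Or.inl hAD
    · right
      have hAN : A ∈ AN 𝒟 D := ⟨hA, le_normalizer h c (le_sup_left.trans hT) hA hAT, hAD⟩
      apply inj h c hAN hB
      rw [pp_eq h c hB hT, pp_eq h c hAN (sup_le (le_sup_left.trans hT) hAT)]
  · rintro (h1 | rfl)
    · exact h1.trans (le_sup_left.trans hT)
    · exact le_sup_right.trans hT

theorem oth_eq {D : Subgroup X} (c : Cfg 𝒟 D) {B : Subgroup X} (hB : B ∈ AN 𝒟 D) {T : Sylow 2 X}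
    (hT : D ⊔ B ≤ (T : Subgroup X)) : oth 𝒟 (T : Subgroup X) B = D := by
  rw [oth]
  apply le_antisymm
  · apply sSup_le
    rintro A ⟨hA, hAT, hAB⟩
    rcases (mem_T_iff h c hB hT hA).1 hAT with h1 | h1
    · exact h1
    · exact absurd h1 hAB
  · nth_rewrite 1 [← c.gen]
    apply sSup_le
    rintro A ⟨hA, hAD⟩
    apply le_sSup
    refine ⟨hA, hAD.trans (le_sup_left.trans hT), ?_⟩
    rintro rfl
    exact hB.2.2 hAD

/-- transitivity -/
theorem trans' {D : Subgroup X} (c : Cfg 𝒟 D) {B : Subgroup X} (hB : B ∈ AN 𝒟 D) {T : Sylow 2 X}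
    (hT : D ⊔ B ≤ (T : Subgroup X)) {A : Subgroup X} (hA : A ∈ 𝒟) (hAT : A ≤ (T : Subgroup X)) :
    ∃ t ∈ (T : Subgroup X), cj t B = A := by
  by_contra hcon
  let S : Set (Subgroup X) := {F | F ∈ 𝒟 ∧ F ≤ (T : Subgroup X) ∧ ¬ ∃ t ∈ (T : Subgroup X), cj t B = F}
  set D' : Subgroup X := sSup S with hD'
  have hSD : ∀ F ∈ S, F ≤ D := by
    rintro F ⟨hF, hFT, hFn⟩
    rcases (mem_T_iff h c hB hT hF).1 hFT with h1 | h1
    · exact h1
    · exact absurd ⟨1, Subgroup.one_mem _, by rw [cj_one, h1]⟩ hFn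
  have hne : D' ≠ ⊥ := by
    intro e
    have h1 : A ≤ D' := le_sSup ⟨hA, hAT, hcon⟩
    rw [e, le_bot_iff] at h1
    exact h.nb A hA h1
  have hD'D : D' ≤ D := sSup_le hSD
  have hD'T : D' ≤ (T : Subgroup X) := hD'D.trans (le_sup_left.trans hT)
  have hTn : (T : Subgroup X) ≤ Subgroup.normalizer (D' : Set X) := by
    intro t ht
    rw [← cj_eq_iff_mem_normalizer]
    apply cj_eq_of_le
    have h1 : D' ≤ cj t⁻¹ D' := by
      apply sSup_le
      rintro F ⟨hF, hFT, hFn⟩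
      have h2 : cj t F ∈ S := by
        refine ⟨h.conj F hF t, ?_, ?_⟩
        · rw [← cj_eq_self_of_mem ht]; exact cj_mono t hFT
        · rintro ⟨s, hs, e⟩
          apply hFn
          refine ⟨t⁻¹ * s, Subgroup.mul_mem _ (Subgroup.inv_mem _ ht) hs, ?_⟩
          rw [← cj_cj, e, cj_inv_cj]
      have h3 := cj_mono t⁻¹ (le_sSup h2 : cj t F ≤ D')
      rwa [cj_inv_cj] at h3
    have := cj_mono t h1
    rwa [cj_cj_inv] at this
  have h1 := h.normalizer_le_pt hne hD'T hTn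
  obtain ⟨C, hC, hneC⟩ := exists_partner h c B
  have hCn : C ≤ Subgroup.normalizer (D' : Set X) := by
    intro x hx
    rw [← cj_eq_iff_mem_normalizer]
    apply cj_eq_of_le
    have h2 : D' ≤ cj x⁻¹ D' := by
      apply sSup_le
      intro F hF f hf
      have h3 := comm_D h c hC hF.1 (hSD F hF) hx hf
      rw [mem_cj, inv_inv, h3, mul_inv_cancel_right]
      exact (le_sSup hF : F ≤ D') hf
    have := cj_mono x h2
    rwa [cj_cj_inv] at this
  rw [← pp_eq h c hB hT] at h1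
  apply hneC
  have hDB : D ≤ pp D B := (le_sup_left : D ≤ D ⊔ B).trans (le_pp h c hB)
  exact (pp_eq_of_le h c hC hB (sup_le hDB (hCn.trans h1))).symm

/-- THEOREM FF, steps (1)-(9) -/
theorem exists_fam : ∃ q : ℕ, ∀ T : Sylow 2 X, ∃ L : Subgroup X → Subgroup X, Fam V 𝒟 T q L := by
  classical
  obtain ⟨D₀, c₀⟩ := exists_cfg h
  obtain ⟨A₀, hA₀⟩ := h.ne
  refine ⟨Nat.card A₀, fun T => ⟨fun B => sSup (AN 𝒟 (oth 𝒟 (T : Subgroup X) B)), ?_⟩⟩
  -- for each member `A` in `T`: `Cfg (oth T A)` and `A ∈ AN`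
  have key : ∀ A ∈ 𝒟, A ≤ (T : Subgroup X) → Cfg 𝒟 (oth 𝒟 (T : Subgroup X) A) ∧ A ∈ AN 𝒟 (oth 𝒟 (T : Subgroup X) A) ∧
      oth 𝒟 (T : Subgroup X) A ⊔ A ≤ (T : Subgroup X) := by
    intro A hA hAT
    obtain ⟨B₀, hB₀, _, _, _⟩ := exists_two h c₀
    obtain ⟨T₀, hT₀⟩ := exists_syl h c₀ hB₀
    obtain ⟨g, hg⟩ := MulAction.exists_smul_eq X T₀ T
    have c₁ := Cfg_cj h c₀ g
    have hB₁ := AN_cj h g hB₀
    have hT₁ : cj g D₀ ⊔ cj g B₀ ≤ (T : Subgroup X) := by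
      rw [← hg, coe_smul, ← cj_sup]; exact cj_mono g hT₀
    obtain ⟨t, ht, rfl⟩ := trans' h c₁ hB₁ hT₁ hA hAT
    have c₂ := Cfg_cj h c₁ t
    have hB₂ := AN_cj h t hB₁
    have hT₂ : cj t (cj g D₀) ⊔ cj t (cj g B₀) ≤ (T : Subgroup X) := by
      rw [← cj_sup, ← cj_eq_self_of_mem ht]; exact cj_mono t hT₁
    rw [oth_eq h c₂ hB₂ hT₂]
    exact ⟨c₂, hB₂, hT₂⟩
  have hcard : ∀ A ∈ 𝒟, Nat.card A = Nat.card A₀ := fun A hA => card_eq h hA hA₀
  have hidx : ∀ A ∈ 𝒟, Nat.card A₀ * Nat.card (fx V A) = Nat.card V := by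
    intro A hA; rw [← hcard A hA]; exact mm_eq h c₀ hA
  -- `L B = B ⊔ C`
  have hLeq : ∀ (D B C : Subgroup X), Cfg 𝒟 D → B ∈ AN 𝒟 D → C ∈ AN 𝒟 D → pp D C ≠ pp D B → sSup (AN 𝒟 D) = B ⊔ C := by
    intro D B C c hB hC hne
    apply le_antisymm
    · apply sSup_le
      intro E hE
      rcases points h c hB hC hne hE with h1 | ⟨b, hb, h1⟩
      · rw [inj h c hE hB h1]; exact le_sup_left
      · rw [inj h c hE (mem_AN_cj h hC (hB.2.1 hb)) h1]
        have h2 : b ∈ B ⊔ C := (le_sup_left : B ≤ B ⊔ C) hb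
        rw [← cj_eq_self_of_mem h2]
        exact cj_mono b le_sup_right
    · exact sup_le (le_sSup hB) (le_sSup hC)
  have hLN : ∀ D : Subgroup X, sSup (AN 𝒟 D) ≤ Subgroup.normalizer (D : Set X) := fun D => sSup_le fun E hE => hE.2.1
  have hppne : ∀ (D B : Subgroup X), Cfg 𝒟 D → B ∈ AN 𝒟 D → ∀ g ∈ Subgroup.normalizer (D : Set X), cj g B ≠ B →
      cj g B ∈ AN 𝒟 D ∧ pp D (cj g B) ≠ pp D B := by
    intro D B c hB g hg hne
    have h1 := mem_AN_cj h hB hg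
    exact ⟨h1, fun e => hne (inj h c h1 hB e)⟩
  refine ⟨h, two_le h hA₀, hcard, hidx, no h c₀, fun A hA a ha ha1 v hv => ti h c₀ hA ha ha1 hv,
    fun A hA B hB e => ax h c₀ hA hB e, ?_, ?_, ?_, ?_, ?_, ?_, ?_, ?_, ?_, ?_, ?_, ?_, ?_, ?_⟩
  · -- comm
    intro A hA B hB hAT hBT a ha b hb
    by_cases hAB : A = B
    · subst hAB; exact (h.ea A hA).comm ha hb
    · obtain ⟨c, hAN, _⟩ := key A hA hAT
      exact comm_D h c hAN hB (le_sSup ⟨hB, hBT, Ne.symm hAB⟩) ha hb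
  · -- indep
    intro B hB hBT
    obtain ⟨c, hAN, _⟩ := key B hB hBT
    rw [Subgroup.eq_bot_iff_forall]
    intro x hx
    obtain ⟨C, hC, hne⟩ := exists_partner h c B
    apply h.faith
    intro v
    obtain ⟨d, hd, u, hu, _, rfl⟩ := mem_sup' h c hAN hC hne v
    rw [smul_add, hd x hx.2, hu x hx.1]
  · -- trans
    intro A hA B hB hAT hBT
    obtain ⟨c, hAN, hT⟩ := key A hA hAT
    exact trans' h c hAN hT hB hBT
  · -- BL
    intro B hB hBT
    obtain ⟨c, hAN, _⟩ := key B hB hBT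
    exact le_sSup hAN
  · -- Lcj
    intro t ht B hB hBT
    have e1 : oth 𝒟 (T : Subgroup X) (cj t B) = cj t (oth 𝒟 (T : Subgroup X) B) := by
      obtain ⟨c, hAN, hT⟩ := key B hB hBT
      apply oth_eq h (Cfg_cj h c t) (AN_cj h t hAN)
      have := cj_mono t hT
      rwa [cj_eq_self_of_mem ht, cj_sup] at this
    have e2 : ∀ (s : X) (D : Subgroup X), cj s (sSup (AN 𝒟 D)) ≤ sSup (AN 𝒟 (cj s D)) := by
      intro s D
      have : sSup (AN 𝒟 D) ≤ cj s⁻¹ (sSup (AN 𝒟 (cj s D))) := by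
        apply sSup_le
        intro E hE
        have h1 := cj_mono s⁻¹ (le_sSup (AN_cj h s hE) : cj s E ≤ sSup (AN 𝒟 (cj s D)))
        rwa [cj_inv_cj] at h1
      have := cj_mono s this
      rwa [cj_cj_inv] at this
    change cj t (sSup (AN 𝒟 (oth 𝒟 (T : Subgroup X) B))) = sSup (AN 𝒟 (oth 𝒟 (T : Subgroup X) (cj t B)))
    rw [e1]
    apply le_antisymm (e2 t _)
    have := e2 t⁻¹ (cj t (oth 𝒟 (T : Subgroup X) B))
    rw [cj_inv_cj] at this
    have := cj_mono t this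
    rwa [cj_cj_inv] at this
  · -- LD
    intro A hA B hB hAT hBT hAB x hx b hb
    obtain ⟨c, hAN, _⟩ := key A hA hAT
    have hBD : B ≤ oth 𝒟 (T : Subgroup X) A := le_sSup ⟨hB, hBT, Ne.symm hAB⟩
    have h1 : sSup (AN 𝒟 (oth 𝒟 (T : Subgroup X) A)) ≤ Subgroup.centralizer (B : Set X) := by
      apply sSup_le
      intro E hE e he
      rw [Subgroup.mem_centralizer_iff]
      intro f hf
      exact (comm_D h c hE hB hBD he hf).symm
    have h2 := Subgroup.mem_centralizer_iff.1 (h1 hx) b hb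
    exact h2.symm
  · -- Lpt
    intro B hB hBT hle
    obtain ⟨c, hAN, hT⟩ := key B hB hBT
    obtain ⟨C, hC, hne⟩ := exists_partner h c B
    apply hne
    rw [← pp_eq h c hAN hT] at hle
    have hDB := (le_sup_left : oth 𝒟 (T : Subgroup X) B ≤ _ ⊔ B).trans (le_pp h c hAN)
    exact (pp_eq_of_le h c hC hAN (sup_le hDB ((le_sSup hC).trans hle))).symm
  · -- Lnorm
    intro B hB hBT g hg
    have e : ∀ s ∈ Subgroup.normalizer (oth 𝒟 (T : Subgroup X) B : Set X), sSup (AN 𝒟 (oth 𝒟 (T : Subgroup X) B)) ≤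
        cj s⁻¹ (sSup (AN 𝒟 (oth 𝒟 (T : Subgroup X) B))) := by
      intro s hs
      apply sSup_le
      intro E hE
      have h1 := cj_mono s⁻¹ (le_sSup (mem_AN_cj h hE hs) : cj s E ≤ sSup (AN 𝒟 (oth 𝒟 (T : Subgroup X) B)))
      rwa [cj_inv_cj] at h1
    change cj g (sSup (AN 𝒟 (oth 𝒟 (T : Subgroup X) B))) = sSup (AN 𝒟 (oth 𝒟 (T : Subgroup X) B))
    apply cj_eq_of_le
    have := cj_mono g (e g hg)
    rwa [cj_cj_inv] at this
  · -- Lgen
    intro B hB hBT g hg hne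
    obtain ⟨c, hAN, _⟩ := key B hB hBT
    obtain ⟨h1, h2⟩ := hppne _ B c hAN g (hLN _ hg) hne
    exact (hLeq _ B _ c hAN h1 h2).symm
  · -- Lne
    intro B hB hBT
    obtain ⟨c, hAN, _⟩ := key B hB hBT
    obtain ⟨C, hC, hne⟩ := exists_partner h c B
    obtain ⟨x, hx, hx1⟩ : ∃ x ∈ C, x ≠ 1 := by
      by_contra hno
      push Not at hno
      exact h.nb C hC.1 ((Subgroup.eq_bot_iff_forall _).2 hno)
    refine ⟨x, (le_sSup hC : C ≤ _) hx, ?_⟩
    intro e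
    apply regular h c hC hAN (Ne.symm hne) hx hx1
    apply mem_pp_of_cj h c hAN
    rw [← pp_cj h c hAN (hC.2.1 hx), e]
  · -- Lidx
    intro B hB hBT
    obtain ⟨c, hAN, _⟩ := key B hB hBT
    obtain ⟨C, hC, hne⟩ := exists_partner h c B
    rw [hLeq _ B C c hAN hC hne, fx_sup, ← hcard B hB]
    obtain ⟨hsup, hD, _⟩ := pair_basic h c hAN hC hne
    have e := card_sup_inf (fx V (oth 𝒟 (T : Subgroup X) B)) (fx V B ⊓ fx V C)
    rw [hsup, card_top, ← inf_assoc, hD] at e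
    apply Nat.eq_of_mul_eq_mul_left
      (card_pos (fx V (oth 𝒟 (T : Subgroup X) B) ⊓ fx V B ⊓ fx V C : AddSubgroup V))
    rw [mul_comm _ (Nat.card V), e]; ring
  · -- Ltr
    intro B hB hBT g hg g' hg' hne hne'
    obtain ⟨c, hAN, _⟩ := key B hB hBT
    obtain ⟨h1, h2⟩ := hppne _ B c hAN g (hLN _ hg) hne
    obtain ⟨h1', h2'⟩ := hppne _ B c hAN g' (hLN _ hg') hne'
    rcases points h c hAN h1 h2 h1' with h3 | ⟨b, hb, h3⟩
    · exact absurd h3 h2'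
    · refine ⟨b, hb, ?_⟩
      rw [← cj_cj]
      exact (inj h c h1' (mem_AN_cj h h1 (hAN.2.1 hb)) h3).symm
  · -- Lfree
    intro B hB hBT b hb hb1 g hg hne e
    obtain ⟨c, hAN, _⟩ := key B hB hBT
    obtain ⟨h1, h2⟩ := hppne _ B c hAN g (hLN _ hg) hne
    apply regular h c hAN h1 h2 hb hb1
    apply mem_pp_of_cj h c h1
    rw [← pp_cj h c h1 (hAN.2.1 hb), cj_cj, e]
  · -- mv
    intro B hB hBT b hb v hv
    obtain ⟨c, hAN, _⟩ := key B hB hBT
    obtain ⟨C, hC, hne⟩ := exists_partner h c B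
    apply p3 h c hAN hC hne hb
    exact fx_anti (le_sSup hC) hv

end Cfsg.Agent.Omega.FF.Nine
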