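import Cfsg.Agent.Omega.FF.Pair

/-!
# THEOREM FF, step (5) second half, and step (6): points, regularity, commuting, `[D, B] = 1`
-/

set_option autoImplicit false
set_option linter.unusedSectionVars false

namespace Cfsg.Agent.Omega.FF.Pts

open Cfsg.Agent.Omega.FF.Basic Cfsg.Agent.Omega.FF.Setup Cfsg.Agent.Omega.FF.Frat Cfsg.Agent.Omega.FF.Conf
open Cfsg.Agent.Omega.FF.Min Cfsg.Agent.Omega.FF.Chief Cfsg.Agent.Omega.FF.Pair
open scoped Pointwise

variable {X : Type*} [Group X] [Finite X] {V : Type*} [AddCommGroup V] [Finite V] [DistribMulAction X V]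
variable {𝒟 : Set (Subgroup X)} {D : Subgroup X} (h : Hyp V 𝒟) (c : Cfg 𝒟 D)
include h c

/-- the spread: every vector of `C_V(D)` is fixed by `B` or by some `b C b⁻¹` -/
theorem spread {B C : Subgroup X} (hB : B ∈ AN 𝒟 D) (hC : C ∈ AN 𝒟 D) (hne : pp D C ≠ pp D B) {w : V}
    (hw : w ∈ fx V D) : w ∈ fx V B ∨ ∃ b ∈ B, w ∈ fx V (cj b C) := by
  obtain ⟨hsup, hHB, hHC⟩ := halves h c hB hC hne
  obtain ⟨_, hD, h3⟩ := pair_basic h c hB hC hne
  set W : AddSubgroup V := fx V D ⊓ fx V B ⊓ fx V C with hW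
  rw [← hsup] at hw
  obtain ⟨x, hx, y, hy, rfl⟩ := mem_sup hw
  by_cases hyB : y ∈ fx V B
  · exact Or.inl ((fx V B).add_mem hx.2 hyB)
  · right
    -- the map `B × W → H_B`, `(b, w) ↦ b y - y + w` is bijective
    have hinj : Function.Injective (fun z : B × W => (⟨(z.1 : X) • y - y + (z.2 : V), AddSubgroup.mem_inf.2
        ⟨(fx V D).add_mem ((fx V D).sub_mem (fx_inv (hB.2.1 z.1.2) hy.1) hy.1) z.2.2.1.1,
          (fx V B).add_mem (fun b' hb' => h.quad B hB.1 z.1 z.1.2 b' hb' y) z.2.2.1.2⟩⟩ :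
          (fx V D ⊓ fx V B : AddSubgroup V))) := by
      rintro ⟨a, u⟩ ⟨b, v⟩ e
      have e' : (a : X) • y - y + (u : V) = (b : X) • y - y + (v : V) := congrArg Subtype.val e
      have hab : (a : X) = b := by
        by_contra hn
        apply hyB
        have hba : (b : X)⁻¹ * a ∈ B := B.mul_mem (B.inv_mem b.2) a.2
        apply h3 _ hba _ y hy.1
        · have e1 : (a : X) • y - (b : X) • y = (v : V) - u := by
            have : (a : X) • y = (b : X) • y - y + (v : V) - u + y := by rw [← e']; abel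
            rw [this]; abel
          have e2 : ((b : X)⁻¹ * a) • y - y = (b : X)⁻¹ • ((a : X) • y - (b : X) • y) := by
            rw [smul_sub, smul_smul, inv_smul_smul]
          rw [e2, e1]
          have h4 : ((v : V) - u) ∈ W := W.sub_mem v.2 u.2
          rw [h4.1.2 _ (B.inv_mem b.2)]; exact h4
        · intro e3
          rw [inv_mul_eq_one] at e3
          exact hn e3.symm
      have huv : (u : V) = v := by rw [hab] at e'; exact add_left_cancel e'
      exact Prod.ext (Subtype.ext hab) (Subtype.ext huv)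
    have hbij := (Nat.bijective_iff_injective_and_card _).2 ⟨hinj, by rw [Nat.card_prod, hHB]⟩
    obtain ⟨⟨b, u⟩, e⟩ := hbij.2 ⟨x, hx⟩
    have e' : (b : X) • y - y + (u : V) = x := congrArg Subtype.val e
    refine ⟨b, b.2, ?_⟩
    have e2 : x + y = (b : X) • y + u := by rw [← e']; abel
    rw [e2]
    apply (fx V (cj (b : X) C)).add_mem (smul_mem_fx_cj hy.2)
    rw [mem_fx_cj]
    have : (b : X)⁻¹ • (u : V) = u := u.2.1.2 _ (B.inv_mem b.2)
    rw [this]; exact u.2.2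

/-- an element of `E` with a nonzero commutator in `C_V(B')` has the same point as `B'` -/
theorem pp_eq_of_fix {E B' : Subgroup X} (hE : E ∈ AN 𝒟 D) (hB' : B' ∈ AN 𝒟 D) {e : X} (he : e ∈ E) {v : V}
    (hv : e • v ≠ v) (hfix : e • v - v ∈ fx V B') : pp D E = pp D B' := by
  by_contra hne
  exact hv (p3 h c hE hB' (Ne.symm hne) he hfix)

theorem comm_mem' {E : Subgroup X} (hE : E ∈ AN 𝒟 D) {e : X} (he : e ∈ E) (v : V) : e • v - v ∈ fx V D := by
  obtain ⟨C, hC, hne⟩ := exists_partner h c E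
  exact comm_mem h c hE hC hne he v

theorem exists_moved {E : Subgroup X} (hE : E ∈ 𝒟) : ∃ e ∈ E, ∃ v : V, e • v ≠ v := by
  by_contra hcon
  push Not at hcon
  exact fx_ne_top h c hE fun v e he => hcon e he v

/-- the points are those of `B` and of `b C b⁻¹` -/
theorem points {B C E : Subgroup X} (hB : B ∈ AN 𝒟 D) (hC : C ∈ AN 𝒟 D) (hne : pp D C ≠ pp D B)
    (hE : E ∈ AN 𝒟 D) : pp D E = pp D B ∨ ∃ b ∈ B, pp D E = pp D (cj b C) := by
  obtain ⟨e, he, v, hv⟩ := exists_moved h c hE.1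
  rcases spread h c hB hC hne (comm_mem' h c hE he v) with h1 | ⟨b, hb, h1⟩
  · exact Or.inl (pp_eq_of_fix h c hE hB he hv h1)
  · exact Or.inr ⟨b, hb, pp_eq_of_fix h c hE (mem_AN_cj h hC (hB.2.1 hb)) he hv h1⟩

/-- regularity: an element `b ∈ B#` lies in no other point -/
theorem regular {B C : Subgroup X} (hB : B ∈ AN 𝒟 D) (hC : C ∈ AN 𝒟 D) (hne : pp D C ≠ pp D B) {b : X}
    (hb : b ∈ B) (hb1 : b ≠ 1) : b ∉ pp D C := by
  intro hbC
  set Y := D ⊔ B ⊔ C with hY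
  set P := pp D C with hP
  have hDY : D ≤ Y := le_sup_left.trans le_sup_left
  have hBY : B ≤ Y := le_sup_right.trans le_sup_left
  have hCY : C ≤ Y := le_sup_right
  have hYD : Y ≤ Subgroup.normalizer (D : Set X) := sup_le (sup_le Subgroup.le_normalizer hB.2.1) hC.2.1
  have hDCP : D ⊔ C ≤ P := le_pp h c hC
  set H := Y ⊓ P with hH
  have hDCH : D ⊔ C ≤ H := le_inf (sup_le hDY hCY) hDCP
  have hbH : b ∈ H := Subgroup.mem_inf.2 ⟨hBY hb, hbC⟩
  -- a Sylow subgroup of `H` containing `b`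
  have hz2 : IsPGroup 2 (Subgroup.zpowers b) := (h.ea B hB.1).isPGroup.to_le (Subgroup.zpowers_le.2 hb)
  have hzH : Subgroup.zpowers b ≤ H := Subgroup.zpowers_le.2 hbH
  obtain ⟨R₁, hR₁⟩ := (hz2.comap_subtype (K := H) : IsPGroup 2 ((Subgroup.zpowers b).subgroupOf H)).exists_le_sylow
  obtain ⟨R₂, hR₂⟩ := ((isPGroup_sup c.p (h.ea C hC.1).isPGroup hC.2.1).comap_subtype (K := H) :
    IsPGroup 2 ((D ⊔ C).subgroupOf H)).exists_le_sylow
  obtain ⟨m, hm⟩ := MulAction.exists_smul_eq H R₂ R₁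
  let Q : Subgroup X := (R₁ : Subgroup H).map H.subtype
  have hQ2 : IsPGroup 2 Q := R₁.isPGroup'.map H.subtype
  have hQH : Q ≤ H := by rintro x ⟨k, _, rfl⟩; exact k.2
  have hbQ : b ∈ Q := ⟨⟨b, hbH⟩, hR₁ (Subgroup.mem_zpowers b), rfl⟩
  have hmH : (m : X) ∈ H := m.2
  have hCQ : cj (m : X) C ≤ Q := by
    rw [cj_le_iff]
    intro x hx
    have hxH : x ∈ H := hDCH ((le_sup_right : C ≤ D ⊔ C) hx)
    have h1 : (⟨x, hxH⟩ : H) ∈ (R₂ : Subgroup H) := hR₂ ((le_sup_right : C ≤ D ⊔ C) hx)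
    have h2 : m * ⟨x, hxH⟩ * m⁻¹ ∈ ((m • R₂ : Sylow 2 H) : Subgroup H) := ⟨⟨x, hxH⟩, h1, rfl⟩
    rw [hm] at h2
    exact ⟨_, h2, rfl⟩
  set C' := cj (m : X) C with hC'
  have hC'A : C' ∈ AN 𝒟 D := mem_AN_cj h hC (hYD hmH.1)
  have hppC' : pp D C' = P := by
    rw [hC', pp_cj h c hC (hYD hmH.1), cj_eq_self_of_mem hmH.2]
  have hne' : pp D C' ≠ pp D B := by rw [hppC']; exact hne
  set W : AddSubgroup V := fx V D ⊓ fx V B ⊓ fx V C with hW
  have hWY : ∀ w ∈ W, ∀ y ∈ Y, y • w = w := by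
    intro w hw y hy
    have : w ∈ fx V (D ⊔ B ⊔ C) := by rw [fx_sup, fx_sup]; exact hw
    exact this y hy
  have hQY : Q ≤ Y := hQH.trans inf_le_left
  have hC'Y : C' ≤ Y := hCQ.trans hQY
  obtain ⟨_, hD, h3⟩ := pair_basic h c hB hC hne
  obtain ⟨_, hD', _⟩ := pair_basic h c hB hC'A hne'
  obtain ⟨_, _, h3'⟩ := pair_basic h c hC'A hB (Ne.symm hne')
  -- a fixed vector of `Q` modulo `W`
  have hWD : W ≤ fx V D := inf_le_left.trans inf_le_left
  have hnW : ¬ fx V D ≤ W := by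
    intro hle
    have h4 := card_le hle
    rw [hD] at h4
    have h5 := two_le h hB.1
    have h6 := card_pos W
    nlinarith [Nat.mul_le_mul h5 h5]
  obtain ⟨v, hv, hvW, hfix⟩ := exists_fixed hQ2 (H := fx V D) (K := W) h.h2
    (fun t ht w hw => by rw [hWY w hw t (hQY ht)]; exact hw)
    (fun t ht w hw => fx_inv (hYD (hQY ht)) hw) hWD hnW
  have hvB : v ∈ fx V B := h3 b hb hb1 v hv (hfix b hbQ)
  have hWC' : W ≤ fx V D ⊓ fx V B ⊓ fx V C' := by
    intro w hw
    exact ⟨⟨hw.1.1, hw.1.2⟩, fun x hx => hWY w hw x (hC'Y hx)⟩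
  have hvC' : v ∈ fx V C' := by
    by_contra hcon
    obtain ⟨x, hx, hx1⟩ : ∃ x ∈ C', x ≠ 1 := by
      by_contra hno
      push Not at hno
      exact h.nb C' hC'A.1 ((Subgroup.eq_bot_iff_forall _).2 hno)
    apply hcon
    apply h3' x hx hx1 v hv
    have h4 := hWC' (hfix x (hCQ hx))
    exact ⟨⟨h4.1.1, h4.2⟩, h4.1.2⟩
  have hWeq : W = fx V D ⊓ fx V B ⊓ fx V C' := by
    apply eq_of_card_le hWC'
    have hpos : 0 < Nat.card B * Nat.card B := Nat.mul_pos Nat.card_pos Nat.card_pos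
    apply Nat.le_of_mul_le_mul_left _ hpos
    rw [← hD, ← hD']
  apply hvW
  rw [hWeq]
  exact ⟨⟨hv, hvB⟩, hvC'⟩

/-- members of `𝒜_N` at the same point: commutators are fixed -/
theorem same_fix {E F : Subgroup X} (hE : E ∈ AN 𝒟 D) (hF : F ∈ AN 𝒟 D) (he : pp D E = pp D F) {e : X}
    (heE : e ∈ E) (v : V) : e • v - v ∈ fx V F := by
  by_cases hv : e • v = v
  · rw [hv, sub_self]; exact (fx V F).zero_mem
  obtain ⟨B, hB, hne⟩ := exists_partner h c F
  rcases spread h c hB hF (Ne.symm hne) (comm_mem' h c hE heE v) with h1 | ⟨b, hb, h1⟩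
  · exfalso
    have := pp_eq_of_fix h c hE hB heE hv h1
    exact hne (by rw [← this, he])
  · by_cases hb1 : b = 1
    · rw [hb1, cj_one] at h1; exact h1
    · exfalso
      have h2 := pp_eq_of_fix h c hE (mem_AN_cj h hF (hB.2.1 hb)) heE hv h1
      rw [he, pp_cj h c hF (hB.2.1 hb)] at h2
      exact regular h c hB hF (Ne.symm hne) hb hb1 (mem_pp_of_cj h c hF h2.symm)

theorem same_comm {E F : Subgroup X} (hE : E ∈ AN 𝒟 D) (hF : F ∈ AN 𝒟 D) (he : pp D E = pp D F) {a b : X}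
    (ha : a ∈ E) (hb : b ∈ F) : a * b = b * a :=
  commute_of h.faith (fun v => same_fix h c hE hF he ha v b hb) (fun v => same_fix h c hF hE he.symm hb v a ha)

/-! ### step (6) -/

/-- `B` centralises the members of `𝒟` in `D` -/
theorem comm_D {B F : Subgroup X} (hB : B ∈ AN 𝒟 D) (hF : F ∈ 𝒟) (hFD : F ≤ D) {b f : X} (hb : b ∈ B) (hf : f ∈ F) :
    b * f = f * b := by
  obtain ⟨C, hC, hne⟩ := exists_partner h c B
  have hDF : fx V D ≤ fx V F := fx_anti hFD
  -- members of `𝒜_N` normalise `F`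
  have hnorm : ∀ E ∈ AN 𝒟 D, ∀ g ∈ E, cj g F = F := by
    intro E hE g hg
    have h1 : ∀ g ∈ E, ∀ v ∈ fx V F, g • v ∈ fx V F := by
      intro g hg v hv
      have := (fx V F).add_mem (hDF (comm_mem' h c hE hg v)) hv
      rwa [sub_add_cancel] at this
    apply ax h c (h.conj F hF g) hF
    ext v
    rw [mem_fx_cj]
    constructor
    · intro hv
      have := h1 g hg _ hv
      rwa [smul_inv_smul] at this
    · intro hv; exact h1 _ (E.inv_mem hg) v hv
  by_contra hbf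
  -- `f' = f⁻¹ (b f b⁻¹)`
  set f' := f⁻¹ * (b * f * b⁻¹) with hf'
  have hbfF : b * f * b⁻¹ ∈ F := by
    rw [← hnorm B hB b hb]; exact mem_cj_of hf
  have hf'F : f' ∈ F := F.mul_mem (F.inv_mem hf) hbfF
  have hf'1 : f' ≠ 1 := by
    intro e
    apply hbf
    rw [hf', inv_mul_eq_one] at e
    have e5 := congrArg (fun z => z * b) e
    simp only [inv_mul_cancel_right] at e5
    exact e5.symm
  -- a vector `v ∈ C_V(L)`, not fixed by `F`
  obtain ⟨v, hvB, hvC, hvF⟩ : ∃ v : V, v ∈ fx V B ∧ v ∈ fx V C ∧ v ∉ fx V F := by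
    by_contra hcon
    push Not at hcon
    apply fx_ne_top h c hF
    intro v
    obtain ⟨d, hd, u, hu, hu', rfl⟩ := mem_sup' h c hB hC hne v
    exact (fx V F).add_mem (hDF hd) (hcon u hu hu')
  -- the subgroup `[v, F]`
  let Φ : AddSubgroup V :=
    { carrier := {w | ∃ x ∈ F, x • v - v = w}
      zero_mem' := ⟨1, F.one_mem, by rw [one_smul, sub_self]⟩
      add_mem' := by
        rintro _ _ ⟨x, hx, rfl⟩ ⟨y, hy, rfl⟩
        refine ⟨x * y, F.mul_mem hx hy, ?_⟩
        have := h.quad F hF y hy x hx v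
        rw [smul_sub, smul_smul] at this
        have e : (x * y) • v = y • v - v + x • v := by rw [← this]; abel
        rw [e]; abel
      neg_mem' := by
        rintro _ ⟨x, hx, rfl⟩
        refine ⟨x, hx, ?_⟩
        have := h.h2 (x • v - v)
        rw [← sub_eq_zero, sub_neg_eq_add]; exact this }
  have hΦcard : Nat.card Φ ≤ Nat.card F := by
    have hsurj : Function.Surjective (fun x : F => (⟨(x : X) • v - v, x, x.2, rfl⟩ : Φ)) := by
      rintro ⟨w, x, hx, rfl⟩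
      exact ⟨⟨x, hx⟩, rfl⟩
    exact Nat.card_le_card_of_surjective _ hsurj
  have hinvΦ : ∀ E ∈ AN 𝒟 D, v ∈ fx V E → Iv E (Φ ⊓ fx V D) := by
    intro E hE hvE g hg w hw
    refine AddSubgroup.mem_inf.2 ⟨?_, fx_inv (hE.2.1 hg) hw.2⟩
    obtain ⟨x, hx, rfl⟩ := hw.1
    refine ⟨g * x * g⁻¹, ?_, ?_⟩
    · rw [← hnorm E hE g hg]; exact mem_cj_of hx
    · have e1 : g⁻¹ • v = v := hvE _ (E.inv_mem hg)
      have e2 : g • v = v := hvE _ hg
      rw [smul_sub, mul_smul, mul_smul, e1, e2]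
  -- `f' v - v = b u - u`, `u = f v - v`
  set u := f • v - v with hu
  have e3 : f' • v - v = b • u - u := by
    have e1 : (b * f * b⁻¹) • v = b • f • v := by
      rw [mul_smul, mul_smul, hvB _ (B.inv_mem hb)]
    have e2 : f • (f' • v - v) = f' • v - v := h.quad F hF f' hf'F f hf v
    have e4 : f • f' • v = (b * f * b⁻¹) • v := by rw [smul_smul, hf']; congr 1; group
    rw [smul_sub, e4, e1] at e2
    rw [← e2, hu, smul_sub, hvB b hb]; abel
  have hmem : f' • v - v ∈ Φ ⊓ fx V D := by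
    refine AddSubgroup.mem_inf.2 ⟨⟨f', hf'F, rfl⟩, ?_⟩
    rw [e3]; exact comm_mem' h c hB hb u
  have hnle : ¬ Φ ⊓ fx V D ≤ fx V B ⊓ fx V C := by
    intro hle
    have h1 : b • u - u ∈ fx V C := by rw [← e3]; exact (hle hmem).2
    have h2 := p3 h c hB hC hne hb h1
    rw [h2, sub_self, sub_eq_zero] at e3
    exact hvF (ti h c hF hf'F hf'1 e3)
  have hcov := cover h c hB hC hne (W₁ := Φ ⊓ fx V D) inf_le_right (hinvΦ B hB hvB) (hinvΦ C hC hvC) hnle
  obtain ⟨_, hD, _⟩ := pair_basic h c hB hC hne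
  set W : AddSubgroup V := fx V D ⊓ fx V B ⊓ fx V C with hW
  have h5 := card_le hcov
  have h6 := card_sup_inf (Φ ⊓ fx V D) W
  have h7 : Nat.card (Φ ⊓ fx V D ⊔ W : AddSubgroup V) ≤ Nat.card (Φ ⊓ fx V D : AddSubgroup V) * Nat.card W := by
    rw [← h6]; exact Nat.le_mul_of_pos_right _ (card_pos _)
  have h8 : Nat.card (Φ ⊓ fx V D : AddSubgroup V) ≤ Nat.card B := by
    rw [card_eq h hB.1 hF]; exact (card_le inf_le_left).trans hΦcard
  rw [hD] at h5
  have h9 : Nat.card B * Nat.card B * Nat.card W ≤ Nat.card B * Nat.card W :=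
    (h5.trans h7).trans (Nat.mul_le_mul_right _ h8)
  have h10 := two_le h hB.1
  have h11 := card_pos W
  have h12 : Nat.card B * Nat.card B ≤ Nat.card B := Nat.le_of_mul_le_mul_right h9 h11
  nlinarith

/-- `[V, F] ≤ C_V(B)` -/
theorem fix_D {B F : Subgroup X} (hB : B ∈ AN 𝒟 D) (hF : F ∈ 𝒟) (hFD : F ≤ D) {f : X} (hf : f ∈ F) (v : V) :
    f • v - v ∈ fx V B := by
  intro b hb
  obtain ⟨C, hC, hne⟩ := exists_partner h c B
  obtain ⟨d, hd, u, hu, _, rfl⟩ := mem_sup' h c hB hC hne v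
  have e1 : f • d = d := hd f (hFD hf)
  have e2 : f • (d + u) - (d + u) = f • u - u := by rw [smul_add, e1]; abel
  rw [e2, smul_sub, smul_smul, comm_D h c hB hF hFD hb hf, mul_smul, hu b hb]

end Cfsg.Agent.Omega.FF.Pts
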