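import Cfsg.Agent.Omega.FF.Basic

/-!
# THEOREM FF, step (0): minimal best offenders are quadratic (Timmesfeld replacement)
-/

set_option autoImplicit false
set_option linter.unusedSectionVars false

namespace Cfsg.Agent.Omega.FF.Quad

open Cfsg.Agent.Omega.FF.Basic

variable {X : Type*} [Group X] [Finite X] {V : Type*} [AddCommGroup V] [Finite V] [DistribMulAction X V]

/-- `C_A([u, A])` -/
def st (A : Subgroup X) (u : V) : Subgroup X where
  carrier := {c | c ∈ A ∧ ∀ a ∈ A, c • (a • u - u) = a • u - u}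
  one_mem' := ⟨A.one_mem, fun a _ => one_smul _ _⟩
  mul_mem' := fun {c d} hc hd => ⟨A.mul_mem hc.1 hd.1, fun a ha => by rw [mul_smul, hd.2 a ha, hc.2 a ha]⟩
  inv_mem' := fun {c} hc => ⟨A.inv_mem hc.1, fun a ha => by rw [inv_smul_eq_iff, hc.2 a ha]⟩

theorem mm_le_st {A : Subgroup X} (hA : EA A) (u : V) : mm V A ≤ mm V (st A u) := by
  have hsub : fx V A ≤ fx V (st A u) := fx_anti fun c hc => hc.1
  refine card_fib hsub (fun a => a • u - u) (fun a ha c hc => hc.2 a ha) ?_
  intro a ha b hb h
  refine ⟨A.mul_mem (A.inv_mem hb) ha, fun d hd => ?_⟩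
  -- `c = b⁻¹ a`, `c u - u ∈ C_V(A)`
  set c := b⁻¹ * a with hc
  have hcA : c ∈ A := A.mul_mem (A.inv_mem hb) ha
  have h1 : c • u - u ∈ fx V A := by
    have h3 : (a • u - b • u : V) ∈ fx V A := by convert h using 1; abel
    have h4 := h3 b⁻¹ (A.inv_mem hb)
    have h5 : c • u - u = b⁻¹ • (a • u - b • u) := by
      rw [smul_sub, smul_smul, inv_smul_smul]
    rw [h5, h4]; exact h3
  have h2 : c • (d • u) = d • (c • u) := by
    rw [smul_smul, smul_smul, hA.comm hcA hd]
  have h3 := h1 d hd
  rw [smul_sub] at h3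
  rw [smul_sub, h2]
  have h4 : d • c • u = c • u - u + d • u := by rw [← h3]; abel
  rw [h4]; abel

/-- (0): quadratic action -/
theorem quad {A : Subgroup X} (h2 : ∀ v : V, v + v = 0) (hA : EA A) (hne : A ≠ ⊥)
    (hmax : ∀ F : Subgroup X, EA F → mm V F ≤ mm V A) (hmin : ∀ F < A, F ≠ ⊥ → mm V F < mm V A) :
    ∀ a ∈ A, ∀ b ∈ A, ∀ v : V, b • (a • v - v) = a • v - v := by
  intro a ha b hb u
  have hle : st A u ≤ A := fun c hc => hc.1
  have h1 := mm_le_st hA u
  by_cases hst : st A u = ⊥
  · exfalso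
    -- `|A| |C| = |V|`
    have hA1 : mm V A = Nat.card V := by
      apply le_antisymm
      · rw [← mm_bot (V := V) (X := X), ← hst]; exact h1
      · rw [← mm_bot (V := V) (X := X)]
        exact hmax _ fun a ha => by rw [Subgroup.mem_bot] at ha; rw [ha, one_mul]
    have hinj : ∀ a ∈ A, ∀ b ∈ A, (a • u - u) - (b • u - u) ∈ fx V A → a = b := by
      intro a ha b hb h
      have : b⁻¹ * a ∈ st A u := by
        refine ⟨A.mul_mem (A.inv_mem hb) ha, fun d hd => ?_⟩
        set c := b⁻¹ * a with hc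
        have hcA : c ∈ A := A.mul_mem (A.inv_mem hb) ha
        have h1 : c • u - u ∈ fx V A := by
          have h3 : (a • u - b • u : V) ∈ fx V A := by convert h using 1; abel
          have h4 := h3 b⁻¹ (A.inv_mem hb)
          have h5 : c • u - u = b⁻¹ • (a • u - b • u) := by
            rw [smul_sub, smul_smul, inv_smul_smul]
          rw [h5, h4]; exact h3
        have h2 : c • (d • u) = d • (c • u) := by
          rw [smul_smul, smul_smul, hA.comm hcA hd]
        have h3 := h1 d hd
        rw [smul_sub] at h3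
        rw [smul_sub, h2]
        have h4 : d • c • u = c • u - u + d • u := by rw [← h3]; abel
        rw [h4]; abel
      rw [hst, Subgroup.mem_bot, inv_mul_eq_one] at this
      exact this.symm
    -- the map `A × C → V` is bijective
    have hbij : Function.Bijective (fun x : A × fx V A => ((x.1 : X) • u - u + (x.2 : V) : V)) := by
      rw [Nat.bijective_iff_injective_and_card]
      refine ⟨?_, ?_⟩
      · rintro ⟨a, c⟩ ⟨a', c'⟩ h
        have h' : (a : X) • u - u + (c : V) = (a' : X) • u - u + (c' : V) := h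
        have e : (a : X) = a' := by
          apply hinj a a.2 a' a'.2
          have : ((a : X) • u - u) - ((a' : X) • u - u) = (c' : V) - c := by
            have : (a : X) • u - u = (a' : X) • u - u + (c' : V) - c := by rw [← h']; abel
            rw [this]; abel
          rw [this]; exact (fx V A).sub_mem c'.2 c.2
        rw [e] at h'
        exact Prod.ext (Subtype.ext e) (Subtype.ext (add_left_cancel h'))
      · rw [Nat.card_prod]; exact hA1
    obtain ⟨⟨a, c⟩, hac⟩ := hbij.2 u
    have hac' : (a : X) • u - u + (c : V) = u := hac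
    have h3 : (a : X) • u = (u + u) - c := by rw [← sub_eq_zero] at hac' ⊢; rw [← hac']; abel
    rw [h2, zero_sub] at h3
    have h4 : (a : X) • u ∈ fx V A := by rw [h3]; exact (fx V A).neg_mem c.2
    have h5 : u ∈ fx V A := by
      have := h4 (a : X)⁻¹ (A.inv_mem a.2)
      rw [inv_smul_smul] at this
      rw [this]; exact h4
    apply hne
    rw [Subgroup.eq_bot_iff_forall]
    intro x hx
    apply hinj x hx 1 A.one_mem
    rw [h5 x hx, one_smul, sub_self]; exact (fx V A).zero_mem
  · have : st A u = A := by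
      by_contra h
      exact absurd (hmin _ (lt_of_le_of_ne hle h) hst) (not_lt.2 h1)
    have hb' : b ∈ st A u := by rw [this]; exact hb
    exact hb'.2 a ha

/-- existence of a minimal best offender -/
theorem exists_min (A₀ : Subgroup X) (h0 : EA A₀) (hne : A₀ ≠ ⊥) (hoff : Nat.card V ≤ mm V A₀) :
    ∃ A : Subgroup X, EA A ∧ A ≠ ⊥ ∧ (∀ F : Subgroup X, EA F → mm V F ≤ mm V A) ∧
      (∀ F < A, F ≠ ⊥ → mm V F < mm V A) := by
  classical
  let S : Set (Subgroup X) := {A | EA A ∧ A ≠ ⊥}
  have hS : S.Finite := Set.toFinite _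
  obtain ⟨B, hB, hBmax⟩ := Set.exists_max_image S (fun A => mm V A) hS ⟨A₀, h0, hne⟩
  let S' : Set (Subgroup X) := {A | (EA A ∧ A ≠ ⊥) ∧ mm V A = mm V B}
  have hS' : S'.Finite := Set.toFinite _
  obtain ⟨A, hA, hAmin⟩ := Set.exists_min_image S' (fun A => Nat.card A) hS' ⟨B, hB, rfl⟩
  refine ⟨A, hA.1.1, hA.1.2, ?_, ?_⟩
  · intro F hF
    rw [hA.2]
    by_cases hF0 : F = ⊥
    · rw [hF0, mm_bot]
      exact hoff.trans (hBmax A₀ ⟨h0, hne⟩)
    · exact hBmax F ⟨hF, hF0⟩
  · intro F hF hF0
    have hFE : EA F := hA.1.1.mono hF.le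
    have h1 : mm V F ≤ mm V A := by rw [hA.2]; exact hBmax F ⟨hFE, hF0⟩
    rcases h1.lt_or_eq with h | h
    · exact h
    · exfalso
      have h3 := hAmin F ⟨⟨hFE, hF0⟩, h.trans hA.2⟩
      exact hF.ne (Subgroup.eq_of_le_of_card_ge hF.le h3)

end Cfsg.Agent.Omega.FF.Quad
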