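import Cfsg.Agent.Omega.FF.Quad

/-!
# THEOREM FF: the hypotheses, points, and the pair `(T₁, T₂)` (steps (0), (1))
-/

set_option autoImplicit false
set_option linter.unusedSectionVars false

namespace Cfsg.Agent.Omega.FF.Setup

open Cfsg.Agent.Omega.FF.Basic
open scoped Pointwise

variable {X : Type*} [Group X] [Finite X] {V : Type*} [AddCommGroup V] [Finite V] [DistribMulAction X V]

variable (V) in
/-- The standing hypotheses of THEOREM FF; `𝒟` is the class of a minimal best offender. -/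
structure Hyp (𝒟 : Set (Subgroup X)) : Prop where
  h2 : ∀ v : V, v + v = 0
  faith : ∀ x : X, (∀ v : V, x • v = v) → x = 1
  o2 : ∀ N : Subgroup X, N.Normal → IsPGroup 2 N → N = ⊥
  mp : ∀ T : Sylow 2 X, ∃ M : Subgroup X, M ≠ ⊤ ∧ ∀ H : Subgroup X, (T : Subgroup X) ≤ H → H ≠ ⊤ → H ≤ M
  vec : ∀ T : Sylow 2 X, ∃ v : V, v ∈ fx V (T : Subgroup X) ∧ v ∉ fx V (⊤ : Subgroup X)
  conj : ∀ A ∈ 𝒟, ∀ g : X, cj g A ∈ 𝒟
  tr : ∀ A ∈ 𝒟, ∀ B ∈ 𝒟, ∃ g : X, cj g A = B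
  ne : 𝒟.Nonempty
  ea : ∀ A ∈ 𝒟, EA A
  nb : ∀ A ∈ 𝒟, A ≠ ⊥
  max : ∀ A ∈ 𝒟, ∀ E : Subgroup X, EA E → mm V E ≤ mm V A
  min : ∀ A ∈ 𝒟, ∀ F < A, F ≠ ⊥ → mm V F < mm V A
  quad : ∀ A ∈ 𝒟, ∀ a ∈ A, ∀ b ∈ A, ∀ v : V, b • (a • v - v) = a • v - v

/-- the largest proper overgroup of the Sylow subgroup `T` -/
def pt (T : Subgroup X) : Subgroup X := sSup {H | T ≤ H ∧ H ≠ ⊤}

/-- `J(R)` -/
def J (𝒟 : Set (Subgroup X)) (R : Subgroup X) : Subgroup X := sSup {A | A ∈ 𝒟 ∧ A ≤ R}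

theorem coe_smul (g : X) (T : Sylow 2 X) : ((g • T : Sylow 2 X) : Subgroup X) = cj g (T : Subgroup X) := by
  ext x
  rw [mem_cj, Sylow.coe_subgroup_smul, Subgroup.mem_pointwise_smul_iff_inv_smul_mem]
  simp [MulAut.smul_def]

theorem J_le {𝒟 : Set (Subgroup X)} {R : Subgroup X} : J 𝒟 R ≤ R := sSup_le fun _ h => h.2

theorem le_J {𝒟 : Set (Subgroup X)} {R A : Subgroup X} (h : A ∈ 𝒟) (hR : A ≤ R) : A ≤ J 𝒟 R := le_sSup ⟨h, hR⟩

theorem J_mono {𝒟 : Set (Subgroup X)} {R R' : Subgroup X} (h : R ≤ R') : J 𝒟 R ≤ J 𝒟 R' :=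
  sSup_le fun _ hA => le_J hA.1 (hA.2.trans h)

theorem J_J {𝒟 : Set (Subgroup X)} {R : Subgroup X} : J 𝒟 (J 𝒟 R) = J 𝒟 R :=
  le_antisymm J_le (sSup_le fun _ hA => le_J hA.1 (le_J hA.1 hA.2))

theorem exists_sylow {P : Subgroup X} (h : IsPGroup 2 P) : ∃ T : Sylow 2 X, P ≤ T := h.exists_le_sylow

/-- Sylow subgroups inside `P` are conjugate in `P` -/
theorem exists_conj_of_le {P : Subgroup X} (T T' : Sylow 2 X) (h : (T : Subgroup X) ≤ P) (h' : (T' : Subgroup X) ≤ P) :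
    ∃ m ∈ P, cj m (T : Subgroup X) = T' := by
  obtain ⟨m, hm⟩ := MulAction.exists_smul_eq P (T.subtype h) (T'.subtype h')
  refine ⟨m, m.2, ?_⟩
  have h1 : ((m • T.subtype h : Sylow 2 P) : Subgroup P) = (T'.subtype h' : Subgroup P) := by rw [hm]
  ext x
  constructor
  · intro hx
    have hxP : x ∈ P := by
      rw [mem_cj] at hx
      have := P.mul_mem (P.mul_mem m.2 (h hx)) (P.inv_mem m.2)
      convert this using 1; group
    have : (⟨x, hxP⟩ : P) ∈ ((m • T.subtype h : Sylow 2 P) : Subgroup P) := by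
      rw [Sylow.coe_subgroup_smul, Subgroup.mem_pointwise_smul_iff_inv_smul_mem]
      change (((MulAut.conj m)⁻¹ • (⟨x, hxP⟩ : P) : P) : X) ∈ (T : Subgroup X)
      rw [mem_cj] at hx
      convert hx using 1
      simp [MulAut.smul_def]
    rw [h1] at this
    exact this
  · intro hx
    have hxP : x ∈ P := h' hx
    have h2 : (⟨x, hxP⟩ : P) ∈ (T'.subtype h' : Subgroup P) := hx
    rw [← h1, Sylow.coe_subgroup_smul, Subgroup.mem_pointwise_smul_iff_inv_smul_mem] at h2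
    have h3 : (((MulAut.conj m)⁻¹ • (⟨x, hxP⟩ : P) : P) : X) ∈ (T : Subgroup X) := h2
    rw [mem_cj]
    convert h3 using 1
    simp [MulAut.smul_def]

namespace Hyp

variable {𝒟 : Set (Subgroup X)} (h : Hyp V 𝒟)
include h

theorem J_cj (g : X) (R : Subgroup X) : J 𝒟 (cj g R) = cj g (J 𝒟 R) := by
  apply le_antisymm
  · apply sSup_le
    rintro A ⟨hA, hAR⟩
    have h1 : cj g⁻¹ A ≤ J 𝒟 R := le_J (h.conj A hA _) (by
      have := cj_mono g⁻¹ hAR; rwa [cj_inv_cj] at this)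
    have := cj_mono g h1
    rwa [cj_cj_inv] at this
  · have : J 𝒟 R ≤ cj g⁻¹ (J 𝒟 (cj g R)) := by
      apply sSup_le
      rintro A ⟨hA, hAR⟩
      have h1 : cj g A ≤ J 𝒟 (cj g R) := le_J (h.conj A hA _) (cj_mono g hAR)
      have := cj_mono g⁻¹ h1
      rwa [cj_inv_cj] at this
    have := cj_mono g this
    rwa [cj_cj_inv] at this

theorem exists_le (T : Sylow 2 X) : ∃ A ∈ 𝒟, A ≤ (T : Subgroup X) := by
  obtain ⟨A, hA⟩ := h.ne
  obtain ⟨T', hT'⟩ := exists_sylow (h.ea A hA).isPGroup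
  obtain ⟨g, hg⟩ := MulAction.exists_smul_eq X T' T
  refine ⟨cj g A, h.conj A hA g, ?_⟩
  rw [← hg, coe_smul]; exact cj_mono g hT'

theorem ne_bot (T : Sylow 2 X) : (T : Subgroup X) ≠ ⊥ := by
  obtain ⟨A, hA, hAT⟩ := h.exists_le T
  intro e
  rw [e, le_bot_iff] at hAT
  exact h.nb A hA hAT

theorem not_normal {Q : Subgroup X} (hQ : IsPGroup 2 Q) (hne : Q ≠ ⊥) : Subgroup.normalizer (Q : Set X) ≠ ⊤ := by
  intro e
  exact hne (h.o2 Q (Subgroup.normalizer_eq_top_iff.1 e) hQ)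

theorem ne_top (T : Sylow 2 X) : (T : Subgroup X) ≠ ⊤ := by
  intro e
  apply h.not_normal T.isPGroup' (h.ne_bot T)
  rw [eq_top_iff, ← e]; exact Subgroup.le_normalizer

theorem le_pt (T : Sylow 2 X) : (T : Subgroup X) ≤ pt (T : Subgroup X) := le_sSup ⟨le_rfl, h.ne_top T⟩

omit [Finite X] h in
theorem le_pt_of {T H : Subgroup X} (hT : T ≤ H) (hH : H ≠ ⊤) : H ≤ pt T := le_sSup ⟨hT, hH⟩

theorem pt_ne_top (T : Sylow 2 X) : pt (T : Subgroup X) ≠ ⊤ := by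
  obtain ⟨M, hM, hMT⟩ := h.mp T
  intro e
  apply hM
  rw [eq_top_iff, ← e]
  exact sSup_le fun H hH => hMT H hH.1 hH.2

theorem pt_eq_of_le {T T' : Sylow 2 X} (hT : (T' : Subgroup X) ≤ pt (T : Subgroup X)) :
    pt (T' : Subgroup X) = pt (T : Subgroup X) := by
  have h1 : pt (T : Subgroup X) ≤ pt (T' : Subgroup X) := le_pt_of hT (h.pt_ne_top T)
  exact le_antisymm (le_pt_of ((h.le_pt T).trans h1) (h.pt_ne_top T')) h1

theorem pt_cj (g : X) (T : Subgroup X) : pt (cj g T) = cj g (pt T) := by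
  apply le_antisymm
  · apply sSup_le
    rintro H ⟨hH, hHt⟩
    have : cj g⁻¹ H ≤ pt T := le_pt_of (by
      have := cj_mono g⁻¹ hH; rwa [cj_inv_cj] at this) (by
      intro e; apply hHt; rw [← cj_cj_inv g H, e, cj_top])
    have := cj_mono g this
    rwa [cj_cj_inv] at this
  · have : pt T ≤ cj g⁻¹ (pt (cj g T)) := by
      apply sSup_le
      rintro H ⟨hH, hHt⟩
      have : cj g H ≤ pt (cj g T) := le_pt_of (cj_mono g hH) (by
        intro e; apply hHt; rw [← cj_inv_cj g H, e, cj_top])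
      have := cj_mono g⁻¹ this
      rwa [cj_inv_cj] at this
    have := cj_mono g this
    rwa [cj_cj_inv] at this

theorem mem_pt_of_cj {g : X} {T : Sylow 2 X} (hg : cj g (pt (T : Subgroup X)) = pt (T : Subgroup X)) :
    g ∈ pt (T : Subgroup X) := by
  have h1 : ((g • T : Sylow 2 X) : Subgroup X) ≤ pt (T : Subgroup X) := by
    rw [coe_smul, ← hg]; exact cj_mono g (h.le_pt T)
  obtain ⟨m, hm, e⟩ := exists_conj_of_le T (g • T) (h.le_pt T) h1
  have h2 : cj (m⁻¹ * g) (T : Subgroup X) = T := by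
    rw [← cj_cj, ← coe_smul, ← e, cj_inv_cj]
  have h3 : m⁻¹ * g ∈ pt (T : Subgroup X) :=
    le_pt_of Subgroup.le_normalizer (h.not_normal T.isPGroup' (h.ne_bot T)) (cj_eq_iff_mem_normalizer.1 h2)
  have := Subgroup.mul_mem _ hm h3
  convert this using 1; group

theorem cj_pt_iff {g : X} {T : Sylow 2 X} : cj g (pt (T : Subgroup X)) = pt (T : Subgroup X) ↔ g ∈ pt (T : Subgroup X) :=
  ⟨h.mem_pt_of_cj, cj_eq_self_of_mem⟩

/-- the normaliser of a nontrivial normal subgroup of `T` lies in `pt T` -/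
theorem normalizer_le_pt {T : Sylow 2 X} {Q : Subgroup X} (hQ : Q ≠ ⊥) (hQT : Q ≤ T)
    (hn : (T : Subgroup X) ≤ Subgroup.normalizer (Q : Set X)) : Subgroup.normalizer (Q : Set X) ≤ pt (T : Subgroup X) :=
  le_pt_of hn (h.not_normal (T.isPGroup'.to_le hQT) hQ)

theorem stab_le_pt {T : Sylow 2 X} {v : V} (hv : v ∈ fx V (T : Subgroup X)) (hv' : v ∉ fx V (⊤ : Subgroup X)) :
    MulAction.stabilizer X v ≤ pt (T : Subgroup X) := by
  apply le_pt_of (fun t ht => hv t ht)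
  intro e
  apply hv'
  intro x _
  have : x ∈ MulAction.stabilizer X v := by rw [e]; trivial
  exact this

theorem exists_ne_pt : ∃ T T' : Sylow 2 X, pt (T : Subgroup X) ≠ pt (T' : Subgroup X) := by
  obtain ⟨T⟩ : Nonempty (Sylow 2 X) := inferInstance
  obtain ⟨g, hg⟩ : ∃ g, g ∉ pt (T : Subgroup X) := by
    by_contra hcon
    push Not at hcon
    exact h.pt_ne_top T (by rw [eq_top_iff]; intro x _; exact hcon x)
  refine ⟨T, g • T, fun e => hg ?_⟩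
  apply h.mem_pt_of_cj
  rw [← h.pt_cj, ← coe_smul, ← e]

end Hyp

end Cfsg.Agent.Omega.FF.Setup
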