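import Cfsg.Agent.Omega.FF.Pts

/-!
# THEOREM FF, step (7): the members of `𝒟` in a Sylow subgroup over `D` normalise `D`
-/

set_option autoImplicit false
set_option linter.unusedSectionVars false

namespace Cfsg.Agent.Omega.FF.Seven

open Cfsg.Agent.Omega.FF.Basic Cfsg.Agent.Omega.FF.Setup Cfsg.Agent.Omega.FF.Frat Cfsg.Agent.Omega.FF.Conf
open Cfsg.Agent.Omega.FF.Min Cfsg.Agent.Omega.FF.Chief Cfsg.Agent.Omega.FF.Pair Cfsg.Agent.Omega.FF.Pts
open scoped Pointwise

variable {X : Type*} [Group X] [Finite X] {V : Type*} [AddCommGroup V] [Finite V] [DistribMulAction X V]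

/-- a subgroup of a 2-group which is its own normaliser is everything -/
theorem eq_of_selfnorm {T R : Subgroup X} (hT : IsPGroup 2 T) (hR : R ≤ T)
    (hn : ∀ u ∈ T, cj u R = R → u ∈ R) : R = T := by
  by_contra hRU
  have hnil : Group.IsNilpotent T := hT.isNilpotent
  have hRlt : R.subgroupOf T < ⊤ := by
    rw [lt_top_iff_ne_top]
    intro e
    rw [Subgroup.subgroupOf_eq_top] at e
    exact hRU (le_antisymm hR e)
  have h4 := Group.normalizerCondition_of_isNilpotent (G := T) _ hRlt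
  obtain ⟨_, h5⟩ := SetLike.lt_iff_le_and_exists.1 h4
  obtain ⟨u, hu, hu'⟩ := h5
  apply hu'
  rw [Subgroup.mem_subgroupOf]
  apply hn u u.2
  rw [Subgroup.mem_normalizer_iff] at hu
  ext x
  rw [mem_cj]
  constructor
  · intro hx
    have hxU : (u : X)⁻¹ * x * u ∈ T := hR hx
    have h6 := (hu ⟨_, hxU⟩).1 (Subgroup.mem_subgroupOf.2 hx)
    have h7 : (u : X) * ((u : X)⁻¹ * x * u) * (u : X)⁻¹ ∈ R := h6
    convert h7 using 1; group
  · intro hx
    have hxU : (u : X)⁻¹ * x * u ∈ T := T.mul_mem (T.mul_mem (T.inv_mem u.2) (hR hx)) u.2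
    have h6 : (u * (⟨_, hxU⟩ : T) * u⁻¹ : T) ∈ R.subgroupOf T := by
      rw [Subgroup.mem_subgroupOf]
      have : ((u * (⟨_, hxU⟩ : T) * u⁻¹ : T) : X) = x := by
        change (u : X) * ((u : X)⁻¹ * x * u) * (u : X)⁻¹ = x; group
      rw [this]; exact hx
    exact (hu ⟨_, hxU⟩).2 h6

variable (V) in
/-- `v ↦ g v - v` -/
def dif (g : X) : V →+ V where
  toFun v := g • v - v
  map_zero' := by rw [smul_zero, sub_self]
  map_add' v w := by rw [smul_add]; abel

omit [Finite X] in
theorem card_map (g : X) (H : AddSubgroup V) :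
    Nat.card (H.map (dif V g)) * Nat.card (H ⊓ fe V g : AddSubgroup V) = Nat.card H := by
  have h1 := AddSubgroup.relIndex_ker H (dif V g)
  have hker : (dif V g).ker = fe V g := by
    ext v
    rw [AddMonoidHom.mem_ker, mem_fe]
    change g • v - v = 0 ↔ _
    exact sub_eq_zero
  rw [hker] at h1
  rw [← h1, ← AddSubgroup.inf_relIndex_left H (fe V g), mul_comm]
  exact card_mul_relIndex inf_le_left

variable {𝒟 : Set (Subgroup X)} {D : Subgroup X} (h : Hyp V 𝒟) (c : Cfg 𝒟 D)
include h c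

/-- (7) -/
theorem le_normalizer {T : Sylow 2 X} (hDT : D ≤ T) {A : Subgroup X} (hA : A ∈ 𝒟) (hAT : A ≤ T) :
    A ≤ Subgroup.normalizer (D : Set X) := by
  classical
  by_contra hAn
  set R := (T : Subgroup X) ⊓ Subgroup.normalizer (D : Set X) with hR
  set JR := J 𝒟 R with hJR
  have hDR : D ≤ R := le_inf hDT Subgroup.le_normalizer
  have hDJ : D ≤ JR := by
    have : J 𝒟 D ≤ J 𝒟 R := J_mono hDR
    rwa [c.gen] at this
  -- a member `G` of `𝒟` in `N_T(J_R)`, not in `R`
  obtain ⟨G, hG, hGT, hGn, hGR⟩ : ∃ G ∈ 𝒟, G ≤ (T : Subgroup X) ∧ G ≤ Subgroup.normalizer (JR : Set X) ∧ ¬ G ≤ R := by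
    by_contra hcon
    push Not at hcon
    set R2 := (T : Subgroup X) ⊓ Subgroup.normalizer (JR : Set X) with hR2
    have hRR2 : R ≤ R2 := by
      apply le_inf inf_le_left
      intro r hr
      rw [← cj_eq_iff_mem_normalizer, hJR, ← h.J_cj, cj_eq_self_of_mem hr]
    have h1 : J 𝒟 R2 = JR := by
      apply le_antisymm
      · apply sSup_le
        rintro G ⟨hG, hGR2⟩
        exact le_J hG (hcon G hG (hGR2.trans inf_le_left) (hGR2.trans inf_le_right))
      · exact J_mono hRR2
    have h2 : R2 = T := by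
      apply eq_of_selfnorm T.isPGroup' inf_le_left
      intro u hu hur
      refine Subgroup.mem_inf.2 ⟨hu, ?_⟩
      rw [← cj_eq_iff_mem_normalizer, ← h1, ← h.J_cj, hur]
    apply hAn
    have h3 : A ≤ J 𝒟 (T : Subgroup X) := le_J hA hAT
    rw [← h2, h1] at h3
    exact h3.trans (J_le.trans inf_le_right)
  obtain ⟨g, hg, hgR⟩ := Set.not_subset.1 hGR
  have hgD : cj g D ≠ D := by
    intro e
    exact hgR (Subgroup.mem_inf.2 ⟨hGT hg, cj_eq_iff_mem_normalizer.1 e⟩)
  have hg2 : g * g = 1 := h.ea G hG g hg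
  have hginv : g⁻¹ = g := inv_eq_of_mul_eq_one_left hg2
  have hgJ : cj g JR = JR := cj_eq_iff_mem_normalizer.2 (hGn hg)
  obtain ⟨F, hF, hFD, hFn⟩ : ∃ F ∈ 𝒟, F ≤ D ∧ ¬ cj g F ≤ D := by
    by_contra hcon
    push Not at hcon
    apply hgD
    apply cj_eq_of_le
    nth_rewrite 1 [← c.gen]
    rw [← h.J_cj]
    apply sSup_le
    rintro G' ⟨hG', hG'D⟩
    have h1 : cj g⁻¹ G' ≤ D := by
      have := cj_mono g⁻¹ hG'D
      rwa [cj_inv_cj] at this
    have := hcon _ (h.conj G' hG' g⁻¹) h1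
    rwa [cj_cj_inv] at this
  set B := cj g F with hB
  have hBJ : B ≤ JR := by rw [← hgJ]; exact cj_mono g (hFD.trans hDJ)
  have hBA : B ∈ AN 𝒟 D := ⟨h.conj F hF g, hBJ.trans (J_le.trans inf_le_right), hFn⟩
  obtain ⟨C, hC, hne⟩ := exists_partner h c B
  have hFB : cj g B = F := by rw [hB, cj_cj, hg2, cj_one]
  -- `W`
  set W : AddSubgroup V := fx V F ⊓ fx V B with hW
  have hDF : fx V D ≤ fx V F := fx_anti hFD
  have hsup : ∀ v : V, ∃ x ∈ fx V F, ∃ y ∈ fx V B, x + y = v := by
    intro v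
    obtain ⟨d, hd, u, hu, _, e⟩ := mem_sup' h c hBA hC hne v
    exact ⟨d, hDF hd, u, hu, e⟩
  have hsup' : fx V F ⊔ fx V B = ⊤ := by
    rw [eq_top_iff]
    intro v _
    obtain ⟨x, hx, y, hy, e⟩ := hsup v
    rw [← e]
    exact (fx V F ⊔ fx V B).add_mem ((le_sup_left : fx V F ≤ _) hx) ((le_sup_right : fx V B ≤ _) hy)
  have swF : ∀ v ∈ fx V F, g • v ∈ fx V B := fun v hv => smul_mem_fx_cj hv
  have swB : ∀ v ∈ fx V B, g • v ∈ fx V F := fun v hv => by
    have := smul_mem_fx_cj (g := g) hv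
    rwa [hFB] at this
  have hgg : ∀ v : V, g • g • v = v := fun v => by rw [smul_smul, hg2, one_smul]
  obtain ⟨f, hf, hf1⟩ : ∃ f ∈ F, f ≠ 1 := by
    by_contra hno
    push Not at hno
    exact h.nb F hF ((Subgroup.eq_bot_iff_forall _).2 hno)
  -- cardinalities
  set q := Nat.card B with hq
  have hVF : q * Nat.card (fx V F) = Nat.card V := by
    rw [hq, card_eq h hBA.1 hF]; exact mm_eq h c hF
  have hVB : q * Nat.card (fx V B) = Nat.card V := mm_eq h c hBA.1
  have hVG : q * Nat.card (fx V G) = Nat.card V := by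
    rw [hq, card_eq h hBA.1 hG]; exact mm_eq h c hG
  have hg1 : g ≠ 1 := by
    intro e; apply hgD; rw [e, cj_one]
  have hfeG : fe V g = fx V G := by
    apply le_antisymm
    · intro v hv; exact ti h c hG hg hg1 hv
    · exact fx_le_fe hg
  have hqpos : 0 < q := Nat.card_pos
  -- `W ≤ C_V(g)`
  have hWg : W ≤ fe V g := by
    have e1 := card_map g (⊤ : AddSubgroup V)
    rw [top_inf_eq, hfeG, card_top] at e1
    have e2 := card_map g (fx V F)
    have e3 : (⊤ : AddSubgroup V).map (dif V g) = (fx V F).map (dif V g) := by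
      apply le_antisymm
      · rintro _ ⟨v, _, rfl⟩
        obtain ⟨x, hx, y, hy, rfl⟩ := hsup v
        refine ⟨x - g • y, (fx V F).sub_mem hx (swB y hy), ?_⟩
        change g • (x - g • y) - (x - g • y) = g • (x + y) - (x + y)
        rw [smul_sub, smul_add, hgg]
        have h5 := h.h2 y
        have h6 := h.h2 (g • y)
        rw [← sub_eq_zero]
        have : g • x - y - (x - g • y) - (g • x + g • y - (x + y)) = (g • y - g • y) + (y - y) := by abel
        rw [this]; simp
      · exact AddSubgroup.map_mono le_top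
    rw [e3] at e1
    have hmap : Nat.card ((fx V F).map (dif V g)) = q := by
      apply Nat.eq_of_mul_eq_mul_right (card_pos (fx V G))
      rw [e1, hVG]
    rw [hmap] at e2
    have hle : fx V F ⊓ fe V g ≤ W := by
      intro v hv
      refine AddSubgroup.mem_inf.2 ⟨hv.1, ?_⟩
      have h5 := swF v hv.1
      have h6 : g • v = v := hv.2
      rwa [h6] at h5
    -- |W| = |fx F ⊓ fe g|
    have e4 := card_sup_inf (fx V F) (fx V B)
    rw [hsup', card_top] at e4
    have e5 : q * Nat.card W = Nat.card (fx V F) := by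
      apply Nat.eq_of_mul_eq_mul_right (card_pos (fx V B))
      rw [← e4, ← hVB]; ring
    have e6 : Nat.card W = Nat.card (fx V F ⊓ fe V g : AddSubgroup V) := by
      apply Nat.eq_of_mul_eq_mul_left hqpos
      rw [e5, e2]
    have e7 : fx V F ⊓ fe V g = W := eq_of_card_le hle e6.le
    rw [← e7]; exact inf_le_right
  -- the contradiction
  apply hf1
  have hb : g * f * g⁻¹ ∈ B := mem_cj_of hf
  have key : ∀ v : V, (g * f * g⁻¹) • v = v := by
    intro v
    set u := g⁻¹ • v with hu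
    have hv : v = g • u := by rw [hu, smul_inv_smul]
    have h5 : f • u - u ∈ W :=
      AddSubgroup.mem_inf.2 ⟨fun x hx => h.quad F hF f hf x hx u, fix_D h c hBA hF hFD hf u⟩
    have h6 : g • (f • u - u) = f • u - u := hWg h5
    have h7 : (g * f * g⁻¹) • v - v = f • u - u := by
      rw [← h6, hv, smul_sub, mul_smul, mul_smul, inv_smul_smul]
    apply p3 h c hBA hC hne hb
    rw [h7]
    exact fix_D h c hC hF hFD hf u
  have h8 := h.faith _ key
  have : f = g⁻¹ * (g * f * g⁻¹) * g := by group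
  rw [this, h8]; group

end Cfsg.Agent.Omega.FF.Seven
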