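import Cfsg.Agent.ClassTwoFusion.SL2Field

/-!
# The K-free FF theorem, step (10) of #12272: a spread gives `SL₂(q)`

`Pre T U C`: `L` finite acts faithfully on the elementary abelian 2-group `V`, `U = C_V(T)`, `C = C_V(L)`, `T`
quadratic, `C_V(t) = U` for `t ∈ T#`, `|V : U| = |T| = |U : C|`, `L = ⟨T^L⟩`, `U ∩ U^g = C` for `g ∉ N(T)`, and no
`t ∈ T#` centralises `V / C`.  Then `L = SL₂(F)`, `|F| = |T|`, `V / C` natural (`Pre.exists_field`, and the additive
version `exists_field_add`).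
-/

set_option autoImplicit false
set_option linter.unusedSectionVars false

namespace Cfsg.Agent.Omega.FF.SpreadEnd

open Subgroup Cfsg.Agent.ClassTwoFusion.SL2Field

/-- the hypotheses -/
structure Pre {L V : Type*} [Group L] [Group V] [MulDistribMulAction L V] (T : Subgroup L) (U C : Subgroup V) :
    Prop where
  comm : ∀ v w : V, v * w = w * v
  sq : ∀ v : V, v * v = 1
  faith : ∀ x : L, (∀ v : V, x • v = v) → x = 1
  hU : ∀ v, v ∈ U ↔ ∀ t ∈ T, t • v = v
  hC : ∀ v, v ∈ C ↔ ∀ x : L, x • v = v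
  sqT : ∀ t ∈ T, t * t = 1
  quad : ∀ t ∈ T, ∀ v, (t • v) * v ∈ U
  reg : ∀ t ∈ T, t ≠ 1 → ∀ v, t • v = v → v ∈ U
  two_le : 2 ≤ Nat.card T
  hVU : U.index = Nat.card T
  hUC : C.relIndex U = Nat.card T
  gen : ∀ K : Subgroup L, (∀ g, ∀ t ∈ T, g * t * g⁻¹ ∈ K) → K = ⊤
  ti : ∀ g, g ∉ normalizer (T : Set L) → ∀ v ∈ U, g • v ∈ U → g • v ∈ C
  mv : ∀ t ∈ T, t ≠ 1 → ∃ v, (t • v) * v ∉ C

namespace Pre

section Comm

variable {L V : Type*} [Group L] [Finite L] [CommGroup V] [Finite V] [MulDistribMulAction L V]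
  {T : Subgroup L} {U C : Subgroup V} (h : Pre T U C)
include h

theorem C_le : C ≤ U := fun v hv => (h.hU v).2 fun t _ => (h.hC v).1 hv t

theorem smul_C {v : V} (hv : v ∈ C) (x : L) : x • v = v := (h.hC v).1 hv x

theorem ti' {g : L} {v : V} (hv : v ∈ U) (hgv : g • v ∈ U) (hvC : v ∉ C) : g ∈ normalizer (T : Set L) := by
  by_contra hg
  apply hvC
  have h1 := h.ti g hg v hv hgv
  have h2 : v = g⁻¹ • g • v := (inv_smul_smul g v).symm
  rw [h2, h.smul_C h1]
  exact h1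

theorem inv_not_mem {g : L} (hg : g ∉ normalizer (T : Set L)) : g⁻¹ ∉ normalizer (T : Set L) := fun h1 =>
  hg (by simpa using inv_mem h1)

theorem C_le' (g : L) : C ≤ tr g U := by
  intro v hv
  show g⁻¹ • v ∈ U
  rw [h.smul_C hv]
  exact h.C_le hv

theorem inf_eq {g : L} (hg : g ∉ normalizer (T : Set L)) : U ⊓ tr g U = C := by
  apply le_antisymm
  · rintro v ⟨hv, hv'⟩
    by_contra hvC
    exact h.inv_not_mem hg (h.ti' hv hv' hvC)
  · exact le_inf h.C_le (h.C_le' g)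

theorem index_tr (g : L) : (tr g U).index = U.index := by
  unfold tr
  apply index_comap_of_surjective
  intro v
  exact ⟨g • v, inv_smul_smul g v⟩

theorem pos : 0 < Nat.card T := by have := h.two_le; omega

theorem sup_eq {g : L} (hg : g ∉ normalizer (T : Set L)) (v : V) : ∃ a ∈ U, ∃ b ∈ tr g U, a * b = v := by
  have h1 : (tr g U).relIndex (U ⊔ tr g U) * (U ⊔ tr g U).index = (tr g U).index :=
    relIndex_mul_index le_sup_right
  have h2 : (tr g U).relIndex U ≤ (tr g U).relIndex (U ⊔ tr g U) :=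
    relIndex_le_of_le_right le_sup_left index_ne_zero_of_finite
  have h3 : (tr g U).relIndex U = Nat.card T := by
    rw [← inf_relIndex_right, inf_comm, h.inf_eq hg, h.hUC]
  rw [h.index_tr, h.hVU] at h1
  rw [h3] at h2
  have hp := h.pos
  have hpos : (U ⊔ tr g U).index ≠ 0 := index_ne_zero_of_finite
  have h5 : U ⊔ tr g U = ⊤ := by
    rw [← index_eq_one]
    by_contra hcon
    have h4 : 2 ≤ (U ⊔ tr g U).index := by omega
    have : Nat.card T * 2 ≤ (tr g U).relIndex (U ⊔ tr g U) * (U ⊔ tr g U).index := Nat.mul_le_mul h2 h4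
    omega
  have h6 : v ∈ U ⊔ tr g U := by rw [h5]; exact mem_top v
  exact mem_sup.1 h6

/-- an element of `T#` fixes only the line `U` -/
theorem fix_line {t g : L} (ht : t ∈ T) (ht1 : t ≠ 1) (hg : ∀ v ∈ U, (g⁻¹ * t * g) • v ∈ U) :
    g ∈ normalizer (T : Set L) := by
  by_contra hgn
  obtain ⟨v, hv⟩ := h.mv t ht ht1
  apply hv
  obtain ⟨a, ha, b, hb, rfl⟩ := h.sup_eq hgn v
  have h1 : (t • (a * b)) * (a * b) = (t • b) * b := by
    rw [smul_mul', (h.hU a).1 ha t ht, h.comm a (t • b), mul_assoc, ← mul_assoc a a b, h.sq, one_mul]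
  have h2 : (t • (a * b)) * (a * b) ∈ U := h.quad t ht _
  have h3 : (t • b) * b ∈ tr g U := by
    refine mul_mem ?_ hb
    show g⁻¹ • t • b ∈ U
    have h4 := hg (g⁻¹ • b) hb
    have h5 : (g⁻¹ * t * g) • g⁻¹ • b = g⁻¹ • t • b := by
      rw [← mul_smul, ← mul_smul]
      congr 1
      group
    rw [h5] at h4
    exact h4
  rw [← h.inf_eq hgn]
  rw [h1] at h2 ⊢
  exact ⟨h2, h3⟩

/-- a conjugate of an element of `T#` which commutes with an element of `T#` is in `T` -/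
theorem mem_of_comm {t u g : L} (ht : t ∈ T) (ht1 : t ≠ 1) (hu : u ∈ T) (hu1 : u ≠ 1)
    (hc : t * (g * u * g⁻¹) = g * u * g⁻¹ * t) : g * u * g⁻¹ ∈ T := by
  have h1 : g ∈ normalizer (T : Set L) := by
    apply h.fix_line ht ht1
    intro v hv
    apply h.reg u hu hu1
    have h2 : u * (g⁻¹ * t * g) = g⁻¹ * t * g * u := by
      calc u * (g⁻¹ * t * g) = g⁻¹ * (g * u * g⁻¹ * t) * g := by group
        _ = g⁻¹ * (t * (g * u * g⁻¹)) * g := by rw [hc]
        _ = g⁻¹ * t * g * u := by group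
    rw [← mul_smul, h2, mul_smul, (h.hU v).1 hv u hu]
  exact (mem_normalizer_iff.1 h1 u).1 hu

/-- the central involution of a dihedral group `⟨t, s^g⟩` is in `T` -/
theorem pow_mem_T {t s g : L} (ht : t ∈ T) (ht1 : t ≠ 1) (hs : s ∈ T) (hs1 : s ≠ 1) {m : ℕ}
    (hm : (t * (g * s * g⁻¹)) ^ (m + m) = 1) : (t * (g * s * g⁻¹)) ^ m ∈ T := by
  set w := g * s * g⁻¹ with hw
  set x := t * w with hx
  have htt : t * t = 1 := h.sqT t ht
  have hti : t⁻¹ = t := inv_eq_of_mul_eq_one_left htt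
  have hww : w * w = 1 := by
    rw [hw]
    calc g * s * g⁻¹ * (g * s * g⁻¹) = g * (s * s) * g⁻¹ := by group
      _ = 1 := by rw [h.sqT s hs]; group
  have hxi : x⁻¹ = w * t := by rw [hx, mul_inv_rev, hti, inv_eq_of_mul_eq_one_left hww]
  have htx : t * x * t⁻¹ = x⁻¹ := by
    rw [hxi, hx, hti]
    calc t * (t * w) * t = t * t * w * t := by group
      _ = w * t := by rw [htt, one_mul]
  have htk : ∀ k : ℕ, t * x ^ k * t⁻¹ = (x ^ k)⁻¹ := fun k => by
    rw [← conj_pow, htx, inv_pow]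
  have htk' : ∀ k : ℕ, x ^ k * t = t * (x ^ k)⁻¹ := fun k => by
    rw [← htk k, hti]
    calc x ^ k * t = t * t * x ^ k * t := by rw [htt, one_mul]
      _ = t * (t * x ^ k * t) := by group
  have hz : t * x ^ m = x ^ m * t := by
    rw [htk' m]
    congr 1
    have h1 : x ^ m * x ^ m = 1 := by rw [← pow_add]; exact hm
    exact (inv_eq_of_mul_eq_one_left h1).symm
  -- `t x^m` is a conjugate of an element of `T#`
  have key : ∃ r u, u ∈ T ∧ u ≠ 1 ∧ t * x ^ m = r * u * r⁻¹ := by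
    have htk2 : ∀ k : ℕ, (x ^ k)⁻¹ * t = t * x ^ k := fun k => by
      rw [← htk k, inv_mul_cancel_right]
    rcases Nat.even_or_odd' m with ⟨i, hi | hi⟩
    · refine ⟨(x ^ i)⁻¹, t, ht, ht1, ?_⟩
      rw [inv_inv, htk2 i, mul_assoc, ← pow_add, hi, two_mul]
    · refine ⟨(x ^ i)⁻¹ * g, s, hs, hs1, ?_⟩
      have h1 : w = t * x := by rw [hx, ← mul_assoc, htt, one_mul]
      calc t * x ^ m = t * x ^ i * x * x ^ i := by
            rw [mul_assoc (t * x ^ i), ← pow_succ', mul_assoc, ← pow_add, hi]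
            congr 2
            omega
        _ = (x ^ i)⁻¹ * (t * x) * x ^ i := by rw [← htk2 i]; group
        _ = (x ^ i)⁻¹ * (g * s * g⁻¹) * x ^ i := by rw [← h1]
        _ = (x ^ i)⁻¹ * g * s * ((x ^ i)⁻¹ * g)⁻¹ := by group
  obtain ⟨r, u, hu, hu1, hr⟩ := key
  have h1 : r * u * r⁻¹ ∈ T := by
    apply h.mem_of_comm ht ht1 hu hu1
    rw [← hr]
    calc t * (t * x ^ m) = t * (x ^ m * t) := by rw [hz]
      _ = t * x ^ m * t := by group
  rw [← hr] at h1
  have h2 : t * (t * x ^ m) ∈ T := mul_mem ht h1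
  rw [← mul_assoc, htt, one_mul] at h2
  exact h2

theorem odd {g : L} (hg : g ∉ normalizer (T : Set L)) {t : L} (ht : t ∈ T) {s : L} (hs : s ∈ T) (ht1 : t ≠ 1)
    (hs1 : s ≠ 1) : Odd (orderOf (t * (g * s * g⁻¹))) := by
  rw [← Nat.not_even_iff_odd]
  rintro ⟨m, hm⟩
  set x := t * (g * s * g⁻¹) with hx
  have hpos : 0 < orderOf x := orderOf_pos x
  have hx1 : x ^ (m + m) = 1 := by rw [← hm]; exact pow_orderOf_eq_one x
  have hz1 : x ^ m ≠ 1 := by
    intro h1
    have h2 := Nat.le_of_dvd (by omega) (orderOf_dvd_of_pow_eq_one h1)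
    omega
  have h1 : x ^ m ∈ T := h.pow_mem_T ht ht1 hs hs1 hx1
  -- the same for `s`
  have hss : s * s = 1 := h.sqT s hs
  have htt : t * t = 1 := h.sqT t ht
  have hy : s * (g⁻¹ * t * g⁻¹⁻¹) = (g⁻¹ * x * g)⁻¹ := by
    rw [hx]
    have e1 : s⁻¹ = s := inv_eq_of_mul_eq_one_left hss
    have e2 : t⁻¹ = t := inv_eq_of_mul_eq_one_left htt
    calc s * (g⁻¹ * t * g⁻¹⁻¹) = s⁻¹ * (g⁻¹ * t⁻¹ * g⁻¹⁻¹) := by rw [e1, e2]
      _ = (g⁻¹ * (t * (g * s * g⁻¹)) * g)⁻¹ := by group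
  have hxc : ∀ k : ℕ, (g⁻¹ * x * g) ^ k = g⁻¹ * x ^ k * g := fun k => by
    have := conj_pow (i := k) (a := g⁻¹) (b := x)
    rw [inv_inv] at this
    exact this
  have h2 : (s * (g⁻¹ * t * g⁻¹⁻¹)) ^ (m + m) = 1 := by
    rw [hy, inv_pow, hxc, hx1]
    group
  have h3 := h.pow_mem_T hs hs1 ht ht1 h2
  rw [hy, inv_pow, hxc] at h3
  have h4 : g⁻¹ * x ^ m * g ∈ T := by simpa using inv_mem h3
  -- `U = C`
  have h5 : ∀ v ∈ U, v ∈ C := by
    intro v hv
    have h6 : x ^ m • g • v = g • v := by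
      have h7 := (h.hU v).1 hv _ h4
      have h8 : g • (g⁻¹ * x ^ m * g) • v = x ^ m • g • v := by
        rw [← mul_smul, ← mul_smul]
        congr 1
        group
      rw [← h8, h7]
    have h7 : g • v ∈ U := h.reg _ h1 hz1 _ h6
    have h8 := h.ti g hg v hv h7
    have h9 := h.smul_C h8 g⁻¹
    rw [inv_smul_smul] at h9
    rw [h9]
    exact h8
  have h6 := h.hUC
  rw [relIndex_eq_one.2 h5] at h6
  have := h.two_le
  omega

end Comm

/-- **Spread ⇒ `SL₂(F)`**, `V / C` natural. -/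
theorem exists_field {L V : Type*} [Group L] [Finite L] [Group V] [Finite V] [MulDistribMulAction L V]
    {T : Subgroup L} {U C : Subgroup V} (h : Pre T U C) :
    ∃ (F : Type) (_ : Field F) (_ : Fintype F) (_ : CharP F 2) (φ : L ≃* Matrix.SpecialLinearGroup (Fin 2) F)
      (e : V → (Fin 2 → F)), Nat.card F = Nat.card T ∧ (∀ v w, e (v * w) = e v + e w) ∧
      Function.Surjective e ∧ (∀ v, e v = 0 ↔ v ∈ C) ∧ (∀ x v, e (x • v) = (φ x).1.mulVec (e v)) ∧
      (∀ v, v ∈ U ↔ e v 1 = 0) ∧ (∀ x, x ∈ T ↔ ∃ a : F, (φ x).1 = !![1, a; 0, 1]) := by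
  refine exists_field' T U C h.comm h.sq h.faith h.hU h.hC h.sqT h.quad h.reg h.two_le h.hVU h.hUC h.gen h.ti ?_
  let _ : CommGroup V := { (inferInstance : Group V) with mul_comm := h.comm }
  intro g hg t ht s hs ht1 hs1
  exact h.odd hg ht hs ht1 hs1

end Pre

/-- the action on `Multiplicative V` -/
@[reducible] def mulAct (L V : Type*) [Group L] [AddCommGroup V] [DistribMulAction L V] :
    MulDistribMulAction L (Multiplicative V) where
  smul x v := Multiplicative.ofAdd (x • v.toAdd)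
  one_smul v := congrArg Multiplicative.ofAdd (one_smul L v.toAdd)
  mul_smul x y v := congrArg Multiplicative.ofAdd (mul_smul x y v.toAdd)
  smul_mul x v w := congrArg Multiplicative.ofAdd (smul_add x v.toAdd w.toAdd)
  smul_one x := congrArg Multiplicative.ofAdd (smul_zero x)

/-- additive version -/
theorem exists_field_add {L V : Type*} [Group L] [Finite L] [AddCommGroup V] [Finite V] [DistribMulAction L V]
    (T : Subgroup L) (U C : AddSubgroup V) (sq : ∀ v : V, v + v = 0)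
    (faith : ∀ x : L, (∀ v : V, x • v = v) → x = 1)
    (hU : ∀ v, v ∈ U ↔ ∀ t ∈ T, t • v = v) (hC : ∀ v, v ∈ C ↔ ∀ x : L, x • v = v)
    (sqT : ∀ t ∈ T, t * t = 1) (quad : ∀ t ∈ T, ∀ v, t • v + v ∈ U)
    (reg : ∀ t ∈ T, t ≠ 1 → ∀ v, t • v = v → v ∈ U)
    (two_le : 2 ≤ Nat.card T) (hVU : U.index = Nat.card T) (hUC : C.relIndex U = Nat.card T)
    (gen : ∀ K : Subgroup L, (∀ g, ∀ t ∈ T, g * t * g⁻¹ ∈ K) → K = ⊤)
    (ti : ∀ g, g ∉ normalizer (T : Set L) → ∀ v ∈ U, g • v ∈ U → g • v ∈ C)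
    (mv : ∀ t ∈ T, t ≠ 1 → ∃ v, t • v + v ∉ C) :
    ∃ (F : Type) (_ : Field F) (_ : Fintype F) (_ : CharP F 2) (φ : L ≃* Matrix.SpecialLinearGroup (Fin 2) F)
      (e : V → (Fin 2 → F)), Nat.card F = Nat.card T ∧ (∀ v w, e (v + w) = e v + e w) ∧
      Function.Surjective e ∧ (∀ v, e v = 0 ↔ v ∈ C) ∧ (∀ x v, e (x • v) = (φ x).1.mulVec (e v)) ∧
      (∀ v, v ∈ U ↔ e v 1 = 0) ∧ (∀ x, x ∈ T ↔ ∃ a : F, (φ x).1 = !![1, a; 0, 1]) := by
  let _ : MulDistribMulAction L (Multiplicative V) := mulAct L V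
  have hP : Pre (V := Multiplicative V) T U.toSubgroup C.toSubgroup :=
    { comm := fun v w => mul_comm v w
      sq := fun v => sq v.toAdd
      faith := fun x hx => faith x fun v => congrArg Multiplicative.toAdd (hx (Multiplicative.ofAdd v))
      hU := fun v => hU v.toAdd
      hC := fun v => hC v.toAdd
      sqT := sqT
      quad := fun t ht v => quad t ht v.toAdd
      reg := fun t ht ht1 v hv => reg t ht ht1 v.toAdd hv
      two_le := two_le
      hVU := hVU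
      hUC := hUC
      gen := gen
      ti := fun g hg v hv hgv => ti g hg v.toAdd hv hgv
      mv := fun t ht ht1 => by
        obtain ⟨v, hv⟩ := mv t ht ht1
        exact ⟨Multiplicative.ofAdd v, hv⟩ }
  obtain ⟨F, i1, i2, i3, φ, e, h1, h2, h3, h4, h5, h6, h7⟩ := hP.exists_field
  exact ⟨F, i1, i2, i3, φ, fun v => e (Multiplicative.ofAdd v), h1, fun v w => h2 _ _, h3, fun v => h4 _, fun x v => h5 _ _,
    fun v => h6 _, h7⟩

end Cfsg.Agent.Omega.FF.SpreadEnd
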