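import Cfsg.Agent.Omega.FF.ToLoc1
import Cfsg.Agent.Omega.FF.GlobDef
import Cfsg.Agent.ClassTwoFusion.SpreadSL

/-!
# THEOREM FF: the output `Loc` of the local theorem
-/

set_option autoImplicit false
set_option linter.unusedSectionVars false
set_option linter.unusedVariables false

namespace Cfsg.Agent.Omega.FF.ToLoc

open Cfsg.Agent.Omega.FF.Basic Cfsg.Agent.Omega.FF.Setup Cfsg.Agent.Omega.FF.Conf
open Cfsg.Agent.ClassTwoFusion.Quad Cfsg.Agent.ClassTwoFusion.SpreadSL Cfsg.Agent.LieClassical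

/-- `X` acts on `Additive V` -/
@[reducible] def addAct (X V : Type*) [Group X] [CommGroup V] [MulDistribMulAction X V] :
    DistribMulAction X (Additive V) where
  smul x v := Additive.ofMul (x • Additive.toMul v)
  one_smul v := congrArg Additive.ofMul (one_smul X (Additive.toMul v))
  mul_smul x y v := congrArg Additive.ofMul (mul_smul x y (Additive.toMul v))
  smul_zero x := congrArg Additive.ofMul (smul_one x)
  smul_add x v w := congrArg Additive.ofMul (smul_mul' x (Additive.toMul v) (Additive.toMul w))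

variable {X V : Type*} [Group X] [CommGroup V] [MulDistribMulAction X V]

attribute [local instance] addAct

theorem ofMul_smul (x : X) (v : V) : Additive.ofMul (x • v) = x • Additive.ofMul v := rfl

theorem mem_fx_iff {A : Subgroup X} {v : V} : Additive.ofMul v ∈ fx (Additive V) A ↔ v ∈ cv V (A : Set X) := Iff.rfl

theorem d_add (hsq : ∀ v : V, v * v = 1) (x : X) (v : V) :
    Additive.ofMul (d x v) = x • Additive.ofMul v - Additive.ofMul v := by
  have e : d x v = (x • v) / v := by
    rw [d, div_eq_mul_inv, inv_eq_of_mul_eq_one_left (hsq v)]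
  rw [e, ofMul_div]; rfl

theorem card_fx (A : Subgroup X) : Nat.card (fx (Additive V) A) = Nat.card (cv V (A : Set X)) :=
  Nat.card_congr ⟨fun v => ⟨Additive.toMul v.1, v.2⟩, fun v => ⟨Additive.ofMul v.1, v.2⟩, fun _ => rfl, fun _ => rfl⟩

theorem card_inf_fx (A B : Subgroup X) : Nat.card (fx (Additive V) A ⊓ fx (Additive V) B : AddSubgroup (Additive V)) =
    Nat.card (cv V (A : Set X) ⊓ cv V (B : Set X) : Subgroup V) :=
  Nat.card_congr ⟨fun v => ⟨Additive.toMul v.1, v.2⟩, fun v => ⟨Additive.ofMul v.1, v.2⟩, fun _ => rfl, fun _ => rfl⟩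

theorem card_add : Nat.card (Additive V) = Nat.card V := rfl

variable [Finite X] [Finite V]

theorem index_mul (A : Subgroup X) : (cv V (A : Set X)).index * Nat.card (fx (Additive V) A) = Nat.card V := by
  rw [card_fx]; exact (cv V (A : Set X)).index_mul_card

theorem index_eq {A : Subgroup X} (e : mm (Additive V) A = Nat.card (Additive V)) :
    (cv V (A : Set X)).index = Nat.card A := by
  apply Nat.eq_of_mul_eq_mul_right (card_pos (fx (Additive V) A))
  rw [index_mul]; exact e.symm

theorem le_index {A : Subgroup X} (e : mm (Additive V) A ≤ Nat.card (Additive V)) :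
    Nat.card A ≤ (cv V (A : Set X)).index := by
  apply Nat.le_of_mul_le_mul_right _ (card_pos (fx (Additive V) A))
  rw [index_mul]; exact e

theorem le_mm {A : Subgroup X} (e : (cv V (A : Set X)).index ≤ Nat.card A) :
    Nat.card (Additive V) ≤ mm (Additive V) A := by
  rw [card_add, ← index_mul A, mm]
  exact Nat.mul_le_mul_right _ e

section pair

variable {𝒟 : Set (Subgroup X)} {D : Subgroup X} (h : Hyp (Additive V) 𝒟) (c : Cfg 𝒟 D)
  {B C : Subgroup X} (hB : B ∈ AN 𝒟 D) (hC : C ∈ AN 𝒟 D) (hne : pp D C ≠ pp D B)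
include h c hB hC hne

omit c hB hC hne in
theorem sq (v : V) : v * v = 1 := h.h2 (Additive.ofMul v)

theorem spread : Spread B C (cv V (B : Set X) ⊓ cv V (C : Set X)) (cv V (B : Set X)) (cv V (C : Set X)) where
  comm := mul_comm
  sq := sq h
  inf := rfl
  sup v := by
    have hv : Additive.ofMul v ∈ fx (Additive V) B ⊔ fx (Additive V) C := by
      rw [(ToLoc1.card_U h c hB hC hne).2]; trivial
    obtain ⟨a, ha, b, hb, e⟩ := mem_sup hv
    exact ⟨Additive.toMul a, ha, Additive.toMul b, hb, e⟩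
  fix t ht v hv := hv t ht
  fix' t ht v hv := hv t ht
  mem t ht v := by
    intro b hb
    have h1 := h.quad B hB.1 t ht b hb (Additive.ofMul v)
    rw [← d_add (sq h)] at h1
    exact h1
  mem' t ht v := by
    intro b hb
    have h1 := h.quad C hC.1 t ht b hb (Additive.ofMul v)
    rw [← d_add (sq h)] at h1
    exact h1
  card := by
    have e1 := ToLoc1.relIndex_eq h c hB hC hne
    have e2 := Subgroup.relIndex_mul_relIndex (⊥ : Subgroup V) (cv V (B : Set X) ⊓ cv V (C : Set X))
      (cv V (C : Set X)) bot_le inf_le_right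
    rw [Subgroup.relIndex_bot_left, Subgroup.relIndex_bot_left, ← card_fx, ← card_inf_fx, e1] at e2
    apply Nat.eq_of_mul_eq_mul_left (card_pos (fx (Additive V) B ⊓ fx (Additive V) C))
    rw [e2]; ring
  inj t ht v hv hd := by
    refine ToLoc1.inj h c hB hC hne ht (v := Additive.ofMul v) hv ?_
    rw [← d_add (sq h)]
    exact hd
  inj' t ht v hv hd := by
    rcases ToLoc1.inj h c hC hB (Ne.symm hne) ht (v := Additive.ofMul v) hv (by
      rw [← d_add (sq h)]
      exact ⟨hd.2, hd.1⟩) with h1 | h1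
    · exact Or.inl h1
    · exact Or.inr ⟨h1.2, h1.1⟩
  inv t ht ht1 := by
    obtain ⟨s, hs, hS⟩ := ToLoc1.spread h c hC hB (Ne.symm hne) ht ht1
    refine ⟨s, hs, fun v hv => ?_⟩
    have h1 := hS (Additive.ofMul v) hv
    rw [← d_add (sq h), ← d_add (sq h)] at h1
    have h2 : Additive.ofMul (d s (d t v) * v) ∈ fx (Additive V) C ⊓ fx (Additive V) B := by
      convert h1 using 1
      rw [← ofMul_div, div_eq_mul_inv, inv_eq_of_mul_eq_one_left (sq h v)]
    exact ⟨h2.2, h2.1⟩
  inv' s hs hs1 := by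
    obtain ⟨t, ht, hS⟩ := ToLoc1.spread' h c hB hC hne hs hs1
    refine ⟨t, ht, fun v hv => ?_⟩
    have h1 := hS (Additive.ofMul v) hv
    rw [← d_add (sq h), ← d_add (sq h)] at h1
    have h2 : Additive.ofMul (d s (d t v) * v) ∈ fx (Additive V) B ⊓ fx (Additive V) C := by
      convert h1 using 1
      rw [← ofMul_div, div_eq_mul_inv, inv_eq_of_mul_eq_one_left (sq h v)]
    exact h2
  ne := by
    have := h.nb B hB.1
    rw [Ne, Subgroup.eq_bot_iff_forall] at this
    push Not at this
    exact this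
  lt := by
    obtain ⟨v, hv, hv2⟩ := ToLoc1.exists_not_mem h c hB hC hne
    exact ⟨Additive.toMul v, hv, hv2⟩

theorem nat2 : Glob.Nat2 V B C := by
  obtain ⟨F, hF, hFt, hcard, π, φ, hmul, hs, hU, hBv, hCv, hact, hφs, huB, hlC, hu, hl⟩ :=
    (spread h c hB hC hne).exists_SL
  have hinj : Function.Injective φ := by
    rw [injective_iff_map_eq_one]
    intro x hx
    have hx1 : ∀ v : V, d (x : X) v ∈ cv V (B : Set X) ⊓ cv V (C : Set X) := by
      intro v
      rw [← hU, d, hmul, hact, hx]
      rw [Matrix.SpecialLinearGroup.coe_one, Matrix.one_mulVec, ← hmul, sq h]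
      rw [hU]; exact Subgroup.one_mem _
    have h1 : (x : X) = 1 := by
      apply ToLoc1.eq_one_of h c hB hC hne x.2
      intro v
      have h2 := hx1 (Additive.toMul v)
      have h3 : Additive.ofMul (d (x : X) (Additive.toMul v)) ∈ fx (Additive V) B ⊓ fx (Additive V) C := h2
      rw [d_add (sq h)] at h3
      exact h3
    exact Subtype.ext h1
  refine ⟨F, hF, hFt, π, φ, ?_⟩
  refine ⟨hmul, hs, ?_, ?_, ?_, hact, ⟨hinj, hφs⟩, ?_, ?_⟩
  · intro v
    rw [hU]
    have h1 := fx_sup (V := Additive V) B C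
    constructor
    · intro hv x hx
      have h2 : Additive.ofMul v ∈ fx (Additive V) (B ⊔ C) := by rw [h1]; exact hv
      exact h2 x hx
    · intro hv
      have h2 : Additive.ofMul v ∈ fx (Additive V) (B ⊔ C) := hv
      rw [h1] at h2
      exact h2
  · intro v; exact hBv v
  · intro v; exact hCv v
  · intro x
    constructor
    · exact huB x
    · rintro ⟨a, ha⟩
      obtain ⟨y, hy, hy2⟩ := hu a
      rw [hinj (ha.trans hy2.symm)]; exact hy
  · intro x
    constructor
    · exact hlC x
    · rintro ⟨a, ha⟩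
      obtain ⟨y, hy, hy2⟩ := hl a
      rw [hinj (ha.trans hy2.symm)]; exact hy

end pair

/-- the largest proper overgroup -/
theorem pt_eq {𝒟 : Set (Subgroup X)} (h : Hyp (Additive V) 𝒟) {T : Sylow 2 X} {M : Subgroup X}
    (TM : (T : Subgroup X) ≤ M) (Mne : M ≠ ⊤)
    (max : ∀ K : Subgroup X, (T : Subgroup X) ≤ K → K ≤ M ∨ K = ⊤) : pt (T : Subgroup X) = M :=
  le_antisymm ((max _ (h.le_pt T)).resolve_right (h.pt_ne_top T)) (Hyp.le_pt_of TM Mne)

theorem loc_of {𝒟 : Set (Subgroup X)} {D : Subgroup X} (h : Hyp (Additive V) 𝒟) (c : Cfg 𝒟 D)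
    {T : Sylow 2 X} {M : Subgroup X} (TM : (T : Subgroup X) ≤ M) (Mne : M ≠ ⊤)
    (max : ∀ K : Subgroup X, (T : Subgroup X) ≤ K → K ≤ M ∨ K = ⊤) :
    ∃ q, Glob.Loc V T M 𝒟 q D := by
  have hM := pt_eq h TM Mne max
  obtain ⟨A₀, hA₀⟩ := h.ne
  have hpt : ∀ g : X, Glob.cj g M = pt ((g • T : Sylow 2 X) : Subgroup X) := by
    intro g
    rw [coe_smul, h.pt_cj, hM]; rfl
  have hTh : ∀ A, Glob.Th 𝒟 D A ↔ A ∈ AN 𝒟 D := fun A =>
    ⟨fun hA => ⟨hA.mem, hA.norm, hA.nle⟩, fun hA => ⟨hA.1, hA.2.1, hA.2.2⟩⟩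
  have hOpp : ∀ A B, A ∈ AN 𝒟 D → B ∈ AN 𝒟 D → (Glob.Opp M D A B ↔ pp D B ≠ pp D A) := by
    intro A B hA hB
    constructor
    · intro ho e
      obtain ⟨T', hT'⟩ := Min.exists_syl h c hA
      obtain ⟨g, hg⟩ := MulAction.exists_smul_eq X T T'
      have h1 : pp D A = Glob.cj g M := by rw [hpt, hg, Min.pp_eq h c hA hT']
      have h2 := Min.le_pp h c hA
      have h3 := Min.le_pp h c hB
      rw [e] at h3
      rw [h1] at h2 h3
      exact ho g (le_sup_right.trans h2) (le_sup_right.trans h3) (le_sup_left.trans h2)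
    · intro hne g hAg hBg hDg
      rw [hpt] at hAg hBg hDg
      apply hne
      rw [← Min.pt_eq_pp h c hA (sup_le hDg hAg), ← Min.pt_eq_pp h c hB (sup_le hDg hBg)]
  refine ⟨Nat.card A₀, ?_⟩
  exact
  { comm := mul_comm
    sq := sq h
    faith := fun x hx => h.faith x fun v => hx (Additive.toMul v)
    core := h.o2
    TM := TM
    Mne := Mne
    max := max
    nfix := by
      obtain ⟨v, hv, hv2⟩ := h.vec T
      refine ⟨Additive.toMul v, hv, ?_⟩
      by_contra hcon
      push Not at hcon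
      exact hv2 fun x _ => hcon x
    two_le := Pair.two_le h hA₀
    Dcj := h.conj
    card := fun A hA => Pair.card_eq h hA hA₀
    idx := fun A hA => by
      rw [index_eq (Pair.mm_eq h c hA)]; exact Pair.card_eq h hA hA₀
    sqA := fun A hA => h.ea A hA
    ti := fun A hA a ha ha1 v hv => Pair.ti h c hA ha ha1 (v := Additive.ofMul v) hv
    quad := by
      intro A hA a ha a' ha' v
      have h1 := h.quad A hA a ha a' ha' (Additive.ofMul v)
      rw [← d_add (sq h)] at h1
      exact h1
    noover := fun E hE => le_index (Pair.no h c E hE)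
    comm4 := fun A hA B hB P hP hAP hBP => Comm4.comm' h c hA hB hP hAP hBP
    Qgen := by
      intro K hK
      rw [← c.gen]
      exact sSup_le fun A hA => hK A hA.1 hA.2
    Q2 := c.p
    uniq := by
      intro A hA g g' hg hDg hg' hDg'
      rw [hpt] at hg hDg ⊢
      rw [hpt] at hg' hDg' ⊢
      rw [Min.pt_eq_pp h c ((hTh A).1 hA) (sup_le hDg hg), Min.pt_eq_pp h c ((hTh A).1 hA) (sup_le hDg' hg')]
    two := by
      obtain ⟨B, hB, C, hC, hne⟩ := Min.exists_two h c
      exact ⟨B, C, (hTh B).2 hB, (hTh C).2 hC, (hOpp B C hB hC).2 hne⟩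
    pair := by
      intro A B hA hB ho
      rw [hTh] at hA hB
      have hne := (hOpp A B hA hB).1 ho
      refine ⟨nat2 h c hA hB hne, ?_⟩
      intro a ha x hx
      have hP : IsPGroup 2 (D ⊔ A : Subgroup X) := isPGroup_sup c.p (h.ea A hA.1).isPGroup hA.2.1
      let Z : Subgroup X := Subgroup.centralizer {a}
      have hZ : D ≤ Z := by
        rw [← c.gen]
        apply sSup_le
        rintro E ⟨hE, hED⟩
        intro e he
        rw [Subgroup.mem_centralizer_singleton_iff]
        exact (Comm4.comm' h c hA.1 hE hP le_sup_right (hED.trans le_sup_left) a ha e he).symm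
      exact (Subgroup.mem_centralizer_singleton_iff.1 (hZ hx)).symm }

end Cfsg.Agent.Omega.FF.ToLoc
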