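import Cfsg.Agent.Omega.FF.Comm4

/-!
# THEOREM FF: the spread of a pair

`B, C ∈ 𝒜_N` at different points: `B ∩ pp C = 1`, and for `1 ≠ c ∈ C` there is `b ∈ B` with
`[[v, b], c] = v` modulo `C_V(B) ∩ C_V(C)` for `v ∈ C_V(C)`.
-/

set_option autoImplicit false
set_option linter.unusedSectionVars false
set_option linter.unusedVariables false

namespace Cfsg.Agent.Omega.FF.ToLoc1

open Cfsg.Agent.Omega.FF.Basic Cfsg.Agent.Omega.FF.Setup Cfsg.Agent.Omega.FF.Conf
open scoped Pointwise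

variable {X : Type*} [Group X] [Finite X] {V : Type*} [AddCommGroup V] [Finite V] [DistribMulAction X V]
variable {𝒟 : Set (Subgroup X)} {D : Subgroup X} (h : Hyp V 𝒟) (c : Cfg 𝒟 D)
include h c

variable {B C : Subgroup X} (hB : B ∈ AN 𝒟 D) (hC : C ∈ AN 𝒟 D) (hne : pp D C ≠ pp D B)
include hB hC hne

omit hB hC hne in
/-- the intersection does not depend on the pair -/
theorem W_eq (hB : B ∈ AN 𝒟 D) (hC : C ∈ AN 𝒟 D) (hne : pp D C ≠ pp D B)
    {B' C' : Subgroup X} (hB' : B' ∈ AN 𝒟 D) (hC' : C' ∈ AN 𝒟 D) (hne' : pp D C' ≠ pp D B')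
    (h1 : B' ≤ D ⊔ B ⊔ C) (h2 : C' ≤ D ⊔ B ⊔ C) :
    fx V D ⊓ fx V B' ⊓ fx V C' = fx V D ⊓ fx V B ⊓ fx V C := by
  symm
  have hle : fx V D ⊓ fx V B ⊓ fx V C ≤ fx V D ⊓ fx V B' ⊓ fx V C' := by
    rw [← fx_sup, ← fx_sup, ← fx_sup, ← fx_sup]
    apply fx_anti
    exact sup_le (sup_le (le_sup_left.trans le_sup_left) h1) h2
  apply eq_of_card_le hle
  have e1 := (Pair.pair_basic h c hB hC hne).2.1
  have e2 := (Pair.pair_basic h c hB' hC' hne').2.1
  rw [Pair.card_eq h hB'.1 hB.1, e1] at e2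
  have hq : 0 < Nat.card B * Nat.card B := Nat.mul_pos Nat.card_pos Nat.card_pos
  exact (Nat.eq_of_mul_eq_mul_left hq e2).ge

/-- `Y` normalises `D` -/
theorem Y_le : D ⊔ B ⊔ C ≤ Subgroup.normalizer (D : Set X) :=
  sup_le (sup_le Subgroup.le_normalizer hB.2.1) hC.2.1

/-- (reg) -/
theorem reg {b : X} (hb : b ∈ B) (hbC : b ∈ pp D C) : b = 1 := by
  by_contra hb1
  set Y := D ⊔ B ⊔ C with hY
  have hYn : Y ≤ Subgroup.normalizer (D : Set X) := Y_le h c hB hC hne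
  have hDY : D ≤ Y := le_sup_left.trans le_sup_left
  have hBY : B ≤ Y := le_sup_right.trans le_sup_left
  have hCY : C ≤ Y := le_sup_right
  set W : AddSubgroup V := fx V D ⊓ fx V B ⊓ fx V C with hW
  have hWY : ∀ w ∈ W, ∀ y ∈ Y, y • w = w := by
    intro w hw y hy
    have : w ∈ fx V (D ⊔ B ⊔ C) := by rw [fx_sup, fx_sup]; exact hw
    exact this y hy
  set P := Y ⊓ pp D C with hP
  have hDC : D ⊔ C ≤ P := le_inf (sup_le hDY hCY) (Min.le_pp h c hC)
  -- a Sylow 2-subgroup of `P` over `D ⊔ C`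
  have hDC2 : IsPGroup 2 (D ⊔ C : Subgroup X) := isPGroup_sup c.p (h.ea C hC.1).isPGroup hC.2.1
  obtain ⟨S, hS⟩ := (hDC2.comap_subtype (H := D ⊔ C) (K := P) :
    IsPGroup 2 ((D ⊔ C).subgroupOf P)).exists_le_sylow
  have hbP : b ∈ P := ⟨hBY hb, hbC⟩
  have hz : IsPGroup 2 (Subgroup.zpowers b) := by
    apply (h.ea B hB.1).isPGroup.to_le
    exact Subgroup.zpowers_le.2 hb
  obtain ⟨S', hS'⟩ := (hz.comap_subtype (H := Subgroup.zpowers b) (K := P) :
    IsPGroup 2 ((Subgroup.zpowers b).subgroupOf P)).exists_le_sylow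
  obtain ⟨y, hy⟩ := MulAction.exists_smul_eq P S S'
  set R : Subgroup X := (S' : Subgroup P).map P.subtype with hR
  have hR2 : IsPGroup 2 R := S'.isPGroup'.map _
  have hRY : R ≤ Y := by
    rintro _ ⟨r, -, rfl⟩
    exact r.2.1
  have hbR : b ∈ R := ⟨⟨b, hbP⟩, hS' (Subgroup.mem_subgroupOf.2 (Subgroup.mem_zpowers b)), rfl⟩
  have hyY : (y : X) ∈ Y := y.2.1
  have hcjR : cj (y : X) (D ⊔ C) ≤ R := by
    rw [cj_le_iff]
    intro x hx
    have h1 : (⟨x, hDC hx⟩ : P) ∈ (S : Subgroup P) := hS (Subgroup.mem_subgroupOf.2 hx)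
    have h2 : y * ⟨x, hDC hx⟩ * y⁻¹ ∈ (S' : Subgroup P) := by
      rw [← hy]
      exact ⟨⟨x, hDC hx⟩, h1, rfl⟩
    exact ⟨_, h2, rfl⟩
  rw [cj_sup] at hcjR
  set C' := cj (y : X) C with hC'
  have hyn : (y : X) ∈ Subgroup.normalizer (D : Set X) := hYn hyY
  have hC'A : C' ∈ AN 𝒟 D := mem_AN_cj h hC hyn
  have hC'Y : C' ≤ Y := by
    rw [← cj_eq_self_of_mem hyY]; exact cj_mono _ hCY
  have hppC' : pp D C' = pp D C := by
    rw [hC', Min.pp_cj h c hC hyn, cj_eq_self_of_mem y.2.2]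
  have hne' : pp D C' ≠ pp D B := by rw [hppC']; exact hne
  have hWe : fx V D ⊓ fx V B ⊓ fx V C' = W := W_eq h c hB hC hne hB hC'A hne' hBY hC'Y
  -- a fixed vector
  have hD := (Pair.pair_basic h c hB hC hne).2.1
  have hnle : ¬ fx V D ≤ W := by
    intro hle
    have h1 := card_le hle
    rw [hD, ← hW] at h1
    have h2 := Pair.two_le h hB.1
    have h3 := card_pos W
    have h4 : 2 * 2 * Nat.card W ≤ Nat.card B * Nat.card B * Nat.card W :=
      Nat.mul_le_mul_right _ (Nat.mul_le_mul h2 h2)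
    omega
  obtain ⟨v, hv, hvW, hvR⟩ := exists_fixed (V := V) hR2 (H := fx V D) (K := W) h.h2
    (fun t ht w hw => by rw [hWY w hw t (hRY ht)]; exact hw)
    (fun t ht w hw => Pair.fx_inv (hYn (hRY ht)) hw) (inf_le_left.trans inf_le_left) hnle
  apply hvW
  have h1 : v ∈ fx V B := (Pair.pair_basic h c hB hC hne).2.2 b hb hb1 v hv (hvR b hbR)
  have h2 : v ∈ fx V C' := by
    obtain ⟨c', hc', hc'1⟩ : ∃ c' ∈ C', c' ≠ 1 := by
      have := h.nb C' hC'A.1
      rw [Ne, Subgroup.eq_bot_iff_forall] at this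
      push Not at this
      exact this
    apply (Pair.pair_basic h c hC'A hB (Ne.symm hne')).2.2 c' hc' hc'1 v hv
    rw [inf_right_comm, hWe]
    exact hvR c' (hcjR (Subgroup.mem_sup_right hc'))
  rw [← hWe]
  exact ⟨⟨hv, h1⟩, h2⟩

/-- cardinality of the intersection of the centralisers in `V` -/
theorem card_U : Nat.card V = Nat.card B * Nat.card B * Nat.card (fx V B ⊓ fx V C : AddSubgroup V) ∧
    fx V B ⊔ fx V C = ⊤ := by
  obtain ⟨h1, h2, -⟩ := Pair.pair_basic h c hB hC hne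
  have e1 := card_sup_inf (fx V D) (fx V B ⊓ fx V C)
  rw [h1, card_top, ← inf_assoc, h2] at e1
  have hpos := card_pos (fx V D ⊓ fx V B ⊓ fx V C : AddSubgroup V)
  have e2 : Nat.card V = Nat.card B * Nat.card B * Nat.card (fx V B ⊓ fx V C : AddSubgroup V) := by
    apply Nat.eq_of_mul_eq_mul_right hpos
    rw [e1]; ring
  refine ⟨e2, ?_⟩
  apply eq_of_card_le le_top
  rw [card_top]
  have hVB : Nat.card B * Nat.card (fx V B) = Nat.card V := Pair.mm_eq h c hB.1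
  have hVC : Nat.card B * Nat.card (fx V C) = Nat.card V := by
    rw [Pair.card_eq h hB.1 hC.1]; exact Pair.mm_eq h c hC.1
  have e3 := card_sup_inf (fx V B) (fx V C)
  have hU := card_pos (fx V B ⊓ fx V C : AddSubgroup V)
  have hq : 0 < Nat.card B := Nat.card_pos
  apply Nat.le_of_mul_le_mul_right _ (Nat.mul_pos (Nat.mul_pos hq hq) hU)
  apply le_of_eq
  calc Nat.card V * (Nat.card B * Nat.card B * Nat.card (fx V B ⊓ fx V C : AddSubgroup V)) =
        Nat.card V * Nat.card V := by rw [← e2]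
    _ = (Nat.card B * Nat.card B) * (Nat.card (fx V B) * Nat.card (fx V C)) := by
        nth_rewrite 1 [← hVB]; rw [← hVC]; ring
    _ = (Nat.card B * Nat.card B) * (Nat.card (fx V B ⊔ fx V C : AddSubgroup V) *
        Nat.card (fx V B ⊓ fx V C : AddSubgroup V)) := by rw [e3]
    _ = _ := by ring

/-- `b ↦ [x, b]` is surjective modulo `W` -/
theorem exists_comm {x y : V} (hx : x ∈ fx V D ⊓ fx V C) (hxW : x ∉ fx V B) (hy : y ∈ fx V D ⊓ fx V B) :
    ∃ b ∈ B, b • x - x - y ∈ fx V D ⊓ fx V B ⊓ fx V C := by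
  classical
  obtain ⟨_, hHB, _⟩ := Pair.halves h c hB hC hne
  set W : AddSubgroup V := fx V D ⊓ fx V B ⊓ fx V C with hW
  set HB : AddSubgroup V := fx V D ⊓ fx V B with hHBd
  have hWB : W ≤ HB := inf_le_left
  have hmem : ∀ b ∈ B, b • x - x ∈ HB := by
    intro b hb
    exact ⟨(fx V D).sub_mem (Pair.fx_inv (hB.2.1 hb) hx.1) hx.1, fun b' hb' => h.quad B hB.1 b hb b' hb' x⟩
  let f : B → HB ⧸ W.addSubgroupOf HB := fun b => QuotientAddGroup.mk ⟨(b : X) • x - x, hmem b b.2⟩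
  have hinj : Function.Injective f := by
    intro a b hab
    by_contra hn
    apply hxW
    have h1 := QuotientAddGroup.eq.1 hab
    rw [AddSubgroup.mem_addSubgroupOf] at h1
    have h2 : ((a : X) • x - (b : X) • x : V) ∈ W := by
      have h3 := W.neg_mem h1
      convert h3 using 1
      change (a : X) • x - (b : X) • x = -(-((a : X) • x - x) + ((b : X) • x - x))
      abel
    have hne1 : (b : X)⁻¹ * a ≠ 1 := by
      intro e
      apply hn
      rw [inv_mul_eq_one] at e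
      exact Subtype.ext e.symm
    apply (Pair.pair_basic h c hB hC hne).2.2 _ (B.mul_mem (B.inv_mem b.2) a.2) hne1 x hx.1
    have h5 : (b : X)⁻¹ • ((a : X) • x - (b : X) • x) = (a : X) • x - (b : X) • x := h2.1.2 _ (B.inv_mem b.2)
    rw [smul_sub, smul_smul, inv_smul_smul] at h5
    rw [h5]; exact h2
  have hcard : Nat.card B = Nat.card (HB ⧸ W.addSubgroupOf HB) := by
    have e1 := card_mul_relIndex hWB
    rw [hHB] at e1
    have e2 : W.relIndex HB = Nat.card B := by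
      apply Nat.eq_of_mul_eq_mul_left (card_pos W)
      rw [e1]; ring
    rw [← e2]; rfl
  have hsurj : Function.Surjective f := ((Nat.bijective_iff_injective_and_card f).2 ⟨hinj, hcard⟩).2
  obtain ⟨⟨b, hb⟩, e⟩ := hsurj (QuotientAddGroup.mk ⟨y, hy⟩)
  refine ⟨b, hb, ?_⟩
  have h1 := QuotientAddGroup.eq.1 e
  rw [AddSubgroup.mem_addSubgroupOf] at h1
  have h3 := W.neg_mem h1
  convert h3 using 1
  change b • x - x - y = -(-(b • x - x) + y)
  abel

/-- the two twisted members have the same point -/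
theorem point_eq {g b : X} (hg : g ∈ C) (hb : b ∈ B) {y : V} (hy : y ∈ fx V D ⊓ fx V B) (hyC : y ∉ fx V C)
    (hb2 : b • (g • y - y) - (g • y - y) - y ∈ fx V D ⊓ fx V B ⊓ fx V C) :
    pp D (cj b C) = pp D (cj g B) := by
  by_contra hcon
  have hYn : D ⊔ B ⊔ C ≤ Subgroup.normalizer (D : Set X) := Y_le h c hB hC hne
  have hbY : b ∈ D ⊔ B ⊔ C := Subgroup.mem_sup_left (Subgroup.mem_sup_right hb)
  have hgY : g ∈ D ⊔ B ⊔ C := Subgroup.mem_sup_right hg
  have hB' : cj g B ∈ AN 𝒟 D := mem_AN_cj h hB (hYn hgY)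
  have hC' : cj b C ∈ AN 𝒟 D := mem_AN_cj h hC (hYn hbY)
  have hB'Y : cj g B ≤ D ⊔ B ⊔ C := by
    rw [← cj_eq_self_of_mem hgY]; exact cj_mono _ (le_sup_right.trans le_sup_left)
  have hC'Y : cj b C ≤ D ⊔ B ⊔ C := by
    rw [← cj_eq_self_of_mem hbY]; exact cj_mono _ le_sup_right
  have hWe := W_eq h c hB hC hne hB' hC' hcon hB'Y hC'Y
  have hgyD : g • y ∈ fx V D := Pair.fx_inv (hYn hgY) hy.1
  have h1 : g • y ∈ fx V (cj g B) := smul_mem_fx_cj hy.2
  -- `x = [y, g]`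
  set x : V := g • y - y with hx
  have hxC : x ∈ fx V C := fun c' hc' => h.quad C hC.1 g hg c' hc' y
  set w : V := b • x - x - y with hw
  have hbx : b • x = g • y + w := by
    rw [hw, hx]; abel
  have h2 : b • x ∈ fx V (cj b C) := smul_mem_fx_cj hxC
  have hwC' : w ∈ fx V D ⊓ fx V (cj g B) ⊓ fx V (cj b C) := by rw [hWe]; exact hb2
  have h3 : g • y ∈ fx V (cj b C) := by
    have e : g • y = b • x - w := by rw [hbx]; abel
    rw [e]
    exact (fx V (cj b C)).sub_mem h2 hwC'.2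
  have h4 : g • y ∈ fx V D ⊓ fx V B ⊓ fx V C := by
    rw [← hWe]; exact ⟨⟨hgyD, h1⟩, h3⟩
  apply hyC
  have h5 : g⁻¹ • (g • y) = g • y := h4.2 g⁻¹ (C.inv_mem hg)
  rw [inv_smul_smul] at h5
  rw [h5]; exact h4.2

/-- the spread, on `C_V(B)` -/
theorem spread {g : X} (hg : g ∈ C) (hg1 : g ≠ 1) : ∃ b ∈ B, ∀ u ∈ fx V B,
    b • (g • u - u) - (g • u - u) - u ∈ fx V B ⊓ fx V C := by
  have hYn : D ⊔ B ⊔ C ≤ Subgroup.normalizer (D : Set X) := Y_le h c hB hC hne
  obtain ⟨_, hHB, _⟩ := Pair.halves h c hB hC hne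
  have hsymm : fx V D ⊓ fx V C ⊓ fx V B = fx V D ⊓ fx V B ⊓ fx V C := inf_right_comm _ _ _
  have hWU : fx V D ⊓ fx V B ⊓ fx V C ≤ fx V B ⊓ fx V C := inf_le_inf_right _ inf_le_right
  -- for every `y` there is a `b`
  have hex : ∀ y ∈ fx V D ⊓ fx V B, y ∉ fx V C → ∃ b ∈ B,
      b • (g • y - y) - (g • y - y) - y ∈ fx V D ⊓ fx V B ⊓ fx V C := by
    intro y hy hyC
    apply exists_comm h c hB hC hne _ _ hy
    · exact ⟨(fx V D).sub_mem (Pair.fx_inv (hC.2.1 hg) hy.1) hy.1,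
        fun c' hc' => h.quad C hC.1 g hg c' hc' y⟩
    · intro hxB
      apply hyC
      -- `[y, g] ∈ C_V(B)`, so `[y, g] = 0`
      have e := Pair.p3 h c hC hB (Ne.symm hne) hg hxB
      exact Pair.ti h c hC.1 hg hg1 e
  -- a vector `y₀`
  obtain ⟨y₀, hy₀, hy₀C⟩ : ∃ y ∈ fx V D ⊓ fx V B, y ∉ fx V C := by
    by_contra hcon
    push Not at hcon
    have h5 := card_le (le_inf le_rfl hcon : fx V D ⊓ fx V B ≤ fx V D ⊓ fx V B ⊓ fx V C)
    rw [hHB] at h5
    have h6 := Pair.two_le h hB.1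
    have h7 := card_pos (fx V D ⊓ fx V B ⊓ fx V C : AddSubgroup V)
    have h8 : 2 * Nat.card (fx V D ⊓ fx V B ⊓ fx V C : AddSubgroup V) ≤
        Nat.card B * Nat.card (fx V D ⊓ fx V B ⊓ fx V C : AddSubgroup V) := Nat.mul_le_mul_right _ h6
    omega
  obtain ⟨b, hb, hb0⟩ := hex y₀ hy₀ hy₀C
  have hp0 := point_eq h c hB hC hne hg hb hy₀ hy₀C hb0
  -- `b` works for all `y`
  have key : ∀ y ∈ fx V D ⊓ fx V B, b • (g • y - y) - (g • y - y) - y ∈ fx V D ⊓ fx V B ⊓ fx V C := by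
    intro y hy
    by_cases hyC : y ∈ fx V C
    · have e : g • y - y = 0 := by rw [hyC g hg, sub_self]
      rw [e, smul_zero, sub_zero, zero_sub]
      exact AddSubgroup.neg_mem _ ⟨hy, hyC⟩
    · obtain ⟨b', hb', hb1⟩ := hex y hy hyC
      have hp := point_eq h c hB hC hne hg hb' hy hyC hb1
      rw [← hp0, Min.pp_cj h c hC (hB.2.1 hb), Min.pp_cj h c hC (hB.2.1 hb')] at hp
      have h1 : cj (b⁻¹ * b') (pp D C) = pp D C := by
        rw [← cj_cj, hp, cj_inv_cj]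
      have h2 : b⁻¹ * b' ∈ pp D C := Min.mem_pp_of_cj h c hC h1
      have h3 := reg h c hB hC hne (B.mul_mem (B.inv_mem hb) hb') h2
      rw [inv_mul_eq_one] at h3
      rw [h3]; exact hb1
  refine ⟨b, hb, ?_⟩
  intro u hu
  obtain ⟨d, hd, u₀, hu₀B, hu₀C, rfl⟩ := Pair.mem_sup' h c hB hC hne u
  have hdB : d ∈ fx V B := by
    have e : d = (d + u₀) - u₀ := by abel
    rw [e]; exact (fx V B).sub_mem hu hu₀B
  have h1 := key d ⟨hd, hdB⟩
  have e1 : g • (d + u₀) - (d + u₀) = g • d - d := by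
    rw [smul_add, hu₀C g hg]; abel
  rw [e1]
  have e2 : b • (g • d - d) - (g • d - d) - (d + u₀) = (b • (g • d - d) - (g • d - d) - d) - u₀ := by abel
  rw [e2]
  exact AddSubgroup.sub_mem _ (hWU h1) ⟨hu₀B, hu₀C⟩

/-- `[v, b] ∈ U` -/
theorem inj {b : X} (hb : b ∈ B) {v : V} (hv : v ∈ fx V C) (hbv : b • v - v ∈ fx V B ⊓ fx V C) :
    b = 1 ∨ v ∈ fx V B ⊓ fx V C := by
  by_cases hb1 : b = 1
  · exact Or.inl hb1
  right
  exact ⟨Pair.ti h c hB.1 hb hb1 (Pair.p3 h c hB hC hne hb hbv.2), hv⟩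

theorem relIndex_eq : Nat.card (fx V C) = Nat.card B * Nat.card (fx V B ⊓ fx V C : AddSubgroup V) := by
  obtain ⟨e1, -⟩ := card_U h c hB hC hne
  have hVC : Nat.card B * Nat.card (fx V C) = Nat.card V := by
    rw [Pair.card_eq h hB.1 hC.1]; exact Pair.mm_eq h c hC.1
  have hq : 0 < Nat.card B := Nat.card_pos
  apply Nat.eq_of_mul_eq_mul_left hq
  rw [hVC, e1]; ring

theorem exists_not_mem : ∃ v ∈ fx V C, v ∉ fx V B ⊓ fx V C := by
  by_contra hcon
  push Not at hcon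
  have h1 := card_le hcon
  rw [relIndex_eq h c hB hC hne] at h1
  have h6 := Pair.two_le h hB.1
  have h7 := card_pos (fx V B ⊓ fx V C : AddSubgroup V)
  have h8 : 2 * Nat.card (fx V B ⊓ fx V C : AddSubgroup V) ≤
      Nat.card B * Nat.card (fx V B ⊓ fx V C : AddSubgroup V) := Nat.mul_le_mul_right _ h6
  omega

/-- the spread, on `C_V(C)` -/
theorem spread' {g : X} (hg : g ∈ C) (hg1 : g ≠ 1) : ∃ b ∈ B, ∀ v ∈ fx V C,
    g • (b • v - v) - (b • v - v) - v ∈ fx V B ⊓ fx V C := by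
  obtain ⟨b, hb, hs⟩ := spread h c hB hC hne hg hg1
  have hsymm : fx V C ⊓ fx V B = fx V B ⊓ fx V C := inf_comm _ _
  have hb1 : b ≠ 1 := by
    rintro rfl
    obtain ⟨u, hu, hu2⟩ := exists_not_mem h c hC hB (Ne.symm hne)
    apply hu2
    have h1 := hs u hu
    rw [one_smul, sub_self, zero_sub, AddSubgroup.neg_mem_iff] at h1
    rw [hsymm]; exact h1
  refine ⟨b, hb, fun v hv => ?_⟩
  have hu : b • v - v ∈ fx V B := fun b' hb' => h.quad B hB.1 b hb b' hb' v
  have h1 := hs _ hu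
  have hxC : g • (b • v - v) - (b • v - v) ∈ fx V C := fun c' hc' => h.quad C hC.1 g hg c' hc' _
  have h2 : b • (g • (b • v - v) - (b • v - v) - v) - (g • (b • v - v) - (b • v - v) - v) ∈
      fx V B ⊓ fx V C := by
    convert h1 using 1
    generalize g • (b • v - v) - (b • v - v) = x
    rw [smul_sub]; abel
  exact (inj h c hB hC hne hb ((fx V C).sub_mem hxC hv) h2).resolve_left hb1

/-- an element trivial on `V / U` normalises `B` -/
theorem cj_eq_of {k : X} (hk : ∀ v : V, k • v - v ∈ fx V B ⊓ fx V C) : cj k B = B := by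
  symm
  apply Pair.ax h c hB.1 (h.conj B hB.1 k)
  apply eq_of_card_le _ (card_fx_cj k B).le
  intro v hv
  rw [mem_fx_cj]
  have h1 := hk (k⁻¹ • v)
  rw [smul_inv_smul] at h1
  have e : k⁻¹ • v = v - (v - k⁻¹ • v) := by abel
  rw [e]
  exact (fx V B).sub_mem hv h1.1

/-- an element trivial on `V / U` centralises `B` -/
theorem comm_of {k : X} (hk : ∀ v : V, k • v - v ∈ fx V B ⊓ fx V C) : ∀ b ∈ B, k * b = b * k := by
  intro b hb
  have hcj := cj_eq_of h c hB hC hne hk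
  have hz : k * b * k⁻¹ * b⁻¹ ∈ B := by
    apply B.mul_mem _ (B.inv_mem hb)
    have h1 := mem_cj_of (g := k) hb
    rw [hcj] at h1; exact h1
  have hk' : ∀ v : V, k⁻¹ • v - v ∈ fx V B ⊓ fx V C := by
    intro v
    have h1 := hk (k⁻¹ • v)
    rw [smul_inv_smul] at h1
    have h2 := AddSubgroup.neg_mem _ h1
    convert h2 using 1; abel
  have hzU : ∀ v : V, (k * b * k⁻¹ * b⁻¹) • v - v ∈ fx V B ⊓ fx V C := by
    intro v
    have h1 : b • (k⁻¹ • (b⁻¹ • v)) - v ∈ fx V B ⊓ fx V C := by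
      have h2 := hk' (b⁻¹ • v)
      have h3 : b • (k⁻¹ • (b⁻¹ • v) - b⁻¹ • v) = k⁻¹ • (b⁻¹ • v) - b⁻¹ • v := h2.1 b hb
      rw [smul_sub, smul_inv_smul] at h3
      rw [h3]; exact h2
    have h2 := hk (b • (k⁻¹ • (b⁻¹ • v)))
    have h3 := AddSubgroup.add_mem _ h2 h1
    convert h3 using 1
    rw [mul_smul, mul_smul, mul_smul]; abel
  have h1 : k * b * k⁻¹ * b⁻¹ = 1 := by
    apply h.faith
    intro v
    exact Pair.p3 h c hB hC hne hz (hzU v).2
  have h2 : k * b = (k * b * k⁻¹ * b⁻¹) * (b * k) := by group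
  rw [h2, h1, one_mul]

/-- an element of `⟨B, C⟩` trivial on `V / U` is trivial -/
theorem eq_one_of {k : X} (hkL : k ∈ B ⊔ C) (hk : ∀ v : V, k • v - v ∈ fx V B ⊓ fx V C) : k = 1 := by
  have hsymm : fx V C ⊓ fx V B = fx V B ⊓ fx V C := inf_comm _ _
  have hkB := comm_of h c hB hC hne hk
  have hkC := comm_of h c hC hB (Ne.symm hne) (by rw [hsymm]; exact hk)
  have hkU : ∀ u ∈ fx V B ⊓ fx V C, k • u = u := by
    intro u hu
    have : u ∈ fx V (B ⊔ C) := by rw [fx_sup]; exact hu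
    exact this k hkL
  -- `k` fixes `[V, B]` and `[V, C]`
  have key : ∀ F : Subgroup X, (∀ b ∈ F, k * b = b * k) → (∀ v : V, k • v - v ∈ fx V F) →
      ∀ b ∈ F, ∀ v : V, k • (b • v - v) = b • v - v := by
    intro F hF hv b hb v
    have h1 := hv v b hb
    rw [smul_sub, smul_smul, ← hF b hb, mul_smul] at h1
    rw [smul_sub]
    have h2 : k • b • v = k • v - v + b • v := by rw [← h1]; abel
    rw [h2]; abel
  have keyB := key B hkB fun v => (hk v).1
  have keyC := key C hkC fun v => (hk v).2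
  have fixB : ∀ u ∈ fx V B, k • u = u := by
    intro u hu
    obtain ⟨g, hg, hg1⟩ : ∃ g ∈ C, g ≠ 1 := by
      have := h.nb C hC.1
      rw [Ne, Subgroup.eq_bot_iff_forall] at this
      push Not at this
      exact this
    obtain ⟨b, hb, hs⟩ := spread h c hB hC hne hg hg1
    have h1 := hkU _ (hs u hu)
    have h2 := keyB b hb (g • u - u)
    rw [smul_sub, h2] at h1
    exact sub_right_injective h1
  have fixC : ∀ u ∈ fx V C, k • u = u := by
    intro u hu
    obtain ⟨g, hg, hg1⟩ : ∃ g ∈ B, g ≠ 1 := by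
      have := h.nb B hB.1
      rw [Ne, Subgroup.eq_bot_iff_forall] at this
      push Not at this
      exact this
    obtain ⟨b, hb, hs⟩ := spread h c hC hB (Ne.symm hne) hg hg1
    have h1 := hs u hu
    rw [hsymm] at h1
    have h1 := hkU _ h1
    have h2 := keyC b hb (g • u - u)
    rw [smul_sub, h2] at h1
    exact sub_right_injective h1
  apply h.faith
  intro v
  have hv : v ∈ fx V B ⊔ fx V C := by rw [(card_U h c hB hC hne).2]; trivial
  obtain ⟨a, ha, b, hb, rfl⟩ := mem_sup hv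
  rw [smul_add, fixB a ha, fixC b hb]

end Cfsg.Agent.Omega.FF.ToLoc1
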