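import Cfsg.Agent.Omega.FF.TvMem
import Cfsg.Agent.MinSimple.MinParabolic

/-!
# The transvection half of the FF-theorem for minimal parabolics: reduction to the faithful case

helper670, OMEGA / FF.

`RHyp ρ₀ S M`: `ρ₀` is a representation of `X` over `𝔽₂`, `S` a Sylow 2-subgroup of `X` in a unique
maximal subgroup `M`, `O_2(X) ≤ ker ρ₀` and `(ker ρ₀) S ≠ X`.  Then the image of `ρ₀` satisfies
`Pre` as soon as some `t` acts as a transvection.
-/

set_option autoImplicit false
set_option linter.unusedSectionVars false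

namespace Cfsg.Agent.Omega.Tv

open Subgroup Cfsg Cfsg.Agent.MinSimple.MinParabolic

variable {X : Type*} [Group X] {W : Type*} [AddCommGroup W] [Module (ZMod 2) W]

/-- The hypothesis for a representation which is not faithful. -/
structure RHyp (ρ0 : X →* (W ≃ₗ[ZMod 2] W)) (S : Sylow 2 X) (M : Subgroup X) : Prop where
  min : IsMin (S : Subgroup X) M
  ker : pCore 2 X ≤ ρ0.ker
  ne : ρ0.ker ⊔ (S : Subgroup X) ≠ ⊤

namespace RHyp

variable {ρ0 : X →* (W ≃ₗ[ZMod 2] W)} {S : Sylow 2 X} {M : Subgroup X}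

instance finite_range [Finite X] : Finite ρ0.range :=
  Finite.of_surjective _ ρ0.rangeRestrict_surjective

/-- the faithful representation of the image -/
abbrev rg (ρ0 : X →* (W ≃ₗ[ZMod 2] W)) : ρ0.range →* (W ≃ₗ[ZMod 2] W) := ρ0.range.subtype

/-- the Sylow subgroup of the image -/
def Sb [Finite X] (ρ0 : X →* (W ≃ₗ[ZMod 2] W)) (S : Sylow 2 X) : Sylow 2 ρ0.range :=
  S.mapSurjective ρ0.rangeRestrict_surjective

/-- the maximal subgroup of the image -/
def Mb (ρ0 : X →* (W ≃ₗ[ZMod 2] W)) (M : Subgroup X) : Subgroup ρ0.range :=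
  M.map ρ0.rangeRestrict

variable [Finite X] (h : RHyp ρ0 S M)

include h

theorem S_ne : (S : Subgroup X) ≠ ⊤ := by
  intro h1
  apply h.ne
  rw [h1, sup_top_eq]

theorem SM : (S : Subgroup X) ≤ M := h.min.le_of _ le_rfl h.S_ne

theorem kerM : ρ0.ker ≤ M := le_sup_left.trans (h.min.le_of _ le_sup_right h.ne)

theorem comap_Mb : (Mb ρ0 M).comap ρ0.rangeRestrict = M := by
  unfold Mb
  rw [Subgroup.comap_map_eq, MonoidHom.ker_rangeRestrict]
  exact sup_eq_left.mpr h.kerM

omit h in
theorem mem_Sb {x : X} (hx : x ∈ S) : ρ0.rangeRestrict x ∈ Sb ρ0 S := ⟨x, hx, rfl⟩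

theorem pCore_bot : pCore 2 ρ0.range = ⊥ := by
  set R := pCore 2 ρ0.range with hR
  have hRn : R.Normal := Lib.Cores.pCore_normal 2
  set N := R.comap ρ0.rangeRestrict with hN
  have hNn : N.Normal := hRn.comap _
  have hRS : R ≤ (Sb ρ0 S : Subgroup ρ0.range) := Lib.Cores.pCore_le_sylow _
  have h1 : N ⊔ (S : Subgroup X) ≠ ⊤ := by
    intro htop
    apply h.ne
    rw [← top_le_iff, ← htop]
    refine sup_le ?_ le_sup_right
    intro x hx
    obtain ⟨s, hs, hsx⟩ := hRS hx
    have h2 : x * s⁻¹ ∈ ρ0.ker := by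
      rw [MonoidHom.mem_ker, map_mul, map_inv]
      have h3 : ρ0 s = ρ0 x := congrArg Subtype.val hsx
      rw [h3, mul_inv_cancel]
    have h4 : x = (x * s⁻¹) * s := by group
    rw [h4]
    exact mul_mem ((le_sup_left : ρ0.ker ≤ _) h2) ((le_sup_right : (S : Subgroup X) ≤ _) hs)
  have h2 : (S : Subgroup X) ⊓ N ≤ pCore 2 X := (sup_eq_top_or_inf_le h.min N).resolve_left h1
  rw [eq_bot_iff]
  intro y hy
  obtain ⟨s, hs, rfl⟩ := hRS hy
  have h3 : s ∈ ρ0.ker := h.ker (h2 ⟨hs, hy⟩)
  rw [mem_bot]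
  exact Subtype.ext h3

theorem Mb_ne : Mb ρ0 M ≠ ⊤ := by
  intro h1
  apply h.min.ne_top
  rw [← h.comap_Mb, h1, comap_top]

theorem uniq_b (K : Subgroup ρ0.range) (hK : (Sb ρ0 S : Subgroup ρ0.range) ≤ K) (hne : K ≠ ⊤) :
    K ≤ Mb ρ0 M := by
  have h1 : (S : Subgroup X) ≤ K.comap ρ0.rangeRestrict := fun x hx => hK (mem_Sb hx)
  have h2 : K.comap ρ0.rangeRestrict ≠ ⊤ := by
    intro h3
    apply hne
    rw [← Subgroup.map_comap_eq_self_of_surjective ρ0.rangeRestrict_surjective K, h3,
      Subgroup.map_top_of_surjective _ ρ0.rangeRestrict_surjective]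
  have h3 := h.min.le_of _ h1 h2
  have h4 := Subgroup.map_mono (f := ρ0.rangeRestrict) h3
  rwa [Subgroup.map_comap_eq_self_of_surjective ρ0.rangeRestrict_surjective] at h4

theorem exists_pre {t : X} {c0 : W} {f0 : W →ₗ[ZMod 2] ZMod 2} (ht : IsTr ρ0 t c0 f0) :
    ∃ (E : Set ρ0.range) (c : ρ0.range → W) (f : ρ0.range → W →ₗ[ZMod 2] ZMod 2),
      Pre (rg ρ0) E c f (Sb ρ0 S) (Mb ρ0 M) ∧ ρ0.rangeRestrict t ∈ E := by
  classical
  set tb := ρ0.rangeRestrict t with htb
  have htb1 : IsTr (rg ρ0) tb c0 f0 := ⟨ht.fc, ht.c_ne, ht.f_ne, ht.act⟩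
  let E : Set ρ0.range := {g | ∃ x, g = x * tb * x⁻¹}
  have hex : ∀ g : ρ0.range, ∃ p : W × (W →ₗ[ZMod 2] ZMod 2), g ∈ E →
      IsTr (rg ρ0) g p.1 p.2 := by
    intro g
    by_cases hg : g ∈ E
    · obtain ⟨x, rfl⟩ := hg
      exact ⟨(_, _), fun _ => htb1.conj x⟩
    · exact ⟨(0, 0), fun h1 => absurd h1 hg⟩
  choose p hp using hex
  refine ⟨E, fun g => (p g).1, fun g => (p g).2, ?_, ⟨1, by simp⟩⟩
  exact
    { tr := fun x hx => hp x hx
      conj := by
        rintro _ ⟨x, rfl⟩ g
        exact ⟨g * x, by group⟩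
      tra := by
        rintro _ ⟨x, rfl⟩ _ ⟨y, rfl⟩
        exact ⟨y * x⁻¹, by group⟩
      ne := ⟨tb, 1, by simp⟩
      inj := ρ0.range.subtype_injective
      TM := by
        rintro _ ⟨x, hx, rfl⟩
        exact ⟨x, h.SM hx, rfl⟩
      M_ne := h.Mb_ne
      uniq := h.uniq_b
      o2 := h.pCore_bot }

end RHyp

/-! ### An elementary abelian 2-subgroup as a module -/

section VA

variable {G : Type*} [Group G]

/-- The elementary abelian 2-subgroup `V`, written additively. -/
def VA (V : Subgroup G) (_ : IsElementaryAbelian 2 V) : Type _ := Additive V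

variable {V : Subgroup G} {hV : IsElementaryAbelian 2 V}

noncomputable instance : AddCommGroup (VA V hV) :=
  { (inferInstance : AddGroup (Additive V)) with
    add_comm := fun a b => by
      have := hV.1
      exact (mul_comm' (a.toMul : V) (b.toMul : V) : _) }

theorem VA.two (v : VA V hV) : 2 • v = 0 := by
  rw [two_nsmul]
  have h1 : (Additive.toMul (v : Additive V)) * (Additive.toMul (v : Additive V)) = (1 : V) :=
    Subtype.ext (by
      show ((Additive.toMul (v : Additive V) : V) : G) * ((Additive.toMul (v : Additive V) : V) : G) = 1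
      rw [← pow_two]
      exact hV.2 _ (Additive.toMul (v : Additive V)).2)
  exact h1

noncomputable instance : Module (ZMod 2) (VA V hV) :=
  AddCommGroup.zmodModule (n := 2) VA.two

instance [Finite G] : Finite (VA V hV) := (inferInstance : Finite V)

/-- the element of `G` -/
def VA.val (v : VA V hV) : G := ((Additive.toMul (v : Additive V) : V) : G)

/-- an element of `V` -/
def VA.mk (hV : IsElementaryAbelian 2 V) (v : G) (h : v ∈ V) : VA V hV :=
  Additive.ofMul (⟨v, h⟩ : V)

theorem VA.val_mem (v : VA V hV) : v.val ∈ V := (Additive.toMul (v : Additive V)).2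

theorem VA.val_mk {v : G} (h : v ∈ V) : (VA.mk hV v h).val = v := rfl

theorem VA.mk_val (v : VA V hV) : VA.mk hV v.val v.val_mem = v := rfl

theorem VA.ext {v w : VA V hV} (h : v.val = w.val) : v = w := Subtype.ext h

theorem VA.val_add (v w : VA V hV) : (v + w).val = v.val * w.val := rfl

theorem VA.val_zero : (0 : VA V hV).val = 1 := rfl

theorem VA.mk_mul {v w : G} (hv : v ∈ V) (hw : w ∈ V) :
    VA.mk hV (v * w) (mul_mem hv hw) = VA.mk hV v hv + VA.mk hV w hw := rfl

variable {H : Subgroup G} (hn : ∀ h ∈ H, ∀ v ∈ V, h * v * h⁻¹ ∈ V)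

/-- the action of `H` on `V` -/
noncomputable def endV (hV : IsElementaryAbelian 2 V) (hn : ∀ h ∈ H, ∀ v ∈ V, h * v * h⁻¹ ∈ V) :
    H →* Module.End (ZMod 2) (VA V hV) where
  toFun h := AddMonoidHom.toZModLinearMap 2
    { toFun := fun v => VA.mk hV ((h : G) * v.val * (h : G)⁻¹) (hn h h.2 _ v.val_mem)
      map_zero' := VA.ext (by
        show (h : G) * 1 * (h : G)⁻¹ = 1
        simp)
      map_add' := fun v w => VA.ext (by
        show (h : G) * (v.val * w.val) * (h : G)⁻¹ =
          ((h : G) * v.val * (h : G)⁻¹) * ((h : G) * w.val * (h : G)⁻¹)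
        group) }
  map_one' := by
    ext v
    apply VA.ext
    show (1 : G) * v.val * (1 : G)⁻¹ = v.val
    simp
  map_mul' g h := by
    ext v
    apply VA.ext
    show ((g : G) * h) * v.val * ((g : G) * h)⁻¹ = g * (h * v.val * (h : G)⁻¹) * (g : G)⁻¹
    group

/-- the action of `H` on `V` -/
noncomputable def rhoV (hV : IsElementaryAbelian 2 V)
    (hn : ∀ h ∈ H, ∀ v ∈ V, h * v * h⁻¹ ∈ V) : H →* (VA V hV ≃ₗ[ZMod 2] VA V hV) :=
  mkRho (endV hV hn)

theorem val_rhoV (h : H) (v : VA V hV) : (rhoV hV hn h v).val = h * v.val * (h : G)⁻¹ := rfl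

theorem rhoV_mk {h : G} (hh : h ∈ H) {v : G} (hv : v ∈ V) :
    rhoV hV hn ⟨h, hh⟩ (VA.mk hV v hv) = VA.mk hV (h * v * h⁻¹) (hn h hh v hv) := rfl

theorem mem_ker_rhoV (h : H) : h ∈ (rhoV hV hn).ker ↔ (h : G) ∈ centralizer (V : Set G) := by
  rw [MonoidHom.mem_ker, mem_centralizer_iff]
  constructor
  · intro h1 v hv
    have h2 : rhoV hV hn h (VA.mk hV v hv) = VA.mk hV v hv := by rw [h1]; rfl
    have h3 : (h : G) * v * (h : G)⁻¹ = v := congrArg VA.val h2
    exact (mul_inv_eq_iff_eq_mul.mp h3).symm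
  · intro h1
    ext v
    apply VA.ext
    rw [val_rhoV]
    show (h : G) * v.val * (h : G)⁻¹ = v.val
    rw [mul_inv_eq_iff_eq_mul]
    exact (h1 _ v.val_mem).symm

end VA

/-- An element with `|W : C_W(t)| = 2` acts as a transvection. -/
theorem isTr_of_card [Finite W] {ρ0 : X →* (W ≃ₗ[ZMod 2] W)} {t : X}
    (h : Nat.card W = 2 * Nat.card {v : W // ρ0 t v = v}) :
    ∃ (c : W) (f : W →ₗ[ZMod 2] ZMod 2), IsTr ρ0 t c f := by
  classical
  let φ : W →+ W := (AddMonoidHomClass.toAddMonoidHom (ρ0 t) : W →+ W) + AddMonoidHom.id W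
  have hφ : ∀ v, φ v = ρ0 t v + v := fun v => rfl
  have hker : Nat.card φ.ker = Nat.card {v : W // ρ0 t v = v} := by
    refine Nat.card_congr (Equiv.subtypeEquivRight fun v => ?_)
    rw [AddMonoidHom.mem_ker, hφ]
    exact ⟨fun h1 => v_eq_of_add h1, fun h1 => by rw [h1, v_add_self]⟩
  have hr : Nat.card φ.range = 2 := by
    have h1 := card_hom φ
    rw [h, hker] at h1
    have h2 : 0 < Nat.card {v : W // ρ0 t v = v} := by
      have : Nonempty {v : W // ρ0 t v = v} := ⟨⟨0, map_zero _⟩⟩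
      exact Nat.card_pos
    exact (Nat.eq_of_mul_eq_mul_right h2 h1).symm
  -- the nonzero element
  obtain ⟨c, hc0⟩ : ∃ c : φ.range, c ≠ 0 := by
    by_contra hcon
    push Not at hcon
    have : Subsingleton φ.range := ⟨fun a b => by rw [hcon a, hcon b]⟩
    rw [Nat.card_unique] at hr
    omega
  have hall : ∀ v, φ v = 0 ∨ φ v = c := by
    intro v
    by_contra hcon
    push Not at hcon
    let F : Fin 3 → φ.range := ![0, c, ⟨φ v, v, rfl⟩]
    have hF : Function.Injective F := by
      intro a b hab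
      fin_cases a <;> fin_cases b
      · rfl
      · exact absurd hab.symm hc0
      · exact absurd (congrArg Subtype.val hab).symm hcon.1
      · exact absurd hab hc0
      · rfl
      · exact absurd (congrArg Subtype.val hab).symm hcon.2
      · exact absurd (congrArg Subtype.val hab) hcon.1
      · exact absurd (congrArg Subtype.val hab) hcon.2
      · rfl
    have := Nat.card_le_card_of_injective F hF
    rw [hr, Nat.card_eq_fintype_card, Fintype.card_fin] at this
    omega
  have hc0' : (c : W) ≠ 0 := fun h1 => hc0 (Subtype.ext h1)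
  have hfix : ρ0 t c = c := by
    have h1 := hall c
    rw [hφ] at h1
    rcases h1 with h1 | h1
    · exact v_eq_of_add h1
    · exfalso
      have h2 : ρ0 t c = 0 := by
        have : ρ0 t (c : W) + c + c = (c : W) + c := by rw [h1]
        rwa [add_assoc, v_add_self, add_zero] at this
      exact hc0' ((ρ0 t).map_eq_zero_iff.mp h2)
  let g : W → ZMod 2 := fun v => if φ v = 0 then 0 else 1
  have hg : ∀ v, φ v = g v • (c : W) := by
    intro v
    rcases hall v with h1 | h1
    · have : g v = 0 := if_pos h1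
      rw [this, zero_smul, h1]
    · have : g v = 1 := if_neg (by rw [h1]; exact hc0')
      rw [this, one_smul, h1]
  have hinj : ∀ a b : ZMod 2, a • (c : W) = b • (c : W) → a = b := by
    intro a b hab
    rcases z2 a with h1 | h1 <;> rcases z2 b with h2 | h2
    · rw [h1, h2]
    · rw [h1, h2, zero_smul, one_smul] at hab; exact absurd hab.symm hc0'
    · rw [h1, h2, zero_smul, one_smul] at hab; exact absurd hab hc0'
    · rw [h1, h2]
  let ga : W →+ ZMod 2 :=
    { toFun := g
      map_zero' := if_pos (map_zero φ)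
      map_add' := fun v w => hinj _ _ (by rw [← hg, map_add, hg, hg, add_smul]) }
  refine ⟨c, AddMonoidHom.toZModLinearMap 2 ga, ?_, hc0', ?_, ?_⟩
  · show g c = 0
    apply hinj
    rw [← hg, hφ, hfix, v_add_self, zero_smul]
  · intro h1
    obtain ⟨v, hv⟩ := c.2
    have h2 : g v = 0 := by
      have : AddMonoidHom.toZModLinearMap 2 ga v = 0 := by rw [h1]; rfl
      exact this
    have h3 := hg v
    rw [h2, zero_smul, hv] at h3
    exact hc0' h3
  · intro v
    show ρ0 t v = v + g v • (c : W)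
    rw [← hg, hφ, add_comm (ρ0 t v), ← add_assoc, v_add_self, zero_add]

end Cfsg.Agent.Omega.Tv
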