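import Mathlib

/-!
# The transvection half of the FF-theorem for minimal parabolics: transvections over `𝔽₂`

helper670, OMEGA / FF, paper text bb #11436.
Elementary calculus of transvections over `𝔽₂` in a group `H` acting by `ρ` on a module `V`.
-/

namespace Cfsg.Agent.Omega.Tv

variable {H : Type*} [Group H] {V : Type*} [AddCommGroup V] [Module (ZMod 2) V]
  {ρ : H →* (V ≃ₗ[ZMod 2] V)}

theorem z2 (a : ZMod 2) : a = 0 ∨ a = 1 := by revert a; decide

theorem z2_ne_zero {a : ZMod 2} (h : a ≠ 0) : a = 1 := (z2 a).resolve_left h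

theorem z2_ne_one {a : ZMod 2} (h : a ≠ 1) : a = 0 := (z2 a).resolve_right h

theorem z2_add_self (a : ZMod 2) : a + a = 0 := by revert a; decide

theorem v_add_self (v : V) : v + v = 0 := ZModModule.add_self v

theorem v_eq_of_add {v w : V} (h : v + w = 0) : v = w := by
  have := congrArg (· + w) h
  simpa [add_assoc, v_add_self] using this

theorem rmul (ρ : H →* (V ≃ₗ[ZMod 2] V)) (g h : H) (v : V) : ρ (g * h) v = ρ g (ρ h v) := by
  rw [map_mul]; rfl

theorem rone (ρ : H →* (V ≃ₗ[ZMod 2] V)) (v : V) : ρ 1 v = v := by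
  rw [map_one]; rfl

theorem rinv (ρ : H →* (V ≃ₗ[ZMod 2] V)) (g : H) (v : V) : ρ g⁻¹ (ρ g v) = v := by
  rw [← rmul, inv_mul_cancel, rone]

theorem rinv' (ρ : H →* (V ≃ₗ[ZMod 2] V)) (g : H) (v : V) : ρ g (ρ g⁻¹ v) = v := by
  rw [← rmul, mul_inv_cancel, rone]

/-- The stabiliser of a vector. -/
def stv (ρ : H →* (V ≃ₗ[ZMod 2] V)) (v : V) : Subgroup H where
  carrier := {g | ρ g v = v}
  one_mem' := rone ρ v
  mul_mem' := by
    intro a b ha hb
    show ρ (a * b) v = v
    rw [rmul, show ρ b v = v from hb]; exact ha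
  inv_mem' := by
    intro a ha
    show ρ a⁻¹ v = v
    conv_lhs => rw [← show ρ a v = v from ha]
    exact rinv ρ a v

/-- The stabiliser of a functional. -/
def stf (ρ : H →* (V ≃ₗ[ZMod 2] V)) (s : V → ZMod 2) : Subgroup H where
  carrier := {g | ∀ v, s (ρ g v) = s v}
  one_mem' := fun v => by rw [rone]
  mul_mem' := by
    intro a b ha hb v
    rw [rmul, ha, hb]
  inv_mem' := by
    intro a ha v
    rw [← ha (ρ a⁻¹ v), rinv']

/-- `g` acts as the transvection `v ↦ v + f v • c`. -/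
structure IsTr (ρ : H →* (V ≃ₗ[ZMod 2] V)) (g : H) (c : V) (f : V →ₗ[ZMod 2] ZMod 2) :
    Prop where
  fc : f c = 0
  c_ne : c ≠ 0
  f_ne : f ≠ 0
  act : ∀ v, ρ g v = v + f v • c

namespace IsTr

variable {g : H} {c c' : V} {f f' : V →ₗ[ZMod 2] ZMod 2}

theorem exists_one (h : IsTr ρ g c f) : ∃ v, f v = 1 := by
  by_contra hcon
  push Not at hcon
  exact h.f_ne (LinearMap.ext fun v => by simpa using z2_ne_one (hcon v))

theorem c_unique (h : IsTr ρ g c f) (h' : IsTr ρ g c' f') : c = c' := by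
  obtain ⟨v, hv⟩ := h.exists_one
  have h1 := h.act v
  rw [h'.act v, hv, one_smul] at h1
  have h2 : f' v • c' = c := add_left_cancel h1
  rcases z2 (f' v) with h3 | h3
  · rw [h3, zero_smul] at h2
    exact absurd h2.symm h.c_ne
  · rw [h3, one_smul] at h2
    exact h2.symm

theorem f_unique (h : IsTr ρ g c f) (h' : IsTr ρ g c' f') : f = f' := by
  have hc := h.c_unique h'
  subst hc
  refine LinearMap.ext fun v => ?_
  have h1 := h.act v
  rw [h'.act v] at h1
  have h2 : f' v • c = f v • c := add_left_cancel h1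
  rcases z2 (f' v) with h3 | h3 <;> rcases z2 (f v) with h4 | h4
  · rw [h3, h4]
  · rw [h3, h4, zero_smul, one_smul] at h2
    exact absurd h2.symm h.c_ne
  · rw [h3, h4, zero_smul, one_smul] at h2
    exact absurd h2 h.c_ne
  · rw [h3, h4]

theorem conj (h : IsTr ρ g c f) (y : H) :
    IsTr ρ (y * g * y⁻¹) (ρ y c) (f.comp (ρ y⁻¹ : V →ₗ[ZMod 2] V)) where
  fc := by
    show f (ρ y⁻¹ (ρ y c)) = 0
    rw [rinv, h.fc]
  c_ne := by
    intro h0
    apply h.c_ne
    rw [← rinv ρ y c, h0, map_zero]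
  f_ne := by
    intro h0
    obtain ⟨v, hv⟩ := h.exists_one
    have h1 : f (ρ y⁻¹ (ρ y v)) = 0 := by
      have := congrArg (fun F : V →ₗ[ZMod 2] ZMod 2 => F (ρ y v)) h0
      exact this
    rw [rinv, hv] at h1
    exact one_ne_zero h1
  act := by
    intro v
    rw [rmul, rmul, h.act, map_add, rinv', map_smul]
    rfl

end IsTr

/-- An `H`-class `E` of transvections `x : v ↦ v + f x v • c x` of a faithful `𝔽₂H`-module. -/
structure Sys (ρ : H →* (V ≃ₗ[ZMod 2] V)) (E : Set H) (c : H → V)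
    (f : H → V →ₗ[ZMod 2] ZMod 2) : Prop where
  tr : ∀ x ∈ E, IsTr ρ x (c x) (f x)
  conj : ∀ x ∈ E, ∀ g : H, g * x * g⁻¹ ∈ E
  tra : ∀ x ∈ E, ∀ y ∈ E, ∃ g, y = g * x * g⁻¹
  ne : E.Nonempty
  inj : Function.Injective ρ

namespace Sys

variable {E : Set H} {c : H → V} {f : H → V →ₗ[ZMod 2] ZMod 2} (S : Sys ρ E c f)

include S

theorem act {x : H} (hx : x ∈ E) (v : V) : ρ x v = v + f x v • c x := (S.tr x hx).act v

theorem pself {x : H} (hx : x ∈ E) : f x (c x) = 0 := (S.tr x hx).fc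

theorem c_conj {x : H} (hx : x ∈ E) (g : H) : c (g * x * g⁻¹) = ρ g (c x) :=
  (S.tr _ (S.conj x hx g)).c_unique ((S.tr x hx).conj g)

theorem f_conj {x : H} (hx : x ∈ E) (g : H) (v : V) :
    f (g * x * g⁻¹) v = f x (ρ g⁻¹ v) := by
  rw [(S.tr _ (S.conj x hx g)).f_unique ((S.tr x hx).conj g)]
  rfl

theorem p_conj {x y : H} (hx : x ∈ E) (hy : y ∈ E) (g : H) :
    f (g * x * g⁻¹) (c (g * y * g⁻¹)) = f x (c y) := by
  rw [S.f_conj hx, S.c_conj hy, rinv]

theorem eq_of_act {x y : H} (h : ∀ v, ρ x v = ρ y v) : x = y :=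
  S.inj (LinearEquiv.ext h)

theorem eq_one_of_act {x : H} (h : ∀ v, ρ x v = v) : x = 1 :=
  S.eq_of_act fun v => by rw [h, rone]

theorem sq {x : H} (hx : x ∈ E) : x * x = 1 := by
  apply S.eq_one_of_act
  intro v
  rw [rmul, S.act hx, S.act hx, map_add, map_smul, S.pself hx, smul_zero, add_zero, add_assoc,
    v_add_self, add_zero]

theorem inv {x : H} (hx : x ∈ E) : x⁻¹ = x := inv_eq_of_mul_eq_one_left (S.sq hx)

theorem ne_one {x : H} (hx : x ∈ E) : x ≠ 1 := by
  rintro rfl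
  obtain ⟨v, hv⟩ := (S.tr 1 hx).exists_one
  have := S.act hx v
  rw [rone, hv, one_smul] at this
  exact (S.tr 1 hx).c_ne (by simpa using this.symm)

theorem c_conj' {x y : H} (hx : x ∈ E) (hy : y ∈ E) :
    c (y * x * y⁻¹) = c x + f y (c x) • c y := by
  rw [S.c_conj hx, S.act hy]

theorem f_conj' {x y : H} (hx : x ∈ E) (hy : y ∈ E) (v : V) :
    f (y * x * y⁻¹) v = f x v + f y v * f x (c y) := by
  rw [S.f_conj hx, S.inv hy, S.act hy, map_add, map_smul, smul_eq_mul]

theorem ext' {x y : H} (hx : x ∈ E) (hy : y ∈ E) (hc : c x = c y) (hf : ∀ v, f x v = f y v) :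
    x = y :=
  S.eq_of_act fun v => by rw [S.act hx, S.act hy, hc, hf]

theorem comm_of {x y : H} (hx : x ∈ E) (hy : y ∈ E) (h1 : f x (c y) = 0) (h2 : f y (c x) = 0) :
    y * x = x * y := by
  have : y * x * y⁻¹ = x := by
    apply S.ext' (S.conj x hx y) hx
    · rw [S.c_conj' hx hy, h2, zero_smul, add_zero]
    · intro v
      rw [S.f_conj' hx hy, h1, mul_zero, add_zero]
  rw [mul_inv_eq_iff_eq_mul] at this
  exact this

theorem braid_of {x y : H} (hx : x ∈ E) (hy : y ∈ E) (h1 : f x (c y) = 1) (h2 : f y (c x) = 1) :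
    y * x * y⁻¹ = x * y * x⁻¹ := by
  apply S.ext' (S.conj x hx y) (S.conj y hy x)
  · rw [S.c_conj' hx hy, S.c_conj' hy hx, h1, h2, one_smul, one_smul, add_comm]
  · intro v
    rw [S.f_conj' hx hy, S.f_conj' hy hx, h1, h2, mul_one, mul_one, add_comm]

/-- A commuting pair has zero pairings. -/
theorem p_of_comm {x y : H} (hx : x ∈ E) (hy : y ∈ E) (h : y * x = x * y) :
    f y (c x) = 0 := by
  have h1 : y * x * y⁻¹ = x := by rw [h, mul_inv_cancel_right]
  have h2 := S.c_conj' hx hy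
  rw [h1] at h2
  rcases z2 (f y (c x)) with h3 | h3
  · exact h3
  · rw [h3, one_smul] at h2
    exact absurd (by simpa using h2.symm) (S.tr y hy).c_ne

end Sys

end Cfsg.Agent.Omega.Tv
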