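import Cfsg.Agent.Omega.FF.TvBasic
import Cfsg.Agent.Lib.Cores
import Cfsg.Agent.Lib.SylowNormalInf
import Cfsg.Agent.Lib.PGroupFixedVector

/-!
# The transvection half of the FF-theorem for minimal parabolics: the core

helper670, OMEGA / FF, paper text bb #11436.

`H` finite, `T` a Sylow `2`-subgroup, `M` the unique maximal subgroup over `T`, `O_2(H) = 1`, `V` a
faithful `𝔽₂H`-module with `C_V(H) = 0`, `E` a conjugacy class of transvections,
`Δ = E ∖ M`.  Then two members of `Δ` are equal, commute or generate `S_3`; "equal or not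
commuting" is an equivalence relation on `Δ`; `T` is transitive on `Δ`; `⟨Δ⟩ = ⟨E⟩`.
-/

namespace Cfsg.Agent.Omega.Tv

open Subgroup Cfsg

variable {H : Type*} [Group H] {V : Type*} [AddCommGroup V] [Module (ZMod 2) V]
  {ρ : H →* (V ≃ₗ[ZMod 2] V)}

/-! ### Group-theoretic preliminaries -/

theorem mem_normalizer_of_conj [Finite H] {K : Subgroup H} {g : H}
    (h : ∀ k ∈ K, g * k * g⁻¹ ∈ K) : g ∈ normalizer (K : Set H) := by
  have h1 : K.map (MulAut.conj g).toMonoidHom ≤ K := by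
    rintro _ ⟨k, hk, rfl⟩
    simpa using h k hk
  have h2 : K.map (MulAut.conj g).toMonoidHom = K := by
    apply Subgroup.eq_of_le_of_card_ge h1
    exact (Nat.card_congr
      (K.equivMapOfInjective _ (MulAut.conj g).injective).toEquiv).le
  rw [mem_normalizer_iff]
  intro k
  constructor
  · exact h k
  · intro hk
    rw [← h2] at hk
    obtain ⟨k', hk', he⟩ := hk
    have : g * k' * g⁻¹ = g * k * g⁻¹ := by simpa using he
    have h3 : k' = k := by simpa using this
    rwa [← h3]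

theorem conj_closure {A : Set H} {g : H} (h : ∀ a ∈ A, g * a * g⁻¹ ∈ closure A) :
    ∀ k ∈ closure A, g * k * g⁻¹ ∈ closure A := by
  intro k hk
  induction hk using closure_induction with
  | mem x hx => exact h x hx
  | one => simp
  | mul x y _ _ hx hy =>
    have : g * (x * y) * g⁻¹ = (g * x * g⁻¹) * (g * y * g⁻¹) := by group
    rw [this]; exact mul_mem hx hy
  | inv x _ hx =>
    have : g * x⁻¹ * g⁻¹ = (g * x * g⁻¹)⁻¹ := by group
    rw [this]; exact inv_mem hx

theorem conj_notM {M : Subgroup H} {a m : H} (haM : a ∉ M) (hm : m ∈ M) : m * a * m⁻¹ ∉ M := by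
  intro hn
  apply haM
  have : m⁻¹ * (m * a * m⁻¹) * m = a := by group
  rw [← this]
  exact mul_mem (mul_mem (inv_mem hm) hn) hm

theorem invT {T : Sylow 2 H} {t : H} (ht : t ∈ T) : t⁻¹ ∈ T :=
  (T : Subgroup H).inv_mem ht

theorem conjT {T : Sylow 2 H} {t e : H} (ht : t ∈ T) (he : e ∈ T) : t * e * t⁻¹ ∈ T :=
  (T : Subgroup H).mul_mem ((T : Subgroup H).mul_mem ht he) ((T : Subgroup H).inv_mem ht)

theorem syl_conj [Finite H] (T : Sylow 2 H) {P : Subgroup H} (hP : IsPGroup 2 P) :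
    ∃ g : H, ∀ x ∈ P, g * x * g⁻¹ ∈ T := by
  obtain ⟨Q, hQ⟩ := hP.exists_le_sylow
  obtain ⟨g, hg⟩ := MulAction.exists_smul_eq H Q T
  refine ⟨g, fun x hx => ?_⟩
  have h1 : g * x * g⁻¹ ∈ (g • Q : Sylow 2 H) := by
    have := Subgroup.smul_mem_pointwise_smul x (MulAut.conj g) (Q : Subgroup H) (hQ hx)
    rw [← Sylow.coe_subgroup_smul] at this
    have h2 : g * x * g⁻¹ ∈ ((g • Q : Sylow 2 H) : Subgroup H) := by simpa using this
    exact h2
  rwa [hg] at h1

theorem syl_conj_in [Finite H] (T : Sylow 2 H) {M P : Subgroup H} (hTM : (T : Subgroup H) ≤ M)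
    (hPM : P ≤ M) (hP : IsPGroup 2 P) : ∃ g ∈ M, ∀ x ∈ P, g * x * g⁻¹ ∈ T := by
  have hP' : IsPGroup 2 (P.subgroupOf M) := hP.comap_of_injective _ M.subtype_injective
  obtain ⟨g, hg⟩ := syl_conj (T.subtype hTM) hP'
  refine ⟨g, g.2, fun x hx => ?_⟩
  have h1 := hg ⟨x, hPM hx⟩ (by rw [mem_subgroupOf]; exact hx)
  exact h1

theorem zpowers_two {x : H} (hx : x * x = 1) : IsPGroup 2 (zpowers x) := by
  rintro ⟨y, hy⟩
  obtain ⟨k, rfl⟩ := mem_zpowers_iff.mp hy
  refine ⟨1, Subtype.ext ?_⟩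
  show (x ^ k) ^ (2 ^ 1) = 1
  rw [pow_one, ← zpow_natCast, ← zpow_mul, mul_comm, zpow_mul]
  have : x ^ ((2 : ℕ) : ℤ) = 1 := by rw [zpow_natCast, pow_two, hx]
  rw [this, one_zpow]

theorem bot_of_sub {N Q : Subgroup H} (hN : N.Normal) (hQN : Q ≤ N)
    (hQn : ∀ n ∈ N, ∀ q ∈ Q, n * q * n⁻¹ ∈ Q) (hQ : IsPGroup 2 Q) (ho : pCore 2 H = ⊥) :
    Q = ⊥ := by
  have h1 : (Q.subgroupOf N).Normal := ⟨fun q hq n => by
    rw [mem_subgroupOf] at hq ⊢
    exact hQn n n.2 q hq⟩
  have h2 : Q.subgroupOf N ≤ pCore 2 N :=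
    Lib.Cores.le_pCore h1 (hQ.comap_of_injective _ N.subtype_injective)
  have h3 := Subgroup.map_mono (f := N.subtype) h2
  rw [Lib.Cores.map_subtype_pCore 2 hN, ho, inf_bot_eq, subgroupOf_map_subtype,
    inf_of_le_left hQN] at h3
  exact le_bot_iff.mp h3

theorem exists_fixed (ρ : H →* (V ≃ₗ[ZMod 2] V)) {T : Subgroup H} [Finite T]
    (hT : IsPGroup 2 T) (U : AddSubgroup V) (hU : ∀ t ∈ T, ∀ u ∈ U, ρ t u ∈ U) {v : V}
    (hv : v ∈ U) (hv0 : v ≠ 0) : ∃ w ∈ U, w ≠ 0 ∧ ∀ t ∈ T, ρ t w = w := by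
  let _ : DistribMulAction T V :=
    { smul := fun t v => ρ t v
      one_smul := fun v => rone ρ v
      mul_smul := fun s t v => rmul ρ s t v
      smul_zero := fun t => map_zero (ρ t)
      smul_add := fun t v w => map_add (ρ t) v w }
  obtain ⟨w, hw, hw0, h⟩ := Lib.PGroupFixedVector.exists_mem_ne_zero_fixed (p := 2) hT
    (fun a => by rw [two_nsmul, v_add_self]) U (fun g b hb => hU g g.2 b hb) hv hv0
  exact ⟨w, hw, hw0, fun t ht => h ⟨t, ht⟩⟩

namespace Sys

variable {E : Set H} {c : H → V} {f : H → V →ₗ[ZMod 2] ZMod 2} (S : Sys ρ E c f)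

include S

/-- Two transvections with the same centre inside a normal subgroup `N` fixing the difference of
their axes are equal. -/
theorem eq_of_c (ho : pCore 2 H = ⊥) {N : Subgroup H} (hN : N.Normal) {x y : H} (hx : x ∈ E)
    (hy : y ∈ E) (hxN : x ∈ N) (hyN : y ∈ N) (hc : c x = c y)
    (hs : ∀ n ∈ N, ∀ v, f x (ρ n v) + f y (ρ n v) = f x v + f y v) : x = y := by
  set s : V →ₗ[ZMod 2] ZMod 2 := f x + f y with hsdef
  have hsn : ∀ n ∈ N, ∀ v, s (ρ n v) = s v := fun n hn v => hs n hn v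
  let Q : Subgroup H :=
    { carrier := {g | g ∈ N ∧ ∃ w, s w = 0 ∧ ∀ v, ρ g v = v + s v • w}
      one_mem' := ⟨one_mem _, 0, map_zero _, fun v => by rw [rone, smul_zero, add_zero]⟩
      mul_mem' := by
        rintro a b ⟨ha, w, hw, haw⟩ ⟨hb, w', hw', hbw⟩
        refine ⟨mul_mem ha hb, w + w', by rw [map_add, hw, hw', add_zero], fun v => ?_⟩
        rw [rmul, hbw, haw, map_add, map_smul, hw', smul_zero, add_zero, smul_add]
        abel
      inv_mem' := by
        rintro a ⟨ha, w, hw, haw⟩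
        have : a * a = 1 := by
          apply S.eq_one_of_act
          intro v
          rw [rmul, haw, haw, map_add, map_smul, hw, smul_zero, add_zero, add_assoc, v_add_self,
            add_zero]
        rw [inv_eq_of_mul_eq_one_left this]
        exact ⟨ha, w, hw, haw⟩ }
  have hQN : Q ≤ N := fun g hg => hg.1
  have hQn : ∀ n ∈ N, ∀ q ∈ Q, n * q * n⁻¹ ∈ Q := by
    rintro n hn q ⟨hq, w, hw, hqw⟩
    refine ⟨mul_mem (mul_mem hn hq) (inv_mem hn), ρ n w, by rw [hsn n hn, hw], fun v => ?_⟩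
    rw [rmul, rmul, hqw, map_add, rinv', map_smul, hsn _ (inv_mem hn)]
  have hQ2 : IsPGroup 2 Q := by
    rintro ⟨a, ha, w, hw, haw⟩
    refine ⟨1, Subtype.ext ?_⟩
    show a ^ (2 ^ 1) = 1
    rw [pow_one, pow_two]
    apply S.eq_one_of_act
    intro v
    rw [rmul, haw, haw, map_add, map_smul, hw, smul_zero, add_zero, add_assoc, v_add_self,
      add_zero]
  have hQb := bot_of_sub hN hQN hQn hQ2 ho
  have hxy : x * y ∈ Q := by
    refine ⟨mul_mem hxN hyN, c x, ?_, fun v => ?_⟩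
    · show f x (c x) + f y (c x) = 0
      rw [S.pself hx, hc, S.pself hy, add_zero]
    · rw [rmul, S.act hy, S.act hx, map_add, map_smul, ← hc, S.pself hx, smul_zero, add_zero]
      show _ = v + (f x v + f y v) • c x
      rw [add_smul]
      abel
  rw [hQb, mem_bot] at hxy
  rw [eq_inv_of_mul_eq_one_left hxy, S.inv hy]

end Sys

/-- The general hypothesis: `M` is the unique maximal subgroup over `T`, `O_2(H) = 1`, and `E` is a
class of transvections of the faithful module `V`. -/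
structure Pre (ρ : H →* (V ≃ₗ[ZMod 2] V)) (E : Set H) (c : H → V)
    (f : H → V →ₗ[ZMod 2] ZMod 2) (T : Sylow 2 H) (M : Subgroup H) : Prop extends
    Sys ρ E c f where
  TM : (T : Subgroup H) ≤ M
  M_ne : M ≠ ⊤
  uniq : ∀ K : Subgroup H, (T : Subgroup H) ≤ K → K ≠ ⊤ → K ≤ M
  o2 : pCore 2 H = ⊥

namespace Pre

variable {E : Set H} {c : H → V} {f : H → V →ₗ[ZMod 2] ZMod 2} {T : Sylow 2 H}
  {M : Subgroup H} (h : Pre ρ E c f T M)

include h

theorem eq_top {K : Subgroup H} (hT : (T : Subgroup H) ≤ K) {g : H} (hg : g ∈ K)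
    (hgM : g ∉ M) : K = ⊤ := by
  by_contra hne
  exact hgM (h.uniq K hT hne hg)

theorem exists_mem_T [Finite H] : ∃ e ∈ E, e ∈ T := by
  obtain ⟨x, hx⟩ := h.ne
  obtain ⟨g, hg⟩ := syl_conj T (zpowers_two (h.sq hx))
  exact ⟨g * x * g⁻¹, h.conj x hx g, hg x (mem_zpowers x)⟩

theorem exists_not_mem [Finite H] : ∃ a ∈ E, a ∉ M := by
  by_contra hcon
  push Not at hcon
  have hNM : closure E ≤ M := (closure_le _).mpr hcon
  have hN : (closure E).Normal := ⟨fun k hk g =>
    conj_closure (fun a ha => subset_closure (h.conj a ha g)) k hk⟩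
  have h1 := Lib.SylowNormalInf.normalizer_inf_sup_eq_top T (closure E)
  have h2 : (T : Subgroup H) ≤ normalizer (((T : Subgroup H) ⊓ closure E : Subgroup H) : Set H) := by
    intro t ht
    apply mem_normalizer_of_conj
    rintro k ⟨hk1, hk2⟩
    exact ⟨conjT ht hk1, hN.conj_mem k hk2 t⟩
  by_cases htop : normalizer (((T : Subgroup H) ⊓ closure E : Subgroup H) : Set H) = ⊤
  · have h3 : ((T : Subgroup H) ⊓ closure E).Normal := normalizer_eq_top_iff.mp htop
    have h4 := Lib.Cores.le_pCore h3 (T.isPGroup'.to_le inf_le_left)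
    rw [h.o2, le_bot_iff] at h4
    obtain ⟨e, he, heT⟩ := h.exists_mem_T
    have h5 : e ∈ (T : Subgroup H) ⊓ closure E := ⟨heT, subset_closure he⟩
    rw [h4, mem_bot] at h5
    exact h.ne_one he h5
  · have h3 := h.uniq _ h2 htop
    apply h.M_ne
    rw [← top_le_iff, ← h1]
    exact sup_le h3 hNM

/-- `⟨Δ⟩` is normal. -/
theorem normalD [Finite H] : (closure (E \ (M : Set H))).Normal := by
  rw [← normalizer_eq_top_iff]
  obtain ⟨a, ha, haM⟩ := h.exists_not_mem
  refine h.eq_top (g := a) ?_ ?_ haM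
  · intro t ht
    apply mem_normalizer_of_conj
    apply conj_closure
    rintro x ⟨hx, hxM⟩
    exact subset_closure ⟨h.conj x hx t, conj_notM hxM (h.TM ht)⟩
  · exact le_normalizer (subset_closure ⟨ha, haM⟩)

theorem mem_closureD [Finite H] {x : H} (hx : x ∈ E) : x ∈ closure (E \ (M : Set H)) := by
  obtain ⟨a, ha, haM⟩ := h.exists_not_mem
  obtain ⟨g, rfl⟩ := h.tra a ha x hx
  exact h.normalD.conj_mem a (subset_closure ⟨ha, haM⟩) g

theorem closureD [Finite H] : closure (E \ (M : Set H)) = closure E :=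
  le_antisymm (closure_mono Set.sdiff_subset) ((closure_le _).mpr fun _ hx => h.mem_closureD hx)

theorem sup_T [Finite H] : closure (E \ (M : Set H)) ⊔ T = ⊤ := by
  obtain ⟨a, ha, haM⟩ := h.exists_not_mem
  exact h.eq_top (g := a) le_sup_right (le_sup_left (a := closure (E \ (M : Set H)))
    (subset_closure ⟨ha, haM⟩)) haM

end Pre

/-- The hypothesis of the core. -/
structure Hyp (ρ : H →* (V ≃ₗ[ZMod 2] V)) (E : Set H) (c : H → V)
    (f : H → V →ₗ[ZMod 2] ZMod 2) (T : Sylow 2 H) (M : Subgroup H) (v0 : V)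
    (f0 : V →ₗ[ZMod 2] ZMod 2) : Prop extends Pre ρ E c f T M where
  fix : ∀ v, (∀ g, ρ g v = v) → v = 0
  v0_ne : v0 ≠ 0
  v0_fix : ∀ t ∈ T, ρ t v0 = v0
  f0_T : ∀ t ∈ T, ∀ v, f0 (ρ t v) = f0 v
  f0_not : ∃ g v, f0 (ρ g v) ≠ f0 v

namespace Hyp

variable [Finite H] {E : Set H} {c : H → V} {f : H → V →ₗ[ZMod 2] ZMod 2} {T : Sylow 2 H}
  {M : Subgroup H} {v0 : V} {f0 : V →ₗ[ZMod 2] ZMod 2} (h : Hyp ρ E c f T M v0 f0)

include h

omit [Finite H] in
theorem mem_of_fix {g : H} (hg : ρ g v0 = v0) : g ∈ M := by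
  refine h.uniq (stv ρ v0) (fun t ht => h.v0_fix t ht) ?_ hg
  intro htop
  apply h.v0_ne
  apply h.fix
  intro g
  have : g ∈ stv ρ v0 := by rw [htop]; exact mem_top g
  exact this

omit [Finite H] in
theorem mem_of_f0 {g : H} (hg : ∀ v, f0 (ρ g v) = f0 v) : g ∈ M := by
  refine h.uniq (stf ρ f0) (fun t ht => h.f0_T t ht) ?_ hg
  intro htop
  obtain ⟨g, v, hgv⟩ := h.f0_not
  have : g ∈ stf ρ f0 := by rw [htop]; exact mem_top g
  exact hgv (this v)

omit [Finite H] in
theorem fv0 {d : H} (hd : d ∈ E) (hdM : d ∉ M) : f d v0 = 1 := by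
  apply z2_ne_zero
  intro h0
  apply hdM
  apply h.mem_of_fix
  rw [h.act hd, h0, zero_smul, add_zero]

omit [Finite H] in
theorem f0c {d : H} (hd : d ∈ E) (hdM : d ∉ M) : f0 (c d) = 1 := by
  apply z2_ne_zero
  intro h0
  apply hdM
  apply h.mem_of_f0
  intro v
  rw [h.act hd, map_add, map_smul, h0, smul_zero, add_zero]

omit [Finite H] in
/-- (2) -/
theorem symD {a b : H} (ha : a ∈ E) (haM : a ∉ M) (hb : b ∈ E) (hbM : b ∉ M) :
    f a (c b) = f b (c a) := by
  -- it is enough to exclude `f a (c b) = 1`, `f b (c a) = 0`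
  have key : ∀ {a b : H}, a ∈ E → a ∉ M → b ∈ E → b ∉ M → f a (c b) = 1 → f b (c a) = 0 →
      False := by
    intro a b ha haM hb hbM h1 h0
    have hx : a * b * a⁻¹ ∈ E := h.conj b hb a
    have hy : b * a * b⁻¹ ∈ E := h.conj a ha b
    have cx := h.c_conj' hb ha
    have fx := h.f_conj' hb ha
    have cy := h.c_conj' ha hb
    have fy := h.f_conj' ha hb
    rw [h1, one_smul] at cx
    rw [h0, zero_smul, add_zero] at cy
    simp only [h0, mul_zero, add_zero] at fx
    simp only [h1, mul_one] at fy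
    have hxM : a * b * a⁻¹ ∈ M := by
      by_contra hn
      have := h.f0c hx hn
      rw [cx, map_add, h.f0c hb hbM, h.f0c ha haM, z2_add_self] at this
      exact zero_ne_one this
    have hyM : b * a * b⁻¹ ∈ M := by
      by_contra hn
      have := h.fv0 hy hn
      rw [fy, h.fv0 ha haM, h.fv0 hb hbM, z2_add_self] at this
      exact zero_ne_one this
    apply haM
    have hfin : (a * b * a⁻¹) * (b * a * b⁻¹) * (a * b * a⁻¹)⁻¹ = a := by
      apply h.ext' (h.conj _ hy _) ha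
      · rw [h.c_conj' hy hx, cy, fx, h0, zero_smul, add_zero]
      · intro v
        rw [h.f_conj' hy hx, fy, fx, fy, cx, map_add, map_add, h.pself ha, h.pself hb, h1, h0,
          add_zero, zero_add, add_zero, mul_one, add_assoc, z2_add_self, add_zero]
    rw [← hfin]
    exact mul_mem (mul_mem hxM hyM) (inv_mem hxM)
  rcases z2 (f a (c b)) with h1 | h1 <;> rcases z2 (f b (c a)) with h2 | h2
  · rw [h1, h2]
  · exact (key hb hbM ha haM h2 h1).elim
  · exact (key ha haM hb hbM h1 h2).elim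
  · rw [h1, h2]

/-- `C_V(⟨Δ⟩) = 0`. -/
theorem eq_zero {v : V} (hv : ∀ a ∈ E, a ∉ M → f a v = 0) : v = 0 := by
  by_contra hv0
  let N := closure (E \ (M : Set H))
  let U : AddSubgroup V :=
    { carrier := {v | ∀ n ∈ N, ρ n v = v}
      zero_mem' := fun n _ => map_zero _
      add_mem' := by
        intro a b ha hb n hn
        rw [map_add, ha n hn, hb n hn]
      neg_mem' := by
        intro a ha n hn
        rw [map_neg, ha n hn] }
  have hvU : v ∈ U := by
    intro n hn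
    have : N ≤ stv ρ v := (closure_le _).mpr (by
      rintro x ⟨hx, hxM⟩
      show ρ x v = v
      rw [h.act hx, hv x hx hxM, zero_smul, add_zero])
    exact this hn
  have hN : N.Normal := h.normalD
  have hU : ∀ t ∈ (T : Subgroup H), ∀ u ∈ U, ρ t u ∈ U := by
    intro t _ u hu n hn
    have h1 := hu (t⁻¹ * n * t) (by simpa using hN.conj_mem n hn t⁻¹)
    rw [rmul, rmul] at h1
    have h2 := congrArg (ρ t) h1
    rwa [rinv'] at h2
  obtain ⟨w, hw, hw0, hwT⟩ := exists_fixed ρ T.isPGroup' U hU hvU hv0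
  apply hw0
  apply h.fix
  intro g
  have hg : g ∈ N ⊔ (T : Subgroup H) := by rw [h.sup_T]; exact mem_top g
  have hle : N ⊔ (T : Subgroup H) ≤ stv ρ w := sup_le (fun n hn => hw n hn) (fun t ht => hwT t ht)
  exact hle hg

/-- (3) -/
theorem eqDc {a b : H} (ha : a ∈ E) (haM : a ∉ M) (hb : b ∈ E) (hbM : b ∉ M)
    (hc : c a = c b) : a = b := by
  refine h.eq_of_c h.o2 h.normalD ha hb (h.mem_closureD ha) (h.mem_closureD hb) hc ?_
  have hle : closure (E \ (M : Set H)) ≤ stf ρ (fun v => f a v + f b v) := by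
    rw [closure_le]
    rintro x ⟨hx, hxM⟩ v
    show f a (ρ x v) + f b (ρ x v) = f a v + f b v
    rw [h.act hx, map_add, map_add, map_smul, map_smul, h.symD ha haM hx hxM,
      h.symD hb hbM hx hxM, hc]
    have := z2_add_self (f x v • f x (c b))
    calc f a v + f x v • f x (c b) + (f b v + f x v • f x (c b))
        = f a v + f b v + (f x v • f x (c b) + f x v • f x (c b)) := by abel
      _ = f a v + f b v := by rw [this, add_zero]
  intro n hn v
  exact hle hn v

theorem eqDf {a b : H} (ha : a ∈ E) (haM : a ∉ M) (hb : b ∈ E) (hbM : b ∉ M)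
    (hf : ∀ v, f a v = f b v) : a = b := by
  apply h.eqDc ha haM hb hbM
  apply v_eq_of_add
  apply h.eq_zero
  intro x hx hxM
  rw [map_add, h.symD hx hxM ha haM, h.symD hx hxM hb hbM, hf, z2_add_self]

/-- (4), first half. -/
theorem symDE {a e : H} (ha : a ∈ E) (haM : a ∉ M) (he : e ∈ E) : f a (c e) = f e (c a) := by
  by_cases heM : e ∈ M
  · have hy : e * a * e⁻¹ ∈ E := h.conj a ha e
    have hyM : e * a * e⁻¹ ∉ M := conj_notM haM heM
    have cy := h.c_conj' ha he
    have fy := h.f_conj' ha he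
    rcases z2 (f a (c e)) with h1 | h1 <;> rcases z2 (f e (c a)) with h2 | h2
    · rw [h1, h2]
    · exfalso
      simp only [h1, mul_zero, add_zero] at fy
      have := h.eqDf hy hyM ha haM fy
      rw [this, h2, one_smul] at cy
      exact (h.tr e he).c_ne (by simpa using cy.symm)
    · exfalso
      rw [h2, zero_smul, add_zero] at cy
      have := h.eqDc hy hyM ha haM cy
      rw [this] at fy
      simp only [h1, mul_one] at fy
      obtain ⟨v, hv⟩ := (h.tr e he).exists_one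
      have h3 := fy v
      rw [hv] at h3
      have h4 : f a v + 0 = f a v + 1 := by rw [add_zero]; exact h3
      exact zero_ne_one (add_left_cancel h4)
    · rw [h1, h2]
  · exact h.symD ha haM he heM

/-- (4) the pairing on `E` is symmetric. -/
theorem sym {x y : H} (hx : x ∈ E) (hy : y ∈ E) : f x (c y) = f y (c x) := by
  obtain ⟨a, ha, haM⟩ := h.exists_not_mem
  obtain ⟨g, hg⟩ := h.tra x hx a ha
  rw [← h.p_conj hx hy g, ← h.p_conj hy hx g, ← hg]
  exact h.symDE ha haM (h.conj y hy g)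

/-- elements of `E` with the same centre are equal. -/
theorem eq_c {x y : H} (hx : x ∈ E) (hy : y ∈ E) (hc : c x = c y) : x = y := by
  refine h.eq_of_c h.o2 h.normalD hx hy (h.mem_closureD hx) (h.mem_closureD hy) hc ?_
  have hle : closure (E \ (M : Set H)) ≤ stf ρ (fun v => f x v + f y v) := by
    rw [closure_le]
    rintro z ⟨hz, _⟩ v
    show f x (ρ z v) + f y (ρ z v) = f x v + f y v
    rw [h.act hz, map_add, map_add, map_smul, map_smul, h.sym hx hz, h.sym hy hz, hc]
    have := z2_add_self (f z v • f z (c y))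
    calc f x v + f z v • f z (c y) + (f y v + f z v • f z (c y))
        = f x v + f y v + (f z v • f z (c y) + f z v • f z (c y)) := by abel
      _ = f x v + f y v := by rw [this, add_zero]
  intro n hn v
  exact hle hn v

/-- `M` fixes `v0`. -/
theorem M_fix {m : H} (hm : m ∈ M) : ρ m v0 = v0 := by
  apply v_eq_of_add
  apply h.eq_zero
  intro a ha haM
  have h1 : f (m⁻¹ * a * m⁻¹⁻¹) v0 = 1 :=
    h.fv0 (h.conj a ha m⁻¹) (conj_notM haM (inv_mem hm))
  rw [h.f_conj ha, inv_inv] at h1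
  rw [map_add, h1, h.fv0 ha haM, z2_add_self]

theorem mem_M_iff {x : H} : x ∈ M ↔ ρ x v0 = v0 := ⟨h.M_fix, h.mem_of_fix⟩

theorem mem_M_iff' {x : H} (hx : x ∈ E) : x ∈ M ↔ f x v0 = 0 := by
  rw [h.mem_M_iff, h.act hx]
  constructor
  · intro h1
    rcases z2 (f x v0) with h2 | h2
    · exact h2
    · rw [h2, one_smul] at h1
      exact absurd (by simpa using h1) (h.tr x hx).c_ne
  · intro h1
    rw [h1, zero_smul, add_zero]

/-- Elements of `E` in a common `2`-subgroup have zero pairing. -/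
theorem p_of_two {P : Subgroup H} (hP : IsPGroup 2 P) {x y : H} (hx : x ∈ E) (hy : y ∈ E)
    (hxP : x ∈ P) (hyP : y ∈ P) : f x (c y) = 0 := by
  rcases z2 (f x (c y)) with h1 | h1
  · exact h1
  · exfalso
    have h2 : f y (c x) = 1 := by rw [← h.sym hx hy, h1]
    have hb := h.braid_of hx hy h1 h2
    rw [h.inv hy, h.inv hx] at hb
    have h3 : (x * y) ^ 3 = 1 := by
      have : (x * y) ^ 3 = (x * y * x) * (y * x * y) := by
        simp only [pow_succ, pow_zero, one_mul, mul_assoc]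
      rw [this, hb]
      have : x * y * x * (x * y * x) = x * y * (x * x) * y * x := by
        simp only [mul_assoc]
      rw [this, h.sq hx, mul_one, mul_assoc x y y, h.sq hy, mul_one, h.sq hx]
    obtain ⟨k, hk⟩ := hP ⟨x * y, mul_mem hxP hyP⟩
    have hk' : (x * y) ^ 2 ^ k = 1 := congrArg Subtype.val hk
    have hcop : Nat.Coprime 3 (2 ^ k) := Nat.Coprime.pow_right k (by norm_num)
    have hone : orderOf (x * y) = 1 := by
      have d1 := orderOf_dvd_of_pow_eq_one h3
      have d2 := orderOf_dvd_of_pow_eq_one hk'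
      exact Nat.eq_one_of_dvd_coprimes hcop d1 d2
    rw [orderOf_eq_one_iff] at hone
    have hxy : x = y := by rw [eq_inv_of_mul_eq_one_left hone, h.inv hy]
    rw [hxy, h.pself hy] at h1
    exact zero_ne_one h1

theorem p_T {x y : H} (hx : x ∈ E) (hy : y ∈ E) (hxT : x ∈ T) (hyT : y ∈ T) : f x (c y) = 0 :=
  h.p_of_two T.isPGroup' hx hy hxT hyT

/-- `N_H(⟨O⟩) ≤ M` for a nonempty `T`-invariant `O ⊆ E ∩ T`. -/
theorem normalizer_le {O : Set H} (hO : ∀ e ∈ O, e ∈ E ∧ e ∈ T) (hne : O.Nonempty)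
    (hT : ∀ t ∈ T, ∀ e ∈ O, t * e * t⁻¹ ∈ O) : normalizer (closure O : Set H) ≤ M := by
  apply h.uniq
  · intro t ht
    apply mem_normalizer_of_conj
    exact conj_closure fun e he => subset_closure (hT t ht e he)
  · intro htop
    have h1 : (closure O).Normal := normalizer_eq_top_iff.mp htop
    have h2 : closure O ≤ (T : Subgroup H) := (closure_le _).mpr fun e he => (hO e he).2
    have h3 := Lib.Cores.le_pCore h1 (T.isPGroup'.to_le h2)
    rw [h.o2, le_bot_iff] at h3
    obtain ⟨e, he⟩ := hne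
    have h4 : e ∈ closure O := subset_closure he
    rw [h3, mem_bot] at h4
    exact h.ne_one (hO e he).1 h4

theorem exists_adj {O : Set H} (hO : ∀ e ∈ O, e ∈ E ∧ e ∈ T) (hne : O.Nonempty)
    (hT : ∀ t ∈ T, ∀ e ∈ O, t * e * t⁻¹ ∈ O) {b : H} (hb : b ∈ E) (hbM : b ∉ M) :
    ∃ e ∈ O, f b (c e) = 1 := by
  by_contra hcon
  push Not at hcon
  apply hbM
  apply h.normalizer_le hO hne hT
  apply mem_normalizer_of_conj
  apply conj_closure
  intro e he
  have h0 := z2_ne_one (hcon e he)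
  have h1 : b * e = e * b := h.comm_of (hO e he).1 hb (by rw [← h.sym hb (hO e he).1]; exact h0) h0
  rw [h1, mul_inv_cancel_right]
  exact subset_closure he

theorem exists_adj_T {b : H} (hb : b ∈ E) (hbM : b ∉ M) : ∃ e ∈ E, e ∈ T ∧ f b (c e) = 1 := by
  obtain ⟨e0, he0, he0T⟩ := h.exists_mem_T
  obtain ⟨e, he, h1⟩ := h.exists_adj (O := {e | e ∈ E ∧ e ∈ T}) (fun e he => he)
    ⟨e0, he0, he0T⟩ (fun t ht e he => ⟨h.conj e he.1 t,
      conjT ht he.2⟩) hb hbM
  exact ⟨e, he.1, he.2, h1⟩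

/-- An `x ∈ E` commuting with `E ∩ T` lies in `T`. -/
theorem mem_T_of_cent {x : H} (hx : x ∈ E) (h0 : ∀ e ∈ E, e ∈ T → f x (c e) = 0) : x ∈ T := by
  set W : Subgroup H := closure {e | e ∈ E ∧ e ∈ T} with hW
  have hWT : W ≤ (T : Subgroup H) := (closure_le _).mpr fun e he => he.2
  have hTN : (T : Subgroup H) ≤ normalizer (W : Set H) := by
    intro t ht
    apply mem_normalizer_of_conj
    exact conj_closure fun e he => subset_closure ⟨h.conj e he.1 t,
      conjT ht he.2⟩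
  have hxN : x ∈ normalizer (W : Set H) := by
    apply mem_normalizer_of_conj
    apply conj_closure
    rintro e ⟨he, heT⟩
    have h1 : x * e = e * x :=
      h.comm_of he hx (by rw [← h.sym hx he]; exact h0 e he heT) (h0 e he heT)
    rw [h1, mul_inv_cancel_right]
    exact subset_closure ⟨he, heT⟩
  obtain ⟨g, hg, hgx⟩ := syl_conj_in T hTN (zpowers_le.mpr hxN) (zpowers_two (h.sq hx))
  have h1 : g * x * g⁻¹ ∈ W := subset_closure ⟨h.conj x hx g, hgx x (mem_zpowers x)⟩
  rw [← mem_normalizer_iff.mp hg x] at h1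
  exact hWT h1

/-- (7): an element of `Δ` does not commute with exactly one element of `E ∩ T`. -/
theorem uniq_adj {b e e' : H} (hb : b ∈ E) (hbM : b ∉ M) (he : e ∈ E) (heT : e ∈ T)
    (he' : e' ∈ E) (heT' : e' ∈ T) (h1 : f b (c e) = 1) (h1' : f b (c e') = 1) : e = e' := by
  have hee : f e (c e') = 0 := h.p_T he he' heT heT'
  have hee' : f e' (c e) = 0 := h.p_T he' he heT' heT
  have ha : e' * b * e'⁻¹ ∈ E := h.conj b hb e'
  have haM : e' * b * e'⁻¹ ∉ M := conj_notM hbM (h.TM heT')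
  have ca := h.c_conj' hb he'
  have fa := h.f_conj' hb he'
  rw [← h.sym hb he', h1', one_smul] at ca
  simp only [h1', mul_one] at fa
  set a := e' * b * e'⁻¹ with hadef
  have hb2 : e * a * e⁻¹ ∈ E := h.conj a ha e
  have hb2M : e * a * e⁻¹ ∉ M := conj_notM haM (h.TM heT)
  have cb := h.c_conj' ha he
  have fb := h.f_conj' ha he
  rw [ca, map_add, ← h.sym hb he, h1, hee, add_zero, one_smul] at cb
  simp only [fa, h1, hee', add_zero, mul_one] at fb
  set b' := e * a * e⁻¹ with hb'def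
  have hbb' : f b (c b') = 0 := by
    rw [cb, map_add, map_add, h.pself hb, h1, h1', zero_add]
    exact z2_add_self 1
  -- `u = b b'`
  have hu : ∀ v, ρ (b * b') v = v + f b v • c b + f b' v • c b' := by
    intro v
    rw [rmul, h.act hb2, h.act hb, map_add, map_smul, hbb', smul_zero, add_zero]
    abel
  have huN : b * b' ∈ normalizer (closure {e | e ∈ E ∧ e ∈ T} : Set H) := by
    apply mem_normalizer_of_conj
    apply conj_closure
    rintro d ⟨hd, hdT⟩
    apply Subgroup.subset_closure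
    refine ⟨h.conj d hd _, ?_⟩
    apply h.mem_T_of_cent (h.conj d hd _)
    intro z hz hzT
    -- the centre of the conjugate
    have hcz : f z (c (b * b' * d * (b * b')⁻¹)) = 0 := by
      rw [h.c_conj hd, hu, fb, h.p_T he' hd heT' hdT, h.p_T he hd heT hdT, add_zero, add_zero,
        map_add, map_add, map_smul, map_smul, h.p_T hz hd hzT hdT, zero_add, cb, map_add, map_add,
        h.p_T hz he' hzT heT', h.p_T hz he hzT heT, add_zero, add_zero, z2_add_self]
    rw [h.sym (h.conj d hd _) hz]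
    exact hcz
  have huM : b * b' ∈ M := h.normalizer_le (O := {e | e ∈ E ∧ e ∈ T}) (fun e he => he)
    ⟨e, he, heT⟩ (fun t ht e he => ⟨h.conj e he.1 t,
      conjT ht he.2⟩) huN
  have h2 := h.M_fix huM
  rw [hu, h.fv0 hb hbM, h.fv0 hb2 hb2M, one_smul, one_smul, cb] at h2
  have h3 : c e' + c e = 0 := by
    have h4 : v0 + (c e' + c e) = v0 + 0 := by
      rw [add_zero]
      calc v0 + (c e' + c e) = v0 + (c b + c b) + (c e' + c e) := by rw [v_add_self, add_zero]
        _ = v0 + c b + (c b + c e' + c e) := by abel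
        _ = v0 := h2
    exact add_left_cancel h4
  exact (h.eq_c he' he (v_eq_of_add h3)).symm

/-- (8) -/
theorem uniq_adjM {b e e' : H} (hb : b ∈ E) (hbM : b ∉ M) (he : e ∈ E) (heM : e ∈ M)
    (he' : e' ∈ E) (heM' : e' ∈ M) (hee : f e (c e') = 0) (h1 : f b (c e) = 1)
    (h1' : f b (c e') = 1) : e = e' := by
  have hcomm : e' * e = e * e' := h.comm_of he he' hee (by rw [← h.sym he he', hee])
  -- the 2-group generated by e, e'
  let P : Subgroup H := zpowers e ⊔ zpowers e'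
  have hP : IsPGroup 2 P := by
    have hle : zpowers e' ≤ normalizer (zpowers e : Set H) := by
      rw [zpowers_le]
      apply mem_normalizer_of_conj
      intro k hk
      obtain ⟨n, rfl⟩ := mem_zpowers_iff.mp hk
      have : e' * e ^ n * e'⁻¹ = e ^ n := by
        have hc : Commute e' (e ^ n) := (show Commute e' e from hcomm).zpow_right n
        rw [hc.eq, mul_inv_cancel_right]
      rw [this]
      exact zpow_mem (mem_zpowers e) n
    exact IsPGroup.to_sup_of_normal_left' (zpowers_two (h.sq he)) (zpowers_two (h.sq he')) hle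
  have hPM : P ≤ M := sup_le (zpowers_le.mpr heM) (zpowers_le.mpr heM')
  obtain ⟨g, hg, hgP⟩ := syl_conj_in T h.TM hPM hP
  have h2 : g * e * g⁻¹ = g * e' * g⁻¹ := by
    apply h.uniq_adj (h.conj b hb g) (conj_notM hbM hg) (h.conj e he g)
      (hgP e (le_sup_left (a := zpowers e) (mem_zpowers e))) (h.conj e' he' g)
      (hgP e' (le_sup_right (b := zpowers e') (mem_zpowers e')))
    · rw [h.p_conj hb he, h1]
    · rw [h.p_conj hb he', h1']
  have h3 : g⁻¹ * (g * e * g⁻¹) * g = g⁻¹ * (g * e' * g⁻¹) * g := by rw [h2]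
  simpa [mul_assoc] using h3

/-- Non-commuting is transitive on `Δ`. -/
theorem trans {a b d : H} (ha : a ∈ E) (haM : a ∉ M) (hb : b ∈ E) (hbM : b ∉ M)
    (hd : d ∈ E) (hdM : d ∉ M) (h1 : f a (c b) = 1) (h2 : f b (c d) = 1) :
    a = d ∨ f a (c d) = 1 := by
  rcases z2 (f a (c d)) with h0 | h0
  swap
  · exact Or.inr h0
  left
  have ce := h.c_conj' ha hb
  have fe := h.f_conj' ha hb
  have ce' := h.c_conj' hd hb
  have fe' := h.f_conj' hd hb
  rw [← h.sym ha hb, h1, one_smul] at ce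
  simp only [h1, mul_one] at fe
  rw [h2, one_smul] at ce'
  rw [h.sym hb hd] at h2
  simp only [h2, mul_one] at fe'
  have he : b * a * b⁻¹ ∈ E := h.conj a ha b
  have he' : b * d * b⁻¹ ∈ E := h.conj d hd b
  have heM : b * a * b⁻¹ ∈ M := by
    rw [h.mem_M_iff' he, fe, h.fv0 ha haM, h.fv0 hb hbM]
    exact z2_add_self 1
  have heM' : b * d * b⁻¹ ∈ M := by
    rw [h.mem_M_iff' he', fe', h.fv0 hd hdM, h.fv0 hb hbM]
    exact z2_add_self 1
  have h3 := h.uniq_adjM hb hbM he heM he' heM' ?_ ?_ ?_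
  · have h4 : c a + c b = c d + c b := by rw [← ce, ← ce', h3]
    exact h.eq_c ha hd (add_right_cancel h4)
  · rw [fe, ce', map_add, map_add, h0, h1, h.pself hb, ← h.sym hd hb, h2, zero_add, add_zero]
    exact z2_add_self 1
  · rw [ce, map_add, h.pself hb, ← h.sym ha hb, h1, add_zero]
  · rw [ce', map_add, h.pself hb, ← h.sym hd hb, h2, add_zero]

/-- (C5) `T` is transitive on `E ∩ T`. -/
theorem transT {e e' : H} (he : e ∈ E) (heT : e ∈ T) (he' : e' ∈ E) (heT' : e' ∈ T) :
    ∃ t ∈ T, e' = t * e * t⁻¹ := by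
  obtain ⟨b, hb, hbM⟩ := h.exists_not_mem
  have key : ∀ {e : H}, e ∈ E → e ∈ T → ∃ t ∈ T, f b (c (t * e * t⁻¹)) = 1 := by
    intro e he heT
    obtain ⟨d, ⟨t, ht, rfl⟩, h1⟩ := h.exists_adj (O := {d | ∃ t ∈ T, t * e * t⁻¹ = d})
      (by
        rintro d ⟨t, ht, rfl⟩
        exact ⟨h.conj e he t, conjT ht heT⟩)
      ⟨e, 1, one_mem _, by simp⟩
      (by
        rintro s hs d ⟨t, ht, rfl⟩
        exact ⟨s * t, mul_mem hs ht, by group⟩) hb hbM
    exact ⟨t, ht, h1⟩
  obtain ⟨t, ht, h1⟩ := key he heT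
  obtain ⟨t', ht', h1'⟩ := key he' heT'
  have h2 := h.uniq_adj hb hbM (h.conj e he t)
    (conjT ht heT) (h.conj e' he' t')
    (conjT ht' heT') h1 h1'
  refine ⟨t'⁻¹ * t, mul_mem (invT ht') ht, ?_⟩
  have h3 : t'⁻¹ * (t * e * t⁻¹) * t' = e' := by rw [h2]; group
  rw [← h3]
  group

/-- Elements of `Δ` adjacent to the same `e ∈ E ∩ M` are conjugate under `⟨e⟩`. -/
theorem eq_or_conj {b d e : H} (hb : b ∈ E) (hbM : b ∉ M) (hd : d ∈ E) (hdM : d ∉ M)
    (he : e ∈ E) (heM : e ∈ M) (h1 : f b (c e) = 1) (h2 : f d (c e) = 1) :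
    d = b ∨ d = e * b * e⁻¹ := by
  by_contra hcon
  push Not at hcon
  obtain ⟨hne1, hne2⟩ := hcon
  have ha : e * b * e⁻¹ ∈ E := h.conj b hb e
  have haM : e * b * e⁻¹ ∉ M := conj_notM hbM heM
  have ca := h.c_conj' hb he
  rw [← h.sym hb he, h1, one_smul] at ca
  have hba : f b (c (e * b * e⁻¹)) = 1 := by rw [ca, map_add, h.pself hb, h1, zero_add]
  have hda : f d (c (e * b * e⁻¹)) = f d (c b) + 1 := by rw [ca, map_add, h2]
  rcases z2 (f d (c b)) with h3 | h3
  · rw [h3, zero_add] at hda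
    have hab : f (e * b * e⁻¹) (c b) = 1 := by rw [h.sym ha hb, hba]
    rcases h.trans hd hdM ha haM hb hbM hda hab with h4 | h4
    · exact hne1 h4
    · rw [h3] at h4; exact zero_ne_one h4
  · have hda0 : f d (c (e * b * e⁻¹)) = 0 := by rw [hda, h3]; exact z2_add_self 1
    rcases h.trans hd hdM hb hbM ha haM h3 hba with h4 | h4
    · exact hne2 h4
    · rw [hda0] at h4; exact zero_ne_one h4

/-- `T` is transitive on `Δ`. -/
theorem transD {b d : H} (hb : b ∈ E) (hbM : b ∉ M) (hd : d ∈ E) (hdM : d ∉ M) :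
    ∃ t ∈ T, d = t * b * t⁻¹ := by
  obtain ⟨e, he, heT, h1⟩ := h.exists_adj_T hb hbM
  obtain ⟨e', he', heT', h1'⟩ := h.exists_adj_T hd hdM
  obtain ⟨t, ht, rfl⟩ := h.transT he heT he' heT'
  have hb' : t * b * t⁻¹ ∈ E := h.conj b hb t
  have hbM' : t * b * t⁻¹ ∉ M := conj_notM hbM (h.TM ht)
  have h2 : f (t * b * t⁻¹) (c (t * e * t⁻¹)) = 1 := by rw [h.p_conj hb he, h1]
  rcases h.eq_or_conj hb' hbM' hd hdM he' (h.TM heT') h2 h1' with h3 | h3
  · exact ⟨t, ht, h3⟩
  · refine ⟨t * e * t⁻¹ * t, mul_mem heT' ht, ?_⟩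
    rw [h3]; group

end Hyp

end Cfsg.Agent.Omega.Tv
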