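import Cfsg.Agent.Omega.FF.TvCore

/-!
# The transvection half of the FF-theorem for minimal parabolics: an arbitrary faithful module

helper670, OMEGA / FF, paper text bb #11436.

`Pre ρ E c f T M` (`V` any faithful module) gives the hypothesis `Hyp` of the core for the section
`[V,N]/C_{[V,N]}(N)`, `N = ⟨E⟩`; since the pairings `f x (c y)` are the same, all combinatorial
conclusions hold for `V` itself: `Out`.
-/

set_option autoImplicit false
set_option linter.unusedSectionVars false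

namespace Cfsg.Agent.Omega.Tv

open Subgroup Cfsg

section Rep

variable {H : Type*} [Group H] {X : Type*} [AddCommGroup X] [Module (ZMod 2) X]

/-- A representation by endomorphisms gives one by automorphisms. -/
def mkRho (A : H →* Module.End (ZMod 2) X) : H →* (X ≃ₗ[ZMod 2] X) where
  toFun g := LinearEquiv.ofLinearMap (A g) (A g⁻¹)
    (by rw [← Module.End.mul_eq_comp, ← map_mul, mul_inv_cancel, map_one]; rfl)
    (by rw [← Module.End.mul_eq_comp, ← map_mul, inv_mul_cancel, map_one]; rfl)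
  map_one' := by ext v; show A 1 v = v; rw [map_one]; rfl
  map_mul' g h := by ext v; show A (g * h) v = A g (A h v); rw [map_mul]; rfl

theorem mkRho_apply (A : H →* Module.End (ZMod 2) X) (g : H) (v : X) : mkRho A g v = A g v := rfl

/-- The dual representation. -/
def dualEnd (ρ : H →* (X ≃ₗ[ZMod 2] X)) : H →* Module.End (ZMod 2) (X →ₗ[ZMod 2] ZMod 2) where
  toFun g :=
    { toFun := fun φ => φ.comp (ρ g⁻¹ : X →ₗ[ZMod 2] X)
      map_add' := fun φ ψ => by ext v; rfl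
      map_smul' := fun a φ => by ext v; rfl }
  map_one' := by
    ext φ v
    show φ (ρ 1⁻¹ v) = φ v
    rw [inv_one, rone]
  map_mul' g h := by
    ext φ v
    show φ (ρ (g * h)⁻¹ v) = φ (ρ h⁻¹ (ρ g⁻¹ v))
    rw [mul_inv_rev, rmul]

theorem dual_apply (ρ : H →* (X ≃ₗ[ZMod 2] X)) (g : H) (φ : X →ₗ[ZMod 2] ZMod 2) (v : X) :
    mkRho (dualEnd ρ) g φ v = φ (ρ g⁻¹ v) := rfl

end Rep

variable {H : Type*} [Group H] {V : Type*} [AddCommGroup V] [Module (ZMod 2) V]
  {ρ : H →* (V ≃ₗ[ZMod 2] V)} {E : Set H} {c : H → V} {f : H → V →ₗ[ZMod 2] ZMod 2}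

/-- `[V,N]` -/
def Wsp (E : Set H) (c : H → V) : Submodule (ZMod 2) V := Submodule.span (ZMod 2) (c '' E)

/-- `C_{[V,N]}(N)` -/
def Zsp (E : Set H) (c : H → V) (f : H → V →ₗ[ZMod 2] ZMod 2) :
    Submodule (ZMod 2) (Wsp E c) where
  carrier := {w | ∀ e ∈ E, f e (w : V) = 0}
  zero_mem' := fun e _ => map_zero _
  add_mem' := fun {a b} ha hb e he => by
    show f e ((a : V) + (b : V)) = 0
    rw [map_add, ha e he, hb e he, add_zero]
  smul_mem' := fun r a ha e he => by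
    show f e (r • (a : V)) = 0
    rw [map_smul, ha e he, smul_zero]

theorem c_mem {x : H} (hx : x ∈ E) : c x ∈ Wsp E c := Submodule.subset_span ⟨x, hx, rfl⟩

open Classical in
/-- `c` as a member of `[V,N]` -/
noncomputable def cW (E : Set H) (c : H → V) (x : H) : Wsp E c :=
  if h : x ∈ E then ⟨c x, c_mem h⟩ else 0

theorem cW_eq {x : H} (hx : x ∈ E) : cW E c x = ⟨c x, c_mem hx⟩ := dif_pos hx

open Classical in
/-- `f` on `[V,N]/C_{[V,N]}(N)` -/
noncomputable def fQ (E : Set H) (c : H → V) (f : H → V →ₗ[ZMod 2] ZMod 2) (x : H) :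
    (Wsp E c ⧸ Zsp E c f) →ₗ[ZMod 2] ZMod 2 :=
  if h : x ∈ E then (Zsp E c f).liftQ ((f x).comp (Wsp E c).subtype) (fun _ hw => hw x h) else 0

theorem fQ_mk {x : H} (hx : x ∈ E) (w : Wsp E c) :
    fQ E c f x ((Zsp E c f).mkQ w) = f x (w : V) := by
  unfold fQ
  rw [dif_pos hx]
  rfl

namespace Sys

variable (S : Sys ρ E c f)

include S

theorem W_inv (g : H) : ∀ w ∈ Wsp E c, (ρ g : V →ₗ[ZMod 2] V) w ∈ Wsp E c := by
  intro w hw
  have : Submodule.map (ρ g : V →ₗ[ZMod 2] V) (Wsp E c) ≤ Wsp E c := by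
    unfold Wsp
    rw [Submodule.map_span_le]
    rintro _ ⟨x, hx, rfl⟩
    show ρ g (c x) ∈ _
    rw [← S.c_conj hx g]
    exact Submodule.subset_span ⟨_, S.conj x hx g, rfl⟩
  exact this ⟨w, hw, rfl⟩

theorem Z_inv (g : H) : Zsp E c f ≤ (Zsp E c f).comap
    ((ρ g : V →ₗ[ZMod 2] V).restrict (S.W_inv g)) := by
  intro w hw e he
  show f e (ρ g (w : V)) = 0
  have h1 := S.f_conj he g⁻¹ (w : V)
  rw [inv_inv] at h1
  rw [← h1]
  have h2 := S.conj e he g⁻¹
  rw [inv_inv] at h2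
  exact hw _ h2

/-- The action on the section. -/
noncomputable def endQ : H →* Module.End (ZMod 2) (Wsp E c ⧸ Zsp E c f) where
  toFun g := (Zsp E c f).mapQ (Zsp E c f) _ (S.Z_inv g)
  map_one' := by
    apply Submodule.linearMap_qext
    ext w
    show (Zsp E c f).mkQ ⟨ρ 1 (w : V), S.W_inv 1 w w.2⟩ = (Zsp E c f).mkQ w
    congr 1
    exact Subtype.ext (rone ρ _)
  map_mul' g h := by
    apply Submodule.linearMap_qext
    ext w
    show (Zsp E c f).mkQ ⟨ρ (g * h) (w : V), S.W_inv (g * h) w w.2⟩ =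
      (Zsp E c f).mkQ ⟨ρ g (ρ h (w : V)), S.W_inv g _ (S.W_inv h w w.2)⟩
    congr 1
    exact Subtype.ext (rmul ρ _ _ _)

/-- The action on the section. -/
noncomputable def rhoQ : H →* ((Wsp E c ⧸ Zsp E c f) ≃ₗ[ZMod 2] (Wsp E c ⧸ Zsp E c f)) :=
  mkRho S.endQ

theorem rhoQ_mk (g : H) (w : Wsp E c) : S.rhoQ g ((Zsp E c f).mkQ w) =
    (Zsp E c f).mkQ ⟨ρ g (w : V), S.W_inv g w w.2⟩ := rfl

/-- `⟨E⟩` is normal. -/
theorem normalE : (closure E).Normal := ⟨fun k hk g =>
    conj_closure (fun a ha => subset_closure (S.conj a ha g)) k hk⟩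

/-- The elements of `E` do not all commute. -/
theorem not_all_zero (ho : pCore 2 H = ⊥) : ∃ x ∈ E, ∃ y ∈ E, f x (c y) ≠ 0 := by
  by_contra hcon
  push Not at hcon
  have hcomm : ∀ x ∈ E, ∀ y ∈ E, y * x = x * y := fun x hx y hy =>
    S.comm_of hx hy (hcon x hx y hy) (hcon y hy x hx)
  have h1 : ∀ k ∈ closure E, ∀ x ∈ E, k * x = x * k := by
    intro k hk x hx
    have : closure E ≤ centralizer {x} := by
      rw [closure_le]
      intro y hy
      rw [SetLike.mem_coe, mem_centralizer_singleton_iff]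
      exact hcomm x hx y hy
    exact mem_centralizer_singleton_iff.mp (this hk)
  have h2 : ∀ k ∈ closure E, ∀ l ∈ closure E, k * l = l * k := by
    intro k hk l hl
    have : closure E ≤ centralizer {k} := by
      rw [closure_le]
      intro y hy
      rw [SetLike.mem_coe, mem_centralizer_singleton_iff]
      exact (h1 k hk y hy).symm
    exact (mem_centralizer_singleton_iff.mp (this hl)).symm
  have h3 : ∀ k ∈ closure E, k * k = 1 := by
    intro k hk
    induction hk using closure_induction with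
    | mem x hx => exact S.sq hx
    | one => simp
    | mul x y hx hy h4 h5 =>
      have : x * y * (x * y) = (x * x) * (y * y) := by
        rw [mul_assoc, ← mul_assoc y x y, h2 y hy x hx]
        simp only [mul_assoc]
      rw [this, h4, h5, one_mul]
    | inv x hx h4 =>
      rw [← mul_inv_rev, h4, inv_one]
  have h4 : IsPGroup 2 (closure E) := by
    rintro ⟨k, hk⟩
    exact ⟨1, Subtype.ext (by
      show k ^ (2 ^ 1) = 1
      rw [pow_one, pow_two, h3 k hk])⟩
  have h5 := Lib.Cores.le_pCore S.normalE h4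
  rw [ho, le_bot_iff] at h5
  obtain ⟨x, hx⟩ := S.ne
  have h6 : x ∈ closure E := subset_closure hx
  rw [h5, mem_bot] at h6
  exact S.ne_one hx h6

theorem exists_f (ho : pCore 2 H = ⊥) {x : H} (hx : x ∈ E) : ∃ y ∈ E, f x (c y) = 1 := by
  obtain ⟨a, ha, b, hb, hab⟩ := S.not_all_zero ho
  obtain ⟨g, rfl⟩ := S.tra a ha x hx
  refine ⟨g * b * g⁻¹, S.conj b hb g, ?_⟩
  rw [S.p_conj ha hb]
  exact z2_ne_zero hab

theorem exists_c (ho : pCore 2 H = ⊥) {x : H} (hx : x ∈ E) : ∃ y ∈ E, f y (c x) = 1 := by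
  obtain ⟨a, ha, b, hb, hab⟩ := S.not_all_zero ho
  obtain ⟨g, rfl⟩ := S.tra b hb x hx
  refine ⟨g * a * g⁻¹, S.conj a ha g, ?_⟩
  rw [S.p_conj ha hb]
  exact z2_ne_zero hab

theorem trQ (ho : pCore 2 H = ⊥) {x : H} (hx : x ∈ E) :
    IsTr S.rhoQ x ((Zsp E c f).mkQ (cW E c x)) (fQ E c f x) where
  fc := by
    rw [fQ_mk hx, cW_eq hx]
    exact S.pself hx
  c_ne := by
    intro h0
    rw [Submodule.mkQ_apply, Submodule.Quotient.mk_eq_zero, cW_eq hx] at h0
    obtain ⟨y, hy, h1⟩ := S.exists_c ho hx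
    have h2 : f y (c x) = 0 := h0 y hy
    rw [h2] at h1
    exact zero_ne_one h1
  f_ne := by
    intro h0
    obtain ⟨y, hy, h1⟩ := S.exists_f ho hx
    have h2 : fQ E c f x ((Zsp E c f).mkQ (cW E c y)) = 0 := by rw [h0]; rfl
    rw [fQ_mk hx, cW_eq hy] at h2
    have h3 : f x (c y) = 0 := h2
    rw [h3] at h1
    exact zero_ne_one h1
  act := by
    intro v
    obtain ⟨w, rfl⟩ := (Zsp E c f).mkQ_surjective v
    rw [S.rhoQ_mk, fQ_mk hx, ← map_smul, ← map_add]
    congr 1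
    apply Subtype.ext
    show ρ x (w : V) = (w : V) + f x (w : V) • ((cW E c x : Wsp E c) : V)
    rw [cW_eq hx, S.act hx]

end Sys

/-- The combinatorial conclusions. -/
structure Out (ρ : H →* (V ≃ₗ[ZMod 2] V)) (E : Set H) (c : H → V)
    (f : H → V →ₗ[ZMod 2] ZMod 2) (T : Sylow 2 H) (M : Subgroup H) : Prop extends
    Pre ρ E c f T M where
  sym : ∀ x ∈ E, ∀ y ∈ E, f x (c y) = f y (c x)
  p_T : ∀ x ∈ E, x ∈ T → ∀ y ∈ E, y ∈ T → f x (c y) = 0
  adj : ∀ b ∈ E, b ∉ M → ∃ e ∈ E, e ∈ T ∧ f b (c e) = 1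
  mem_T : ∀ x ∈ E, (∀ e ∈ E, e ∈ T → f x (c e) = 0) → x ∈ T
  uniq_adj : ∀ b ∈ E, b ∉ M → ∀ e ∈ E, e ∈ T → ∀ e' ∈ E, e' ∈ T → f b (c e) = 1 →
    f b (c e') = 1 → e = e'
  uniq_adjM : ∀ b ∈ E, b ∉ M → ∀ e ∈ E, e ∈ M → ∀ e' ∈ E, e' ∈ M → f e (c e') = 0 →
    f b (c e) = 1 → f b (c e') = 1 → e = e'
  trans : ∀ a ∈ E, a ∉ M → ∀ b ∈ E, b ∉ M → ∀ d ∈ E, d ∉ M → f a (c b) = 1 → f b (c d) = 1 →
    a = d ∨ f a (c d) = 1
  transT : ∀ e ∈ E, e ∈ T → ∀ e' ∈ E, e' ∈ T → ∃ t ∈ T, e' = t * e * t⁻¹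
  eq_or_conj : ∀ b ∈ E, b ∉ M → ∀ d ∈ E, d ∉ M → ∀ e ∈ E, e ∈ M → f b (c e) = 1 →
    f d (c e) = 1 → d = b ∨ d = e * b * e⁻¹
  transD : ∀ b ∈ E, b ∉ M → ∀ d ∈ E, d ∉ M → ∃ t ∈ T, d = t * b * t⁻¹
  third : ∀ a ∈ E, a ∉ M → ∀ b ∈ E, b ∉ M → f a (c b) = 1 → a * b * a⁻¹ ∈ M
  eq_of_p : ∀ x ∈ E, ∀ y ∈ E, (∀ z ∈ E, f z (c x) = f z (c y)) → x = y

theorem Hyp.third [Finite H] {T : Sylow 2 H} {M : Subgroup H} {v0 : V}
    {f0 : V →ₗ[ZMod 2] ZMod 2} (h : Hyp ρ E c f T M v0 f0) {a b : H} (ha : a ∈ E) (haM : a ∉ M)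
    (hb : b ∈ E) (hbM : b ∉ M) (h1 : f a (c b) = 1) : a * b * a⁻¹ ∈ M := by
  rw [h.mem_M_iff' (h.conj b hb a), h.f_conj' hb ha, h.fv0 hb hbM, h.fv0 ha haM,
    ← h.sym ha hb, h1]
  exact z2_add_self 1

namespace Pre

variable [Finite H] {T : Sylow 2 H} {M : Subgroup H} (h : Pre ρ E c f T M)

include h

/-- The section is faithful. -/
theorem injQ : Function.Injective h.rhoQ := by
  rw [injective_iff_map_eq_one]
  have hN := h.normalE
  -- `N` acts trivially on `V/W` and on `Z`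
  have hNW : ∀ n ∈ closure E, ∀ v, ρ n v + v ∈ Wsp E c := by
    intro n hn
    induction hn using closure_induction with
    | mem x hx =>
      intro v
      rw [h.act hx]
      have : v + f x v • c x + v = f x v • c x := by
        rw [add_right_comm, v_add_self, zero_add]
      rw [this]
      exact Submodule.smul_mem _ _ (c_mem hx)
    | one =>
      intro v
      rw [rone, v_add_self]
      exact Submodule.zero_mem _
    | mul x y _ _ hx hy =>
      intro v
      rw [rmul]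
      have : ρ x (ρ y v) + v = (ρ x (ρ y v) + ρ y v) + (ρ y v + v) := by
        rw [add_assoc, ← add_assoc (ρ y v), v_add_self, zero_add]
      rw [this]
      exact Submodule.add_mem _ (hx _) (hy _)
    | inv x _ hx =>
      intro v
      have := hx (ρ x⁻¹ v)
      rwa [rinv', add_comm] at this
  have hNZ : ∀ n ∈ closure E, ∀ w : Wsp E c, w ∈ Zsp E c f → ρ n (w : V) = w := by
    intro n hn w hw
    have hle : closure E ≤ stv ρ (w : V) := (closure_le _).mpr (by
      intro x hx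
      show ρ x (w : V) = w
      rw [h.act hx, hw x hx, zero_smul, add_zero])
    exact hle hn
  -- elements of the kernel inside `N` have exponent 4
  have h4 : ∀ k ∈ closure E, h.rhoQ k = 1 → k ^ 4 = 1 := by
    intro k hk hk1
    have hW : ∀ w : Wsp E c, ∀ hw : ρ k (w : V) + w ∈ Wsp E c,
        (⟨ρ k (w : V) + w, hw⟩ : Wsp E c) ∈ Zsp E c f := by
      intro w hw
      have h1 : h.rhoQ k ((Zsp E c f).mkQ w) = (Zsp E c f).mkQ w := by rw [hk1]; rfl
      rw [h.rhoQ_mk, Submodule.mkQ_apply, Submodule.mkQ_apply, Submodule.Quotient.eq] at h1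
      have h2 : (⟨ρ k (w : V) + w, hw⟩ : Wsp E c) =
          ⟨ρ k (w : V), h.W_inv k w w.2⟩ - w := by
        apply Subtype.ext
        show ρ k (w : V) + w = ρ k (w : V) - w
        rw [sub_eq_add_neg, ZModModule.neg_eq_self]
      rw [h2]
      exact h1
    apply h.eq_one_of_act
    intro v
    -- put `a = k v + v ∈ W`, `b = k a + a ∈ Z`
    have ha := hNW k hk v
    set a := ρ k v + v with hadef
    have hb := hNW k hk a
    have hbZ := hW ⟨a, ha⟩ hb
    set b := ρ k a + a with hbdef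
    have hkb : ρ k b = b := hNZ k hk ⟨b, hb⟩ hbZ
    have e1 : ρ k v = a + v := by rw [hadef, add_assoc, v_add_self, add_zero]
    have e2 : ρ k a = b + a := by rw [hbdef, add_assoc, v_add_self, add_zero]
    have e3 : k ^ 4 = k * (k * (k * k)) := by
      simp only [pow_succ, pow_zero, one_mul, mul_assoc]
    have s2 : ρ k (a + v) = b + v := by
      rw [map_add, e2, e1, add_assoc, ← add_assoc a, v_add_self, zero_add]
    have s3 : ρ k (b + v) = b + (a + v) := by rw [map_add, hkb, e1]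
    have s4 : ρ k (b + (a + v)) = v := by
      rw [map_add, hkb, s2, ← add_assoc, v_add_self, zero_add]
    rw [e3, rmul, rmul, rmul, e1, s2, s3, s4]
  have hpow : ∀ g : H, ∃ s : ℕ, g ^ 2 ^ s ∈ closure E := by
    intro g
    have hg : g ∈ closure E ⊔ (T : Subgroup H) := by
      rw [← h.closureD, h.sup_T]
      exact mem_top g
    obtain ⟨n, hn, t, ht, rfl⟩ := mem_sup_of_normal_left.mp hg
    obtain ⟨s, hs⟩ := T.isPGroup' ⟨t, ht⟩
    have hs' : t ^ 2 ^ s = 1 := congrArg Subtype.val hs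
    refine ⟨s, ?_⟩
    rw [← QuotientGroup.eq_one_iff, QuotientGroup.mk_pow, QuotientGroup.mk_mul,
      (QuotientGroup.eq_one_iff n).mpr hn, one_mul, ← QuotientGroup.mk_pow, hs',
      QuotientGroup.mk_one]
  have hK : IsPGroup 2 h.rhoQ.ker := by
    rintro ⟨k, hk⟩
    obtain ⟨s, hs⟩ := hpow k
    refine ⟨s + 2, Subtype.ext ?_⟩
    show k ^ 2 ^ (s + 2) = 1
    rw [pow_add, pow_mul]
    apply h4 _ hs
    rw [map_pow, MonoidHom.mem_ker.mp hk, one_pow]
  have h5 := Lib.Cores.le_pCore (N := h.rhoQ.ker) inferInstance hK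
  rw [h.o2, le_bot_iff] at h5
  intro k hk
  have h6 : k ∈ h.rhoQ.ker := hk
  rwa [h5, mem_bot] at h6

theorem sysQ : Sys h.rhoQ E (fun x => (Zsp E c f).mkQ (cW E c x)) (fQ E c f) where
  tr := fun _ hx => h.trQ h.o2 hx
  conj := h.conj
  tra := h.tra
  ne := h.ne
  inj := h.injQ

theorem preQ : Pre h.rhoQ E (fun x => (Zsp E c f).mkQ (cW E c x)) (fQ E c f) T M where
  toSys := h.sysQ
  TM := h.TM
  M_ne := h.M_ne
  uniq := h.uniq
  o2 := h.o2

theorem exists_hyp : ∃ v0 f0, Hyp h.rhoQ E (fun x => (Zsp E c f).mkQ (cW E c x)) (fQ E c f)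
    T M v0 f0 := by
  obtain ⟨x, hx⟩ := h.ne
  obtain ⟨v0, -, hv0, hv0T⟩ := exists_fixed h.rhoQ T.isPGroup' ⊤
    (fun _ _ _ _ => AddSubgroup.mem_top _) (v := (Zsp E c f).mkQ (cW E c x))
    (AddSubgroup.mem_top _) (h.trQ h.o2 hx).c_ne
  obtain ⟨f0, -, hf0, hf0T⟩ := exists_fixed (mkRho (dualEnd h.rhoQ)) T.isPGroup' ⊤
    (fun _ _ _ _ => AddSubgroup.mem_top _) (v := fQ E c f x)
    (AddSubgroup.mem_top _) (h.trQ h.o2 hx).f_ne
  refine ⟨v0, f0, ?_⟩
  refine { toPre := h.preQ, fix := ?_, v0_ne := hv0, v0_fix := hv0T, f0_T := ?_, f0_not := ?_ }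
  · intro v hv
    obtain ⟨w, rfl⟩ := (Zsp E c f).mkQ_surjective v
    rw [Submodule.mkQ_apply, Submodule.Quotient.mk_eq_zero]
    intro e he
    have h1 := hv e
    rw [(h.trQ h.o2 he).act, fQ_mk he] at h1
    rcases z2 (f e (w : V)) with h2 | h2
    · exact h2
    · rw [h2, one_smul] at h1
      exact absurd (by simpa using h1) (h.trQ h.o2 he).c_ne
  · intro t ht v
    have h1 := hf0T t⁻¹ (inv_mem ht)
    have h2 : mkRho (dualEnd h.rhoQ) t⁻¹ f0 v = f0 v := by rw [h1]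
    rwa [dual_apply, inv_inv] at h2
  · by_contra hcon
    push Not at hcon
    apply hf0
    apply Submodule.linearMap_qext
    have hz : ∀ e ∈ E, f0 ((Zsp E c f).mkQ (cW E c e)) = 0 := by
      intro e he
      obtain ⟨v, hv⟩ := (h.trQ h.o2 he).exists_one
      have h1 := hcon e v
      rw [(h.trQ h.o2 he).act, hv, one_smul, map_add] at h1
      simpa using h1
    have hle : Wsp E c ≤ (LinearMap.ker (f0.comp (Zsp E c f).mkQ)).map (Wsp E c).subtype := by
      refine Submodule.span_le.mpr ?_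
      rintro _ ⟨e, he, rfl⟩
      refine ⟨cW E c e, ?_, by rw [cW_eq he]; rfl⟩
      exact hz e he
    ext w
    obtain ⟨w', hw', hww⟩ := hle w.2
    have : w' = w := Subtype.ext hww
    rw [← this]
    exact hw'

/-- **Theorem TV, combinatorial part, for an arbitrary faithful module.** -/
theorem out : Out ρ E c f T M := by
  obtain ⟨v0, f0, g⟩ := h.exists_hyp
  have hp : ∀ x ∈ E, ∀ y ∈ E, fQ E c f x ((Zsp E c f).mkQ (cW E c y)) = f x (c y) := by
    intro x hx y hy
    rw [fQ_mk hx, cW_eq hy]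
  refine { toPre := h, sym := ?_, p_T := ?_, adj := ?_, mem_T := ?_, uniq_adj := ?_,
           uniq_adjM := ?_, trans := ?_, transT := ?_, eq_or_conj := ?_, transD := ?_,
           third := ?_, eq_of_p := ?_ }
  · intro x hx y hy
    rw [← hp x hx y hy, ← hp y hy x hx]
    exact g.sym hx hy
  · intro x hx hxT y hy hyT
    rw [← hp x hx y hy]
    exact g.p_T hx hy hxT hyT
  · intro b hb hbM
    obtain ⟨e, he, heT, h1⟩ := g.exists_adj_T hb hbM
    exact ⟨e, he, heT, by rw [← hp b hb e he]; exact h1⟩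
  · intro x hx h0
    exact g.mem_T_of_cent hx fun e he heT => (hp x hx e he).trans (h0 e he heT)
  · intro b hb hbM e he heT e' he' heT' h1 h1'
    exact g.uniq_adj hb hbM he heT he' heT' ((hp b hb e he).trans h1) ((hp b hb e' he').trans h1')
  · intro b hb hbM e he heM e' he' heM' h0 h1 h1'
    exact g.uniq_adjM hb hbM he heM he' heM' ((hp e he e' he').trans h0)
      ((hp b hb e he).trans h1) ((hp b hb e' he').trans h1')
  · intro a ha haM b hb hbM d hd hdM h1 h2
    rw [← hp a ha d hd]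
    exact g.trans ha haM hb hbM hd hdM ((hp a ha b hb).trans h1) ((hp b hb d hd).trans h2)
  · intro e he heT e' he' heT'
    exact g.transT he heT he' heT'
  · intro b hb hbM d hd hdM e he heM h1 h2
    exact g.eq_or_conj hb hbM hd hdM he heM ((hp b hb e he).trans h1) ((hp d hd e he).trans h2)
  · intro b hb hbM d hd hdM
    exact g.transD hb hbM hd hdM
  · intro a ha haM b hb hbM h1
    exact g.third ha haM hb hbM ((hp a ha b hb).trans h1)
  · intro x hx y hy hxy
    apply g.eq_c hx hy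
    rw [Submodule.mkQ_apply, Submodule.mkQ_apply, Submodule.Quotient.eq]
    intro z hz
    show f z (((cW E c x : Wsp E c) : V) - ((cW E c y : Wsp E c) : V)) = 0
    rw [cW_eq hx, cW_eq hy, map_sub, hxy z hz, sub_self]

end Pre

end Cfsg.Agent.Omega.Tv
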