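import Cfsg.Agent.Omega.FF.TvPts

/-!
# The transvection half of the FF-theorem for minimal parabolics: offenders, continued

helper670, OMEGA / FF.

`Out.off_mem`: an offender `A ≤ T` contains each transvection `e ∈ E ∩ T` occurring in a member of
`A`; `Enum.off_acts`: the same on the points.
-/

set_option autoImplicit false
set_option linter.unusedSectionVars false

namespace Cfsg.Agent.Omega.Tv

open Subgroup Cfsg

variable {H : Type*} [Group H] {V : Type*} [AddCommGroup V] [Module (ZMod 2) V]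
  {ρ : H →* (V ≃ₗ[ZMod 2] V)} {E : Set H} {c : H → V} {f : H → V →ₗ[ZMod 2] ZMod 2}
  {T : Sylow 2 H} {M : Subgroup H}

namespace Out

variable [Finite H] (h : Out ρ E c f T M)

include h

/-- `σ(a) = σ(b)` implies `a = b` -/
theorem sg_eq {a b : H} (ha : a ∈ T) (hb : b ∈ T) (hX : ∀ e : XT E T, a * e * a⁻¹ = e)
    (hX' : ∀ e : XT E T, b * e * b⁻¹ = e) (hab : h.sg a = h.sg b) : a = b := by
  have hXi : ∀ e : XT E T, b⁻¹ * e * b⁻¹⁻¹ = e := by
    intro e
    have h1 := hX' e
    rw [mul_inv_eq_iff_eq_mul] at h1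
    rw [inv_inv, mul_assoc, ← h1, inv_mul_cancel_left]
  have h1 : a * b⁻¹ = 1 := by
    apply h.sg_inj (mul_mem ha (invT hb))
    · intro e
      have : a * b⁻¹ * e * (a * b⁻¹)⁻¹ = a * (b⁻¹ * e * b⁻¹⁻¹) * a⁻¹ := by group
      rw [this, hXi, hX]
    · rw [h.sg_mul ha (invT hb) hX hXi]
      have h2 : h.sg (b * b⁻¹) = h.sg b + h.sg b⁻¹ := h.sg_mul hb (invT hb) hX' hXi
      have h3 : h.sg (b * b⁻¹) = 0 := by
        ext e
        show f (h.bb e) (ρ (b * b⁻¹) (c (h.bb e))) = 0
        rw [mul_inv_cancel, rone, h.pself (h.bbE e)]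
      rw [hab, ← h2, h3]
  exact mul_inv_eq_one.mp h1

theorem off_mem {A : Subgroup H} (hA : A ≤ (T : Subgroup H))
    (hab : ∀ a ∈ A, ∀ b ∈ A, a * b = b * a) [Finite V]
    (hle : Nat.card V ≤ Nat.card A * Nat.card (cv ρ A)) {a : H} (ha : a ∈ A) {e : XT E T}
    (he : h.sg a e = 1) : (e : H) ∈ A := by
  classical
  have : Fintype (XT E T) := Fintype.ofFinite _
  have hJ := h.off_eq hA hab hle
  have hX : ∀ a ∈ A, ∀ e : XT E T, a * e * a⁻¹ = e := fun a ha e => h.J0_comm (hJ ha) e
  let S : Set (XT E T) := {e | ∃ a ∈ A, h.sg a e = 1}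
  let R := XT E T → ZMod 2
  let RS : AddSubgroup R :=
    { carrier := {r | ∀ e, e ∉ S → r e = 0}
      zero_mem' := fun _ _ => rfl
      add_mem' := fun {r s} hr hs e he => by rw [Pi.add_apply, hr e he, hs e he, add_zero]
      neg_mem' := fun {r} hr e he => by rw [Pi.neg_apply, hr e he, neg_zero] }
  let R' : AddSubgroup R :=
    { carrier := {r | ∀ e, e ∈ S → r e = 0}
      zero_mem' := fun _ _ => rfl
      add_mem' := fun {r s} hr hs e he => by rw [Pi.add_apply, hr e he, hs e he, add_zero]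
      neg_mem' := fun {r} hr e he => by rw [Pi.neg_apply, hr e he, neg_zero] }
  have c1 : Nat.card RS * Nat.card R' ≤ Nat.card R := by
    let F : RS × R' → R := fun p => (p.1 : R) + p.2
    have hF : Function.Injective F := by
      rintro ⟨⟨r, hr⟩, ⟨s, hs⟩⟩ ⟨⟨r', hr'⟩, ⟨s', hs'⟩⟩ heq
      have h1 : r + s = r' + s' := heq
      have h2 : r = r' := by
        ext e
        by_cases heS : e ∈ S
        · have h3 := congrFun h1 e
          rw [Pi.add_apply, Pi.add_apply, hs e heS, hs' e heS, add_zero, add_zero] at h3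
          exact h3
        · rw [hr e heS, hr' e heS]
      subst h2
      have h3 : s = s' := add_left_cancel h1
      subst h3
      rfl
    have := Nat.card_le_card_of_injective F hF
    rwa [Nat.card_prod] at this
  -- the image of C_V(A)
  have hPh : (cv ρ A).map (Phi E T f) ≤ R' := by
    rintro _ ⟨v, hv, rfl⟩ e ⟨a, ha, hae⟩
    have haT := hA ha
    have h2 := h.act_b (e := e) haT (hX a ha e) (h.bbE e) (h.bbM e) (h.bb1 e)
    rcases h.a_bb haT (hX a ha e) (h.bbE e) (h.bbM e) (h.bb1 e) with h3 | h3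
    · exfalso
      rw [← h.c_conj (h.bbE e), h3, hae, one_smul] at h2
      exact (h.tr e e.2.1).c_ne (by simpa using h2.symm)
    · have h4 : f (a * h.bb e * a⁻¹) v = f (h.bb e) v := by
        rw [h.f_conj (h.bbE e), hv _ (inv_mem ha)]
      rw [h3, h.f_conj' (h.bbE e) e.2.1, h.bb1, mul_one] at h4
      show f e v = 0
      simpa using h4
  have t1 : Nat.card V = Nat.card R * Nat.card (Phi E T f).ker := by
    rw [card_hom (Phi E T f), AddMonoidHom.range_eq_top.mpr h.Phi_surj,
      Nat.card_congr AddSubgroup.topEquiv.toEquiv]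
  have t2 : Nat.card (cv ρ A) ≤ Nat.card R' * Nat.card (Phi E T f).ker := by
    have h1 := card_hom ((Phi E T f).comp (cv ρ A).subtype)
    rw [h1]
    refine Nat.mul_le_mul ?_ ?_
    · apply AddSubgroup.card_le_of_le
      rintro _ ⟨v, rfl⟩
      exact hPh ⟨v, v.2, rfl⟩
    · refine Nat.card_le_card_of_injective (fun v => (⟨((v : cv ρ A) : V), v.2⟩ :
        (Phi E T f).ker)) ?_
      intro v w hvw
      have h2 : ((v : cv ρ A) : V) = ((w : cv ρ A) : V) :=
        congrArg (fun z : (Phi E T f).ker => (z : V)) hvw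
      exact Subtype.ext (Subtype.ext h2)
  have hK0 : 0 < Nat.card (Phi E T f).ker := Nat.card_pos
  have hR0 : 0 < Nat.card R' := Nat.card_pos
  have c2 : Nat.card R ≤ Nat.card A * Nat.card R' := by
    have h1 : Nat.card R * Nat.card (Phi E T f).ker ≤
        Nat.card A * Nat.card R' * Nat.card (Phi E T f).ker := by
      calc _ = Nat.card V := t1.symm
        _ ≤ Nat.card A * Nat.card (cv ρ A) := hle
        _ ≤ Nat.card A * (Nat.card R' * Nat.card (Phi E T f).ker) := Nat.mul_le_mul_left _ t2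
        _ = _ := by ring
    exact Nat.le_of_mul_le_mul_right h1 hK0
  have c3 : Nat.card RS ≤ Nat.card A := Nat.le_of_mul_le_mul_right (c1.trans c2) hR0
  let g : A → RS := fun a => ⟨h.sg (a : H), fun e he => by
    rcases z2 (h.sg (a : H) e) with h1 | h1
    · exact h1
    · exact absurd ⟨a, a.2, h1⟩ he⟩
  have hg : Function.Injective g := by
    intro x y hxy
    exact Subtype.ext (h.sg_eq (hA x.2) (hA y.2) (hX x x.2) (hX y y.2)
      (congrArg Subtype.val hxy))
  have hgb := hg.bijective_of_nat_card_le c3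
  obtain ⟨x, hx⟩ := hgb.2 ⟨Pi.single e 1, fun e' he' => by
    rw [Pi.single_eq_of_ne]
    rintro rfl
    exact he' ⟨a, ha, he⟩⟩
  have h1 : h.sg (x : H) = Pi.single e 1 := congrArg Subtype.val hx
  have h2 : (x : H) = e := by
    apply h.sg_eq (hA x.2) e.2.2 (hX x x.2) (h.X_comm e)
    rw [h1, h.sg_X]
  rw [← h2]
  exact x.2

end Out

namespace Enum

variable {k m : ℕ} {β : Fin k × Fin (2 ^ m) → H} (en : Enum E c f M k m β) [Finite H]
  (h : Out ρ E c f T M)

include en h

/-- An offender acts on the points as a product of transpositions which it contains. -/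
theorem off_acts {A : Subgroup H} (hA : A ≤ (T : Subgroup H))
    (hab : ∀ a ∈ A, ∀ b ∈ A, a * b = b * a) [Finite V]
    (hle : Nat.card V ≤ Nat.card A * Nat.card (Out.cv ρ A)) {a : H} (ha : a ∈ A) :
    ∃ τ : Fin k → Equiv.Perm (Fin (2 ^ m + 1)), Acts ρ (ph f β) a 1 τ ∧
      ∀ i x, τ i x ≠ x → τ i (τ i x) = x ∧ ∃ b ∈ A, Acts ρ (ph f β) b 1
        (msg i (Equiv.swap x (τ i x))) := by
  have hJ := h.off_eq hA hab hle
  have hX : ∀ e : XT E T, a * e * a⁻¹ = e := fun e => h.J0_comm (hJ ha) e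
  obtain ⟨σ, τ, h1, h0, hs⟩ := en.acts_T h (hA ha)
  -- for each point `β (i,x)`
  have key : ∀ i x, ∃ e : XT E T, f (β (i, x)) (c (e : H)) = 1 ∧
      (a * β (i, x) * a⁻¹ = β (i, x) ∨ (a * β (i, x) * a⁻¹ = e * β (i, x) * (e : H)⁻¹ ∧
        h.sg a e = 1)) := by
    intro i x
    obtain ⟨e, he, heT, h2⟩ := h.adj _ (en.mem (i, x)) (en.notM (i, x))
    refine ⟨⟨e, he, heT⟩, h2, ?_⟩
    rcases h.a_bb (e := ⟨e, he, heT⟩) (hA ha) (hX _) (en.mem _) (en.notM _) h2 with h3 | h3
    · exact Or.inl h3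
    · right
      refine ⟨h3, ?_⟩
      have h4 := h.act_b (e := ⟨e, he, heT⟩) (hA ha) (hX _) (en.mem _) (en.notM _) h2
      have h5 : f e (c (β (i, x))) = 1 := by rw [h.sym e he _ (en.mem _), h2]
      rw [← h.c_conj (en.mem _), h3, h.c_conj' (en.mem _) he, h5] at h4
      have h6 := add_left_cancel h4
      rcases z2 (h.sg a ⟨e, he, heT⟩) with h7 | h7
      · rw [h7, one_smul, zero_smul] at h6
        exact absurd h6 (h.tr e he).c_ne
      · exact h7
  have hstep : ∀ i x, ∃ y, a * β (i, x) * a⁻¹ = β (i, y) := by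
    intro i x
    obtain ⟨e, h2, h3 | ⟨h3, -⟩⟩ := key i x
    · exact ⟨x, h3⟩
    · have h4 := h.conj _ (en.mem (i, x)) e
      have h5 := conj_notM (en.notM (i, x)) (h.TM e.2.2)
      obtain ⟨⟨j, y⟩, hq⟩ := en.surj _ h4 h5
      have h6 : f (β (i, x)) (c (β (j, y))) = 1 := by
        rw [hq, h.c_conj' (en.mem _) e.2.1, map_add, map_smul, h.pself (en.mem _), h2,
          h.sym e e.2.1 _ (en.mem _), h2, zero_add, smul_eq_mul, mul_one]
      have h7 := ((en.adj _ _).mp h6).2
      have h8 : i = j := h7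
      subst h8
      exact ⟨y, by rw [h3, hq]⟩
  have hσ : σ = 1 := by
    ext1 i
    have hpos : 0 < 2 ^ m := Nat.pos_of_ne_zero (by positivity)
    obtain ⟨y, hy⟩ := hstep i ⟨0, hpos⟩
    -- compare with `β (σ i, _)`
    have hex : ∃ z, τ i (Fin.succ ⟨0, hpos⟩) = Fin.succ z := by
      rcases Fin.eq_zero_or_eq_succ (τ i (Fin.succ ⟨0, hpos⟩)) with h2 | ⟨z, h2⟩
      · exfalso
        have h3 : Fin.succ ⟨0, hpos⟩ = (0 : Fin (2 ^ m + 1)) := (τ i).injective (by rw [h2, h0])
        exact Fin.succ_ne_zero _ h3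
      · exact ⟨z, h2⟩
    obtain ⟨z, hz⟩ := hex
    have h2 := (hs i ⟨0, hpos⟩ z).mpr hz
    rw [hy] at h2
    have h3 := congrArg Prod.fst (en.inj h2)
    exact h3.symm
  subst hσ
  refine ⟨τ, h1, ?_⟩
  intro i x hne
  rcases Fin.eq_zero_or_eq_succ x with rfl | ⟨x, rfl⟩
  · exact absurd (h0 i) hne
  obtain ⟨y, hy⟩ := hstep i x
  have hτ : τ i x.succ = y.succ := (hs i x y).mp hy
  obtain ⟨e, h2, h3 | ⟨h3, h4⟩⟩ := key i x
  · exfalso
    apply hne
    exact (hs i x x).mp h3
  · have heA := h.off_mem hA hab hle ha h4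
    have h5 : f e (c (β (i, x))) = 1 := by rw [h.sym e e.2.1 _ (en.mem _), h2]
    -- `e = b d b⁻¹`
    have hd : β (i, y) = e * β (i, x) * (e : H)⁻¹ := by rw [← hy, h3]
    have hcd : c (β (i, y)) = c (β (i, x)) + c e := by
      rw [hd, h.c_conj' (en.mem _) e.2.1, h5, one_smul]
    have hbd : f (β (i, x)) (c (β (i, y))) = 1 := by
      rw [hcd, map_add, h.pself (en.mem _), h2, zero_add]
    have he : (e : H) = β (i, x) * β (i, y) * (β (i, x))⁻¹ := by
      apply h.eq_of_p _ e.2.1 _ (h.conj _ (en.mem _) _)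
      intro z _
      rw [h.c_conj' (en.mem _) (en.mem _), hbd, one_smul, hcd, add_right_comm, v_add_self,
        zero_add]
    have hacts : Acts ρ (ph f β) e 1 (msg i (Equiv.swap x.succ y.succ)) := by
      have hb := en.acts_b h (i, x)
      have hd := en.acts_b h (i, y)
      have h6 := (hb.mul1 hd).mul1 hb.inv1
      rw [← he] at h6
      have h7 : msg i (Equiv.swap 0 x.succ) * msg i (Equiv.swap 0 y.succ) *
          (msg i (Equiv.swap 0 x.succ))⁻¹ = msg i (Equiv.swap x.succ y.succ) := by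
        have h8 : Equiv.swap 0 x.succ * Equiv.swap 0 y.succ * Equiv.swap 0 x.succ =
            Equiv.swap x.succ y.succ := by
          rw [Equiv.swap_comm 0 y.succ]
          refine Equiv.swap_mul_swap_mul_swap (x := y.succ) (y := 0) (z := x.succ)
            (Fin.succ_ne_zero y) ?_
          intro h9
          apply hne
          rw [hτ, h9]
        have hmul : ∀ a b : Equiv.Perm (Fin (2 ^ m + 1)), msg i (a * b) = msg i a * msg i b :=
          fun a b => (MonoidHom.mulSingle (fun _ : Fin k => Equiv.Perm (Fin (2 ^ m + 1))) i).map_mul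
            a b
        have hinv : (msg i (Equiv.swap 0 x.succ))⁻¹ = msg i (Equiv.swap 0 x.succ) := by
          rw [inv_eq_iff_mul_eq_one, ← hmul, Equiv.swap_mul_self]
          exact Pi.mulSingle_one i
        rw [hinv, ← hmul, ← hmul, h8]
      rw [← h7]
      exact h6
    refine ⟨?_, e, heA, ?_⟩
    · rw [hτ]
      apply (hs i y x).mp
      have h9 : a * β (i, y) * a⁻¹ = e * (a * β (i, x) * a⁻¹) * (e : H)⁻¹ := by
        have h10 := hX e
        rw [mul_inv_eq_iff_eq_mul] at h10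
        rw [hd]
        calc a * (e * β (i, x) * (e : H)⁻¹) * a⁻¹ = (a * e) * β (i, x) * ((a * e))⁻¹ := by group
          _ = (e * a) * β (i, x) * (e * a)⁻¹ := by rw [h10]
          _ = _ := by group
      show a * β (i, y) * a⁻¹ = β ((1 : Equiv.Perm (Fin k)) i, x)
      rw [h9, h3]
      have h11 : (e : H) * (e * β (i, x) * (e : H)⁻¹) * (e : H)⁻¹ =
          ((e : H) * e) * β (i, x) * ((e : H) * e)⁻¹ := by group
      rw [h11, h.sq e.2.1, inv_one, one_mul, mul_one]
      rfl
    · rw [hτ]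
      exact hacts

end Enum

end Cfsg.Agent.Omega.Tv
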