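import Cfsg.Agent.Omega.FF.TvThm

/-!
# The `q = 2` half of the FF-theorem: symmetric groups of degree three

helper670, OMEGA / FF.

`natK_of_symK` : `SymK T H V D k 1` gives `NatK (ZMod 2) T H V D k`; `concl` : the second half of
`FFThm.Stmt` if `|V : C_V(t)| = 2` for some `t ∈ H`.
-/

set_option autoImplicit false
set_option linter.unusedSectionVars false

namespace Cfsg.Agent.Omega.Tv

open Subgroup Cfsg Cfsg.Agent.ZN Cfsg.Agent.ZN.ChoiceBase Cfsg.Agent.ZN.ChoiceSit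
open Cfsg.Agent.MinSimple.MinParabolic Cfsg.Agent.Omega.FFThm Cfsg.Agent.Omega.FrameFF
open Cfsg.Agent.MinSimple.VModule
open Cfsg.Agent.Omega.NatPair (ap)
open Cfsg.Agent.Lib.SL2Mat

/-! ### `S₃` and `SL₂(2)` -/

namespace Three

/-- the coordinates of the points -/
def row : Fin 3 → Fin 2 → ZMod 2 := ![![0, 1], ![1, 0], ![1, 1]]

theorem row_det : ∀ τ : Equiv.Perm (Fin 3),
    row (τ⁻¹ 1) 0 * row (τ⁻¹ 0) 1 - row (τ⁻¹ 1) 1 * row (τ⁻¹ 0) 0 = 1 := by decide

/-- the matrix of a permutation -/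
def mt (τ : Equiv.Perm (Fin 3)) : Matrix.SpecialLinearGroup (Fin 2) (ZMod 2) :=
  mk (row (τ⁻¹ 1) 0) (row (τ⁻¹ 1) 1) (row (τ⁻¹ 0) 0) (row (τ⁻¹ 0) 1) (row_det τ)

theorem exists_mt' : ∀ a b c d : ZMod 2, a * d - b * c = 1 → ∃ τ : Equiv.Perm (Fin 3),
    row (τ⁻¹ 1) 0 = a ∧ row (τ⁻¹ 1) 1 = b ∧ row (τ⁻¹ 0) 0 = c ∧ row (τ⁻¹ 0) 1 = d := by decide

theorem exists_mt (A : Matrix.SpecialLinearGroup (Fin 2) (ZMod 2)) : ∃ τ, mt τ = A := by
  obtain ⟨τ, h1, h2, h3, h4⟩ := exists_mt' _ _ _ _ (det_eq A)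
  exact ⟨τ, ext_ent h1 h2 h3 h4⟩

theorem mt_one : mt 1 = up 0 := ext_ent rfl rfl rfl rfl

theorem mt_swap : mt (Equiv.swap 1 2) = up 1 :=
  ext_ent (by decide) (by decide) (by decide) (by decide)

theorem fix_zero : ∀ τ : Equiv.Perm (Fin 3), τ 0 = 0 → τ = 1 ∨ τ = Equiv.swap 1 2 := by decide

theorem swap_eq : ∀ (τ : Equiv.Perm (Fin 3)) (x : Fin 3), τ 0 = 0 → τ x ≠ x →
    Equiv.swap x (τ x) = Equiv.swap 1 2 := by decide

/-- coordinates of an even function -/
def cx (y : Fin 3 → ZMod 2) : Fin 2 → ZMod 2 := ![y 1, y 0]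

theorem y_eq {y : Fin 3 → ZMod 2} (h : ∑ x, y x = 0) (a : Fin 3) :
    y a = row a 0 * y 1 + row a 1 * y 0 := by
  rw [Fin.sum_univ_three] at h
  have h2 : y 2 = y 0 + y 1 := by
    have h3 : y 2 = y 0 + y 1 + (y 0 + y 1 + y 2) := by
      have := z2_add_self (y 0 + y 1)
      linear_combination -this
    rw [h, add_zero] at h3
    exact h3
  fin_cases a
  · show y 0 = 0 * y 1 + 1 * y 0
    ring
  · show y 1 = 1 * y 1 + 0 * y 0
    ring
  · show y 2 = 1 * y 1 + 1 * y 0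
    rw [h2]; ring

theorem cx_inj {y y' : Fin 3 → ZMod 2} (h : ∑ x, y x = 0) (h' : ∑ x, y' x = 0)
    (hc : cx y = cx y') : y = y' := by
  have h0 : y 0 = y' 0 := congrFun hc 1
  have h1 : y 1 = y' 1 := congrFun hc 0
  ext a
  rw [y_eq h, y_eq h', h0, h1]

theorem cx_acts {y y' : Fin 3 → ZMod 2} (h : ∑ x, y x = 0) {τ : Equiv.Perm (Fin 3)}
    (hτ : ∀ x, y' (τ x) = y x) : cx y' = ap (mt τ) (cx y) := by
  have h2 : ∀ x, y' x = y (τ⁻¹ x) := by
    intro x
    rw [← hτ (τ⁻¹ x)]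
    congr 1
    exact (τ.apply_symm_apply x).symm
  ext j
  fin_cases j
  · show y' 1 = row (τ⁻¹ 1) 0 * y 1 + row (τ⁻¹ 1) 1 * y 0
    rw [h2, y_eq h]
  · show y' 0 = row (τ⁻¹ 0) 0 * y 1 + row (τ⁻¹ 0) 1 * y 0
    rw [h2, y_eq h]

theorem acts_of_cx {y y' : Fin 3 → ZMod 2} (h : ∑ x, y x = 0) (h' : ∑ x, y' x = 0)
    {τ : Equiv.Perm (Fin 3)} (hτ : cx y' = ap (mt τ) (cx y)) (x : Fin 3) : y' (τ x) = y x := by
  have h1 : ∑ x, y (τ⁻¹ x) = 0 := by
    rw [Equiv.sum_comp τ⁻¹ y]; exact h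
  have h2 : ∀ x, (fun z => y (τ⁻¹ z)) (τ x) = y x := by
    intro x
    show y (τ⁻¹ (τ x)) = y x
    congr 1
    exact τ.symm_apply_apply x
  have h3 := cx_acts (y' := fun z => y (τ⁻¹ z)) h h2
  rw [← hτ] at h3
  have h4 := cx_inj h1 h' h3
  rw [← h4]
  exact h2 x

theorem cx_zero {y : Fin 3 → ZMod 2} (h : ∑ x, y x = 0) : cx y = 0 ↔ y = 0 := by
  constructor
  · intro h1
    apply cx_inj h (by simp)
    rw [h1]
    ext j
    fin_cases j <;> rfl
  · rintro rfl
    ext j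
    fin_cases j <;> rfl

end Three

/-! ### Composition of `ActsSym` -/

section comp

variable {G : Type*} [Group G] {k n : ℕ} {e : G → Fin k → Fin n → ZMod 2} {V H : Subgroup G}

theorem actsSym_one : ActsSym e V 1 1 1 := by
  intro v _ i x
  rw [one_mul, inv_one, mul_one]; rfl

theorem actsSym_mul (hn : ∀ h ∈ H, ∀ v ∈ V, h * v * h⁻¹ ∈ V) {g g' : G} (hg' : g' ∈ H)
    {σ σ' : Equiv.Perm (Fin k)} {τ τ' : Fin k → Equiv.Perm (Fin n)} (h : ActsSym e V g σ τ)
    (h' : ActsSym e V g' σ' τ') :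
    ActsSym e V (g * g') (σ * σ') (fun i => τ (σ' i) * τ' i) := by
  intro v hv i x
  have e1 : g * g' * v * (g * g')⁻¹ = g * (g' * v * g'⁻¹) * g⁻¹ := by group
  rw [e1]
  show e _ (σ (σ' i)) (τ (σ' i) (τ' i x)) = e v i x
  rw [h _ (hn g' hg' v hv), h' v hv]

theorem actsSym_inv (hn : ∀ h ∈ H, ∀ v ∈ V, h * v * h⁻¹ ∈ V) {g : G} (hg : g ∈ H)
    {σ : Equiv.Perm (Fin k)} {τ : Fin k → Equiv.Perm (Fin n)} (h : ActsSym e V g σ τ) :
    ActsSym e V g⁻¹ σ⁻¹ (fun i => (τ (σ⁻¹ i))⁻¹) := by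
  intro v hv i x
  have h1 := h (g⁻¹ * v * g⁻¹⁻¹) (hn _ (inv_mem hg) v hv) (σ⁻¹ i) ((τ (σ⁻¹ i))⁻¹ x)
  have e1 : g * (g⁻¹ * v * g⁻¹⁻¹) * g⁻¹ = v := by group
  rw [e1, show σ (σ⁻¹ i) = i from σ.apply_symm_apply i,
    show τ (σ⁻¹ i) ((τ (σ⁻¹ i))⁻¹ x) = x from (τ (σ⁻¹ i)).apply_symm_apply x] at h1
  exact h1.symm

theorem actsSym_mul1 (hn : ∀ h ∈ H, ∀ v ∈ V, h * v * h⁻¹ ∈ V) {g g' : G} (hg' : g' ∈ H)
    {τ τ' : Fin k → Equiv.Perm (Fin n)} (h : ActsSym e V g 1 τ) (h' : ActsSym e V g' 1 τ') :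
    ActsSym e V (g * g') 1 (τ * τ') := by
  have := actsSym_mul hn hg' h h'
  rwa [mul_one] at this

theorem actsSym_inv1 (hn : ∀ h ∈ H, ∀ v ∈ V, h * v * h⁻¹ ∈ V) {g : G} (hg : g ∈ H)
    {τ : Fin k → Equiv.Perm (Fin n)} (h : ActsSym e V g 1 τ) : ActsSym e V g⁻¹ 1 τ⁻¹ := by
  have := actsSym_inv hn hg h
  rwa [inv_one] at this

end comp

/-! ### The transpositions in `T` -/

namespace Enum

variable {H : Type*} [Group H] {V : Type*} [AddCommGroup V] [Module (ZMod 2) V]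
  {ρ : H →* (V ≃ₗ[ZMod 2] V)} {E : Set H} {c : H → V} {f : H → V →ₗ[ZMod 2] ZMod 2}
  {T : Sylow 2 H} {M : Subgroup H} {k m : ℕ} {β : Fin k × Fin (2 ^ m) → H}
  (en : Enum E c f M k m β) [Finite H] (h : Out ρ E c f T M)

include en h

theorem exists_swap (i : Fin k) (x : Fin (2 ^ m)) : ∃ (y : Fin (2 ^ m)) (e : H), y ≠ x ∧ e ∈ E ∧
    e ∈ T ∧ Acts ρ (ph f β) e 1 (msg i (Equiv.swap x.succ y.succ)) := by
  obtain ⟨e, he, heT, h2⟩ := h.adj _ (en.mem (i, x)) (en.notM (i, x))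
  have h4 := h.conj _ (en.mem (i, x)) e
  have h5 := conj_notM (en.notM (i, x)) (h.TM heT)
  obtain ⟨⟨j, y⟩, hd⟩ := en.surj _ h4 h5
  have h5 : f e (c (β (i, x))) = 1 := by rw [h.sym e he _ (en.mem _), h2]
  have hcd : c (β (j, y)) = c (β (i, x)) + c e := by
    rw [hd, h.c_conj' (en.mem _) he, h5, one_smul]
  have hbd : f (β (i, x)) (c (β (j, y))) = 1 := by
    rw [hcd, map_add, h.pself (en.mem _), h2, zero_add]
  have h7 := (en.adj _ _).mp hbd
  have h8 : i = j := h7.2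
  subst h8
  have hyx : y ≠ x := by
    rintro rfl
    exact h7.1 rfl
  have hee : e = β (i, x) * β (i, y) * (β (i, x))⁻¹ := by
    apply h.eq_of_p _ he _ (h.conj _ (en.mem _) _)
    intro z _
    rw [h.c_conj' (en.mem _) (en.mem _), hbd, one_smul, hcd, add_right_comm, v_add_self, zero_add]
  refine ⟨y, e, hyx, he, heT, ?_⟩
  have hb := en.acts_b h (i, x)
  have hd := en.acts_b h (i, y)
  have h6 := (hb.mul1 hd).mul1 hb.inv1
  rw [← hee] at h6
  have h7 : msg i (Equiv.swap 0 x.succ) * msg i (Equiv.swap 0 y.succ) *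
      (msg i (Equiv.swap 0 x.succ))⁻¹ = msg i (Equiv.swap x.succ y.succ) := by
    have h8 : Equiv.swap 0 x.succ * Equiv.swap 0 y.succ * Equiv.swap 0 x.succ =
        Equiv.swap x.succ y.succ := by
      rw [Equiv.swap_comm 0 y.succ]
      refine Equiv.swap_mul_swap_mul_swap (x := y.succ) (y := 0) (z := x.succ)
        (Fin.succ_ne_zero y) ?_
      intro h9
      exact hyx (Fin.succ_injective _ h9)
    have hmul : ∀ a b : Equiv.Perm (Fin (2 ^ m + 1)), msg i (a * b) = msg i a * msg i b :=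
      fun a b => (MonoidHom.mulSingle (fun _ : Fin k => Equiv.Perm (Fin (2 ^ m + 1))) i).map_mul
        a b
    have hinv : (msg i (Equiv.swap 0 x.succ))⁻¹ = msg i (Equiv.swap 0 x.succ) := by
      rw [inv_eq_iff_mul_eq_one, ← hmul, Equiv.swap_mul_self]
      exact Pi.mulSingle_one i
    rw [hinv, ← hmul, ← hmul, h8]
  rw [← h7]
  exact h6

/-- the products of the transpositions of `T` -/
theorem exists_T (τ : Fin k → Equiv.Perm (Fin (2 ^ m + 1)))
    (hτ : ∀ i, τ i = 1 ∨ ∃ e ∈ E, e ∈ T ∧ Acts ρ (ph f β) e 1 (msg i (τ i))) :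
    ∃ g, g ∈ closure E ∧ g ∈ T ∧ Acts ρ (ph f β) g 1 τ := by
  classical
  let L : Subgroup (Fin k → Equiv.Perm (Fin (2 ^ m + 1))) :=
    { carrier := {τ | ∃ g, g ∈ closure E ∧ g ∈ T ∧ Acts ρ (ph f β) g 1 τ}
      one_mem' := ⟨1, one_mem _, one_mem _, Acts.one⟩
      mul_mem' := by
        rintro a b ⟨g, hg, hg2, h1⟩ ⟨g', hg', hg2', h2⟩
        exact ⟨g * g', mul_mem hg hg', mul_mem hg2 hg2', h1.mul1 h2⟩
      inv_mem' := by
        rintro a ⟨g, hg, hg2, h1⟩
        exact ⟨g⁻¹, inv_mem hg, inv_mem hg2, h1.inv1⟩ }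
  refine Subgroup.pi_mem_of_mulSingle_mem (H := L) τ fun i => ?_
  rcases hτ i with h1 | ⟨e, he, heT, h1⟩
  · rw [h1, Pi.mulSingle_one]
    exact one_mem L
  · exact ⟨e, subset_closure he, heT, h1⟩

end Enum

section natK

variable {G : Type*} [Group G] {T H V D : Subgroup G} {k : ℕ}

/-- `T` induces all products of transpositions fixing the points `0` -/
theorem Dt.exists_unip [Finite G] (d : Dt T H V) (hm : d.m = 1)
    (τ : Fin d.k → Equiv.Perm (Fin (2 ^ d.m + 1))) (h0 : ∀ i, τ i 0 = 0) :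
    ∃ t ∈ T, ActsSym d.e V t 1 τ ∧ ∀ v ∈ V, d.e v = 0 → t * v = v * t := by
  have hex : ∀ i, τ i = 1 ∨ ∃ e ∈ d.E, e ∈ RHyp.Sb d.rh d.S ∧
      Acts (RHyp.rg d.rh) (ph d.f d.β) e 1 (msg i (τ i)) := by
    intro i
    obtain ⟨y, e, hy, he, heT, h1⟩ := d.en.exists_swap d.out i ⟨0, by positivity⟩
    have key : ∀ (m : ℕ) (_ : m = 1) (π : Equiv.Perm (Fin (2 ^ m + 1))) (x y : Fin (2 ^ m)),
        π 0 = 0 → y ≠ x → π = 1 ∨ π = Equiv.swap x.succ y.succ := by
      rintro m rfl π x y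
      revert π x y
      show ∀ (π : Equiv.Perm (Fin 3)) (x y : Fin 2),
        π 0 = 0 → y ≠ x → π = 1 ∨ π = Equiv.swap x.succ y.succ
      decide
    rcases key _ hm (τ i) ⟨0, by positivity⟩ y (h0 i) hy with h2 | h2
    · exact Or.inl h2
    · exact Or.inr ⟨e, he, heT, by rw [h2]; exact h1⟩
  obtain ⟨g, hg, hgT, h1⟩ := d.en.exists_T d.out τ hex
  obtain ⟨x, hx, hxT, rfl⟩ := d.exists_T hgT
  exact ⟨x, hxT, (d.acts_iff hx 1 τ).mpr h1, fun v hv he => d.comm_D hx hg hv he⟩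

open Three

/-- `S₃ = SL₂(2)` -/
noncomputable def natK_of_symK (K : SymK T H V D k 1) (hTH : T ≤ H)
    (hn : ∀ h ∈ H, ∀ v ∈ V, h * v * h⁻¹ ∈ V)
    (hu : ∀ τ : Fin k → Equiv.Perm (Fin (2 ^ 1 + 1)), (∀ i, τ i 0 = 0) →
      ∃ t ∈ T, ActsSym K.e V t 1 τ ∧ ∀ d ∈ D, t * d = d * t) : NatK (ZMod 2) T H V D k := by
  have hsum : ∀ v ∈ V, ∀ i, ∑ x : Fin 3, K.e v i x = 0 := K.even
  -- the two languages
  have toSL : ∀ {g : G} {τ : Fin k → Equiv.Perm (Fin (2 ^ 1 + 1))}, ActsSym K.e V g 1 τ →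
      ∀ v ∈ V, ∀ i, cx (K.e (g * v * g⁻¹) i) = ap (mt (τ i)) (cx (K.e v i)) := by
    intro g τ h v hv i
    exact cx_acts (hsum v hv i) (h v hv i)
  have toSym : ∀ {g : G} (_ : g ∈ H) {τ : Fin k → Equiv.Perm (Fin (2 ^ 1 + 1))},
      (∀ v ∈ V, ∀ i, cx (K.e (g * v * g⁻¹) i) = ap (mt (τ i)) (cx (K.e v i))) →
      ActsSym K.e V g 1 τ := by
    intro g hg τ h v hv i x
    exact acts_of_cx (hsum v hv i) (hsum _ (hn g hg v hv) i) (h v hv i) x
  have hz : ∀ v ∈ V, (fun i => cx (K.e v i)) = 0 ↔ K.e v = 0 := by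
    intro v hv
    constructor
    · intro h1
      funext i
      exact (cx_zero (hsum v hv i)).mp (congrFun h1 i)
    · intro h1
      funext i
      exact (cx_zero (hsum v hv i)).mpr (congrFun h1 i)
  exact
  { e := fun v i => cx (K.e v i)
    mul := by
      intro v hv w hw
      rw [K.mul v hv w hw]
      funext i j
      fin_cases j <;> rfl
    surj := by
      intro x
      obtain ⟨v, hv, h1⟩ := K.surj (fun i => (![x i 1, x i 0, x i 0 + x i 1] : Fin 3 → ZMod 2)) (by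
        intro i
        have h2 : ∑ j : Fin 3, (![x i 1, x i 0, x i 0 + x i 1] : Fin 3 → ZMod 2) j = 0 := by
          rw [Fin.sum_univ_three]
          show x i 1 + x i 0 + (x i 0 + x i 1) = 0
          rw [add_comm (x i 1)]
          exact z2_add_self _
        exact h2)
      refine ⟨v, hv, ?_⟩
      rw [h1]
      funext i j
      fin_cases j <;> rfl
    ker := by
      intro v hv
      rw [hz v hv, K.ker v hv]
    lift := by
      intro A
      choose τ hτ using fun i => exists_mt (A i)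
      obtain ⟨g, hg, h1, h2⟩ := K.lift τ
      refine ⟨g, hg, fun v hv i => ?_, h2⟩
      rw [← hτ i]
      exact toSL h1 v hv i
    norm := by
      intro g hg h hh A hA
      choose τ hτ using fun i => exists_mt (A i)
      have h1 : ActsSym K.e V h 1 τ := toSym hh fun v hv i => by rw [hτ i]; exact hA v hv i
      obtain ⟨σ, τg, h2⟩ := K.perm g hg
      have h3 := actsSym_mul hn (inv_mem hg) (actsSym_mul hn hh h2 h1) (actsSym_inv hn hg h2)
      have h4 : σ * 1 * σ⁻¹ = 1 := by rw [mul_one, mul_inv_cancel]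
      rw [h4] at h3
      exact ⟨_, toSL h3⟩
    perm := by
      intro g hg
      obtain ⟨σ, τ, h1⟩ := K.perm g hg
      refine ⟨σ, fun v hv i => ?_⟩
      show cx _ = 0 ↔ cx _ = 0
      rw [cx_zero (hsum _ (hn g hg v hv) (σ i)), cx_zero (hsum v hv i)]
      constructor
      · intro h2
        funext x
        have h3 := h1 v hv i x
        rw [h2] at h3
        exact h3.symm
      · intro h2
        funext x
        have h3 := h1 v hv i ((τ i)⁻¹ x)
        rw [h2, show τ i ((τ i)⁻¹ x) = x from (τ i).apply_symm_apply x] at h3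
        exact h3
    trans := by
      intro i j
      obtain ⟨t, ht, σ, τ, h1, rfl⟩ := K.trans i j
      refine ⟨t, ht, fun v hv => ?_⟩
      show cx _ = 0 ↔ cx _ = 0
      rw [cx_zero (hsum _ (hn t (hTH ht) v hv) (σ i)), cx_zero (hsum v hv i)]
      constructor
      · intro h2
        funext x
        have h3 := h1 v hv i x
        rw [h2] at h3
        exact h3.symm
      · intro h2
        funext x
        have h3 := h1 v hv i ((τ i)⁻¹ x)
        rw [h2, show τ i ((τ i)⁻¹ x) = x from (τ i).apply_symm_apply x] at h3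
        exact h3
    line := by
      intro t ht
      obtain ⟨σ, τ, h1⟩ := K.perm t (hTH ht)
      refine ⟨σ, fun v hv i => ?_⟩
      have h2 := h1 v hv i 0
      rw [K.fix0 t ht σ τ h1 i] at h2
      show K.e _ (σ i) 0 = 0 ↔ K.e v i 0 = 0
      rw [h2]
    unip := by
      intro b
      obtain ⟨t, ht, h1, h2⟩ := hu (fun i => if b i = 0 then 1 else Equiv.swap (1 : Fin 3) 2) (by
        intro i
        by_cases hb : b i = 0
        · rw [if_pos hb]; rfl
        · rw [if_neg hb]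
          show (Equiv.swap (1 : Fin 3) 2) 0 = 0
          decide)
      refine ⟨t, ht, fun v hv i => ?_, h2⟩
      have h3 := toSL h1 v hv i
      have h4 : mt (if b i = 0 then 1 else Equiv.swap (1 : Fin 3) 2) = up (b i) := by
        rcases z2 (b i) with hb | hb
        · rw [hb, if_pos rfl, mt_one]
        · rw [hb, if_neg one_ne_zero, mt_swap]
      rw [h4] at h3
      exact h3
    gen := by
      intro L hTL hL
      apply K.gen L hTL
      intro h hh τ h1 h2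
      exact hL h hh (fun i => mt (τ i)) ⟨toSL h1, h2⟩
    off := by
      intro A hA hoff
      obtain ⟨hD, hτ⟩ := K.off A hA hoff
      refine ⟨{i | ∃ a ∈ A, ActsSym K.e V a 1 (msg i (Equiv.swap (1 : Fin 3) 2))}, ?_, ?_⟩
      · intro a ha
        obtain ⟨τ, h1, h2⟩ := hτ a ha
        have h0 : ∀ i, τ i 0 = 0 := K.fix0 a (hA ha) 1 τ h1
        refine ⟨fun i => by classical exact if τ i = 1 then 0 else 1, ?_, ?_, hD a ha⟩
        · intro i hi
          by_contra hne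
          apply hi
          have h3 : τ i ≠ 1 := by
            intro h4
            apply hne
            show (if τ i = 1 then (0 : ZMod 2) else 1) = 0
            rw [if_pos h4]
          have h4 : ∃ x, τ i x ≠ x := by
            by_contra hcon
            push Not at hcon
            exact h3 (Equiv.ext hcon)
          obtain ⟨x, hx⟩ := h4
          obtain ⟨-, b, hb, h5⟩ := h2 i x hx
          refine ⟨b, hb, ?_⟩
          have h6 : Equiv.swap x (τ i x) = Equiv.swap (1 : Fin 3) 2 := swap_eq (τ i) x (h0 i) hx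
          rw [h6] at h5
          exact h5
        · intro v hv i
          have h3 := toSL h1 v hv i
          have h4 : mt (τ i) = up (if τ i = 1 then (0 : ZMod 2) else 1) := by
            rcases fix_zero (τ i) (h0 i) with h5 | h5
            · rw [if_pos h5, h5, mt_one]
            · rw [if_neg (by rw [h5]; exact (by decide : Equiv.swap (1 : Fin 3) 2 ≠ 1)), h5, mt_swap]
          rw [h4] at h3
          exact h3
      · intro b hb
        let L : Subgroup (Fin k → Equiv.Perm (Fin (2 ^ 1 + 1))) :=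
          { carrier := {τ | ∃ a ∈ A, ActsSym K.e V a 1 τ}
            one_mem' := ⟨1, one_mem _, actsSym_one⟩
            mul_mem' := by
              rintro a b ⟨g, hg, h1⟩ ⟨g', hg', h2⟩
              exact ⟨g * g', mul_mem hg hg', actsSym_mul1 hn (hTH (hA hg')) h1 h2⟩
            inv_mem' := by
              rintro a ⟨g, hg, h1⟩
              exact ⟨g⁻¹, inv_mem hg, actsSym_inv1 hn (hTH (hA hg)) h1⟩ }
        have h1 : (fun i => if b i = 0 then 1 else Equiv.swap (1 : Fin 3) 2) ∈ L := by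
          refine Subgroup.pi_mem_of_mulSingle_mem (H := L) _ fun i => ?_
          by_cases h2 : b i = 0
          · rw [if_pos h2, Pi.mulSingle_one]
            exact one_mem L
          · rw [if_neg h2]
            by_contra h3
            exact h2 (hb i h3)
        obtain ⟨a, ha, h2⟩ := h1
        refine ⟨a, ha, fun v hv i => ?_, hD a ha⟩
        have h3 := toSL h2 v hv i
        have h4 : mt (if b i = 0 then 1 else Equiv.swap (1 : Fin 3) 2) = up (b i) := by
          rcases z2 (b i) with hb | hb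
          · rw [hb, if_pos rfl, mt_one]
          · rw [hb, if_neg one_ne_zero, mt_swap]
        rw [h4] at h3
        exact h3 }

theorem natK_of {m : ℕ} (hm : m = 1) (K : SymK T H V D k m) (hTH : T ≤ H)
    (hn : ∀ h ∈ H, ∀ v ∈ V, h * v * h⁻¹ ∈ V)
    (hu : ∀ τ : Fin k → Equiv.Perm (Fin (2 ^ m + 1)), (∀ i, τ i 0 = 0) →
      ∃ t ∈ T, ActsSym K.e V t 1 τ ∧ ∀ d ∈ D, t * d = d * t) :
    Nonempty (NatK (ZMod 2) T H V D k) := by
  subst hm
  exact ⟨natK_of_symK K hTH hn hu⟩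

theorem Dt.natK [Finite G] (d : Dt T H V) (hm : d.m = 1) :
    Nonempty (NatK (ZMod 2) T H V (V ⊓ centralizer (oddGen H : Set G)) d.k) := by
  refine natK_of hm d.symK d.g.syl.1 d.g.hn fun τ h0 => ?_
  obtain ⟨t, ht, h1, h2⟩ := d.exists_unip hm τ h0
  exact ⟨t, ht, h1, fun v hv => h2 v hv.1 ((d.mem_D_iff hv.1).mpr hv.2)⟩

end natK

/-- **The second half of `FFThm.Stmt` for `q = 2`.** -/
theorem concl {G : Type*} [Group G] [Finite G] {T H : Subgroup G} (hT : Syl T H) (hm : IsMinPar T H)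
    (hc : H ⊓ centralizer (o2 H : Set G) ≤ o2 H)
    (htv : ∃ t ∈ H, Nat.card ↥(zl T H) = 2 * Nat.card ↥(zl T H ⊓ centralizer {t})) :
    NoOver (zl T H) H ∧ Concl T H := by
  obtain ⟨d⟩ := exists_dt (gset_of_tv hT hm hc htv) htv
  refine ⟨d.noOver, ?_⟩
  by_cases h2 : 2 ≤ d.m
  · exact Or.inr ⟨d.k, d.m, d.en.k_pos, h2, ⟨d.symK⟩⟩
  · have hm1 : d.m = 1 := by have := d.en.m_pos; omega
    refine Or.inl ⟨ZMod 2, inferInstance, inferInstance, inferInstance, d.k, d.en.k_pos,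
      d.natK hm1⟩

end Cfsg.Agent.Omega.Tv
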