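import Cfsg.Agent.Omega.FF.TvFront

/-!
# The transvection half of the FF-theorem for minimal parabolics: offenders

helper670, OMEGA / FF.

`X = E ∩ T`, `J₀ = ⟨X⟩`.  For an abelian subgroup `A` of `T`: `|A| |C_V(A)| ≤ |V|`, and equality only
if `A ≤ J₀` (`Out.off`, `Out.off_eq`).  `Out.mem_J0`: an element of `T` centralising `X` lies in
`J₀`.
-/

set_option autoImplicit false
set_option linter.unusedSectionVars false

namespace Cfsg.Agent.Omega.Tv

open Subgroup Cfsg

/-- `|X| = |ker f| |im f|` -/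
theorem card_hom {X Y : Type*} [AddCommGroup X] [AddCommGroup Y] (f : X →+ Y) :
    Nat.card X = Nat.card f.range * Nat.card f.ker := by
  rw [AddSubgroup.card_eq_card_quotient_mul_card_addSubgroup f.ker,
    Nat.card_congr (QuotientAddGroup.quotientKerEquivRange f).toEquiv]

section Perm

variable {A X : Type*} [Group A] [MulAction A X]

/-- the invariant functions -/
def inv2 (A X : Type*) [Group A] [MulAction A X] : AddSubgroup (X → ZMod 2) where
  carrier := {r | ∀ (a : A) x, r (a • x) = r x}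
  zero_mem' := fun _ _ => rfl
  add_mem' := fun {r s} hr hs a x => by rw [Pi.add_apply, Pi.add_apply, hr, hs]
  neg_mem' := fun {r} hr a x => by rw [Pi.neg_apply, Pi.neg_apply, hr]

/-- An abelian group `A` acting on `X` with kernel `A₀`: `|A/A₀| |(𝔽₂^X)^A| ≤ |𝔽₂^X|`. -/
theorem card_perm [Finite A] [Finite X] (hab : ∀ a b : A, a * b = b * a) :
    Nat.card A * Nat.card (inv2 A X) ≤
      Nat.card (MulAction.toPermHom A X).ker * Nat.card (X → ZMod 2) := by
  classical
  let rep : X → X := fun x => (Quotient.mk (MulAction.orbitRel A X) x).out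
  have hrep : ∀ x, ∃ b : A, x = b • rep x := by
    intro x
    have h1 : (MulAction.orbitRel A X) (rep x) x := Quotient.mk_out (s := MulAction.orbitRel A X) x
    rw [MulAction.orbitRel_apply] at h1
    obtain ⟨b, hb⟩ := h1
    have hb' : b • x = rep x := hb
    exact ⟨b⁻¹, by rw [← hb', inv_smul_smul]⟩
  have hrs : ∀ (b : A) x, rep (b • x) = rep x := by
    intro b x
    have h1 : Quotient.mk (MulAction.orbitRel A X) (b • x) =
        Quotient.mk (MulAction.orbitRel A X) x := Quotient.sound ⟨b, rfl⟩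
    show (Quotient.mk (MulAction.orbitRel A X) (b • x)).out =
      (Quotient.mk (MulAction.orbitRel A X) x).out
    rw [h1]
  have hrr : ∀ x, rep (rep x) = rep x := by
    intro x
    obtain ⟨b, hb⟩ := hrep x
    conv_rhs => rw [hb, hrs]
  let ψ : A → X → ZMod 2 := fun a x => if x = a • rep x ∧ x ≠ rep x then 1 else 0
  have key : ∀ a a' : A, ψ a + ψ a' ∈ inv2 A X → a⁻¹ * a' ∈ (MulAction.toPermHom A X).ker := by
    intro a a' hg
    have h0 : ∀ (d : A) x, ψ d (rep x) = 0 := by
      intro d x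
      show (if rep x = d • rep (rep x) ∧ rep x ≠ rep (rep x) then (1 : ZMod 2) else 0) = 0
      rw [if_neg]
      rintro ⟨-, h1⟩
      exact h1 (hrr x).symm
    have h1 : ∀ x, ψ a x = ψ a' x := by
      intro x
      obtain ⟨b, hb⟩ := hrep x
      have h2 : (ψ a + ψ a') (b • rep x) = (ψ a + ψ a') (rep x) := hg b (rep x)
      rw [← hb, Pi.add_apply, Pi.add_apply, h0, h0, add_zero] at h2
      rcases z2 (ψ a x) with h3 | h3 <;> rcases z2 (ψ a' x) with h4 | h4
      · rw [h3, h4]
      · rw [h3, h4, zero_add] at h2; exact absurd h2 one_ne_zero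
      · rw [h3, h4, add_zero] at h2; exact absurd h2 one_ne_zero
      · rw [h3, h4]
    have h2 : ∀ (d : A) x, d • rep x ≠ rep x → ψ d (d • rep x) = 1 := by
      intro d x hd
      show (if d • rep x = d • rep (d • rep x) ∧ d • rep x ≠ rep (d • rep x) then
        (1 : ZMod 2) else 0) = 1
      rw [if_pos]
      rw [hrs, hrr]
      exact ⟨rfl, hd⟩
    have h3 : ∀ (d d' : A) x, ψ d (d' • rep x) = 1 → d' • rep x = d • rep x := by
      intro d d' x hd
      by_contra hne
      have : ψ d (d' • rep x) = 0 := by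
        show (if d' • rep x = d • rep (d' • rep x) ∧ d' • rep x ≠ rep (d' • rep x) then
          (1 : ZMod 2) else 0) = 0
        rw [if_neg]
        rintro ⟨h4, -⟩
        rw [hrs, hrr] at h4
        exact hne h4
      rw [this] at hd
      exact zero_ne_one hd
    have h4 : ∀ x, a • rep x = a' • rep x := by
      intro x
      by_cases ha : a • rep x = rep x
      · by_cases ha' : a' • rep x = rep x
        · rw [ha, ha']
        · have h5 := h2 a' x ha'
          rw [← h1] at h5
          exact (h3 a a' x h5).symm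
      · have h5 := h2 a x ha
        rw [h1] at h5
        exact h3 a' a x h5
    rw [MonoidHom.mem_ker]
    ext x
    show (a⁻¹ * a') • x = x
    obtain ⟨b, hb⟩ := hrep x
    rw [mul_smul, inv_smul_eq_iff]
    rw [hb, ← mul_smul, ← mul_smul, hab a' b, hab a b, mul_smul, mul_smul, h4]
  let F : (A ⧸ (MulAction.toPermHom A X).ker) × inv2 A X → (X → ZMod 2) :=
    fun p => ψ p.1.out + p.2
  have hF : Function.Injective F := by
    rintro ⟨q, g⟩ ⟨q', g'⟩ hqg
    have h1 : ψ q.out + (g : X → ZMod 2) = ψ q'.out + (g' : X → ZMod 2) := hqg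
    have h2 : ψ q.out + ψ q'.out = (g : X → ZMod 2) + g' := by
      ext x
      have h3 := congrFun h1 x
      simp only [Pi.add_apply] at h3 ⊢
      generalize ψ q.out x = u at h3 ⊢
      generalize ψ q'.out x = v at h3 ⊢
      generalize (g : X → ZMod 2) x = y at h3 ⊢
      generalize (g' : X → ZMod 2) x = z at h3 ⊢
      revert u v y z
      decide
    have h3 : ψ q.out + ψ q'.out ∈ inv2 A X := by
      rw [h2]; exact AddSubgroup.add_mem _ g.2 g'.2
    have h4 := key _ _ h3
    have h5 : q = q' := by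
      rw [← QuotientGroup.out_eq' q, ← QuotientGroup.out_eq' q']
      exact QuotientGroup.eq.mpr h4
    subst h5
    have h6 : (g : X → ZMod 2) = g' := add_left_cancel h1
    rw [Subtype.ext h6]
  have h1 := Nat.card_le_card_of_injective F hF
  rw [Nat.card_prod] at h1
  rw [Subgroup.card_eq_card_quotient_mul_card_subgroup (MulAction.toPermHom A X).ker]
  calc _ = Nat.card (MulAction.toPermHom A X).ker *
        (Nat.card (A ⧸ (MulAction.toPermHom A X).ker) * Nat.card (inv2 A X)) := by ring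
    _ ≤ _ := Nat.mul_le_mul_left _ h1

end Perm

variable {H : Type*} [Group H] {V : Type*} [AddCommGroup V] [Module (ZMod 2) V]
  {ρ : H →* (V ≃ₗ[ZMod 2] V)} {E : Set H} {c : H → V} {f : H → V →ₗ[ZMod 2] ZMod 2}
  {T : Sylow 2 H} {M : Subgroup H}

/-- `E ∩ T` -/
abbrev XT (E : Set H) (T : Sylow 2 H) : Type _ := {e : H // e ∈ E ∧ e ∈ T}

/-- `(r_e) ↦ ∑ r_e c_e` -/
noncomputable def del (E : Set H) (T : Sylow 2 H) (c : H → V) [Fintype (XT E T)] :
    (XT E T → ZMod 2) →+ V where
  toFun r := ∑ e, r e • c e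
  map_zero' := by simp
  map_add' r s := by
    rw [← Finset.sum_add_distrib]
    exact Finset.sum_congr rfl fun e _ => by rw [Pi.add_apply, add_smul]

/-- `v ↦ (f_e(v))` -/
def Phi (E : Set H) (T : Sylow 2 H) (f : H → V →ₗ[ZMod 2] ZMod 2) :
    V →+ (XT E T → ZMod 2) where
  toFun v := fun e => f e v
  map_zero' := by ext e; exact map_zero _
  map_add' v w := by ext e; exact map_add _ _ _

namespace Out

variable [Finite H] (h : Out ρ E c f T M)

include h

theorem exists_b (e : XT E T) : ∃ b ∈ E, b ∉ M ∧ f b (c e) = 1 := by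
  obtain ⟨b, hb, hbM⟩ := h.exists_not_mem
  obtain ⟨e0, he0, he0T, h1⟩ := h.adj b hb hbM
  obtain ⟨t, ht, h2⟩ := h.transT e0 he0 he0T e e.2.1 e.2.2
  refine ⟨t * b * t⁻¹, h.conj b hb t, conj_notM hbM (h.TM ht), ?_⟩
  rw [h2, h.p_conj hb he0, h1]

/-- a member of `Δ` adjacent to `e` -/
noncomputable def bb (e : XT E T) : H := (h.exists_b e).choose

theorem bbE (e : XT E T) : h.bb e ∈ E := (h.exists_b e).choose_spec.1

theorem bbM (e : XT E T) : h.bb e ∉ M := (h.exists_b e).choose_spec.2.1

theorem bb1 (e : XT E T) : f (h.bb e) (c e) = 1 := (h.exists_b e).choose_spec.2.2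

theorem bb0 (e e' : XT E T) (hne : e' ≠ e) : f (h.bb e) (c e') = 0 := by
  rcases z2 (f (h.bb e) (c e')) with h1 | h1
  · exact h1
  · exact absurd (Subtype.ext (h.uniq_adj _ (h.bbE e) (h.bbM e) e' e'.2.1 e'.2.2 e e.2.1 e.2.2 h1
      (h.bb1 e))) hne

open Classical in
theorem bb_eq (e e' : XT E T) : f (h.bb e) (c e') = if e' = e then 1 else 0 := by
  by_cases he : e' = e
  · subst he; rw [if_pos rfl]; exact h.bb1 e'
  · rw [if_neg he]; exact h.bb0 e e' he

open Classical in
theorem bb_eq' (e e' : XT E T) : f (e' : H) (c (h.bb e)) = if e' = e then 1 else 0 := by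
  rw [h.sym e' e'.2.1 _ (h.bbE e)]
  exact h.bb_eq e e'

omit [Finite H] in
theorem cj_mem {t : H} (ht : t ∈ T) (e : XT E T) : t * e * t⁻¹ ∈ E ∧ t * e * t⁻¹ ∈ T :=
  ⟨h.conj e e.2.1 t, conjT ht e.2.2⟩

/-- `T` acts on `E ∩ T` -/
def cj {t : H} (ht : t ∈ T) (e : XT E T) : XT E T := ⟨t * e * t⁻¹, h.cj_mem ht e⟩

theorem f_bb_del [Fintype (XT E T)] (r : XT E T → ZMod 2) (e : XT E T) :
    f (h.bb e) (del E T c r) = r e := by
  classical
  show f (h.bb e) (∑ e, r e • c e) = r e
  rw [map_sum, Finset.sum_eq_single e]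
  · rw [map_smul, h.bb1, smul_eq_mul, mul_one]
  · intro e' _ hne
    rw [map_smul, h.bb0 e e' hne, smul_zero]
  · intro hn
    exact absurd (Finset.mem_univ e) hn

theorem del_inj [Fintype (XT E T)] : Function.Injective (del E T c) := by
  intro r s hrs
  ext e
  rw [← h.f_bb_del r e, hrs, h.f_bb_del]

theorem del_ker [Fintype (XT E T)] (r : XT E T → ZMod 2) : Phi E T f (del E T c r) = 0 := by
  ext e
  show f e (∑ e, r e • c e) = 0
  rw [map_sum]
  refine Finset.sum_eq_zero fun e' _ => ?_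
  rw [map_smul, h.p_T e e.2.1 e.2.2 e' e'.2.1 e'.2.2, smul_zero]

theorem Phi_surj : Function.Surjective (Phi E T f) := by
  classical
  have : Fintype (XT E T) := Fintype.ofFinite _
  intro r
  refine ⟨∑ e, r e • c (h.bb e), ?_⟩
  ext e
  show f e (∑ e, r e • c (h.bb e)) = r e
  rw [map_sum, Finset.sum_eq_single e]
  · rw [map_smul, h.bb_eq', if_pos rfl, smul_eq_mul, mul_one]
  · intro e' _ hne
    rw [map_smul, h.bb_eq', if_neg (Ne.symm hne), smul_zero]
  · intro hn
    exact absurd (Finset.mem_univ e) hn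

/-! ### Elements of `T` centralising `X` -/

/-- For `a ∈ T` centralising `e`, and `b ∈ Δ` adjacent to `e`: `a b a⁻¹ = b` or `e b e⁻¹`. -/
theorem a_bb {a b : H} {e : XT E T} (ha : a ∈ T) (hae : a * e * a⁻¹ = e) (hb : b ∈ E)
    (hbM : b ∉ M) (h1 : f b (c e) = 1) : a * b * a⁻¹ = b ∨ a * b * a⁻¹ = e * b * (e : H)⁻¹ := by
  apply h.eq_or_conj b hb hbM _ (h.conj b hb a) (conj_notM hbM (h.TM ha)) e e.2.1
    (h.TM e.2.2) h1
  have h2 : f (a * b * a⁻¹) (c (a * e * a⁻¹)) = 1 := by rw [h.p_conj hb e.2.1, h1]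
  rwa [hae] at h2

/-- `σ_e(a)` -/
noncomputable def sg (a : H) : XT E T → ZMod 2 := fun e => f (h.bb e) (ρ a (c (h.bb e)))

/-- `ρ a c_b = c_b + σ_e(a) c_e` for all `b ∈ Δ` adjacent to `e`. -/
theorem act_b {a b : H} {e : XT E T} (ha : a ∈ T) (hae : a * e * a⁻¹ = e) (hb : b ∈ E)
    (hbM : b ∉ M) (h1 : f b (c e) = 1) : ρ a (c b) = c b + h.sg a e • c e := by
  have hce : ρ a (c e) = c e := by
    rw [← h.c_conj e.2.1 a, hae]
  -- first for `b = bb e`
  have key : ρ a (c (h.bb e)) = c (h.bb e) + h.sg a e • c e := by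
    rcases h.a_bb ha hae (h.bbE e) (h.bbM e) (h.bb1 e) with h2 | h2
    · have h3 : ρ a (c (h.bb e)) = c (h.bb e) := by rw [← h.c_conj (h.bbE e) a, h2]
      have h4 : h.sg a e = 0 := by
        show f (h.bb e) (ρ a (c (h.bb e))) = 0
        rw [h3, h.pself (h.bbE e)]
      rw [h3, h4, zero_smul, add_zero]
    · have h3 : ρ a (c (h.bb e)) = c (h.bb e) + c e := by
        rw [← h.c_conj (h.bbE e) a, h2, h.c_conj' (h.bbE e) e.2.1,
          h.sym e e.2.1 _ (h.bbE e), h.bb1, one_smul]
      have h4 : h.sg a e = 1 := by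
        show f (h.bb e) (ρ a (c (h.bb e))) = 1
        rw [h3, map_add, h.pself (h.bbE e), h.bb1, zero_add]
      rw [h3, h4, one_smul]
  rcases h.eq_or_conj _ (h.bbE e) (h.bbM e) b hb hbM e e.2.1 (h.TM e.2.2) (h.bb1 e) h1 with
    h2 | h2
  · rw [h2]; exact key
  · rw [h2, h.c_conj' (h.bbE e) e.2.1, map_add, key, map_smul, hce]
    abel

theorem sg_mul {a a' : H} (ha : a ∈ T) (ha' : a' ∈ T) (hX : ∀ e : XT E T, a * e * a⁻¹ = e)
    (hX' : ∀ e : XT E T, a' * e * a'⁻¹ = e) : h.sg (a * a') = h.sg a + h.sg a' := by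
  ext e
  show f (h.bb e) (ρ (a * a') (c (h.bb e))) = h.sg a e + h.sg a' e
  rw [rmul, h.act_b ha' (hX' e) (h.bbE e) (h.bbM e) (h.bb1 e), map_add, map_smul,
    h.act_b ha (hX e) (h.bbE e) (h.bbM e) (h.bb1 e)]
  have : ρ a (c e) = c e := by rw [← h.c_conj e.2.1 a, hX e]
  rw [this, map_add, map_add, map_smul, map_smul, h.pself (h.bbE e), h.bb1, zero_add, smul_eq_mul,
    smul_eq_mul, mul_one, mul_one]

/-- The centraliser of `⟨Δ⟩` is trivial. -/
theorem eq_one_of_commD {a : H} (ha : ∀ b ∈ E, b ∉ M → a * b = b * a) : a = 1 := by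
  set N := closure (E \ (M : Set H)) with hN
  have hNn : N.Normal := h.normalD
  have hC : (centralizer (N : Set H)).Normal := by
    constructor
    intro x hx g
    rw [mem_centralizer_iff] at hx ⊢
    intro n hn
    have h1 := hx (g⁻¹ * n * g) (by simpa using hNn.conj_mem n hn g⁻¹)
    calc n * (g * x * g⁻¹) = g * ((g⁻¹ * n * g) * x) * g⁻¹ := by group
      _ = g * (x * (g⁻¹ * n * g)) * g⁻¹ := by rw [h1]
      _ = g * x * g⁻¹ * n := by group
  have haC : a ∈ centralizer (N : Set H) := by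
    have : N ≤ centralizer {a} := by
      rw [hN, closure_le]
      rintro b ⟨hb, hbM⟩
      rw [SetLike.mem_coe, mem_centralizer_singleton_iff]
      exact (ha b hb hbM).symm
    rw [mem_centralizer_iff]
    intro n hn
    exact mem_centralizer_singleton_iff.mp (this hn)
  -- `Z(N)` is a 2-group: it acts trivially on ... ; we use `H = N T`
  have hpow : ∀ g : H, ∃ s : ℕ, g ^ 2 ^ s ∈ N := by
    intro g
    have hg : g ∈ N ⊔ (T : Subgroup H) := by rw [h.sup_T]; exact mem_top g
    obtain ⟨n, hn, t, ht, rfl⟩ := mem_sup_of_normal_left.mp hg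
    obtain ⟨s, hs⟩ := T.isPGroup' ⟨t, ht⟩
    have hs' : t ^ 2 ^ s = 1 := congrArg Subtype.val hs
    refine ⟨s, ?_⟩
    rw [← QuotientGroup.eq_one_iff, QuotientGroup.mk_pow, QuotientGroup.mk_mul,
      (QuotientGroup.eq_one_iff n).mpr hn, one_mul, ← QuotientGroup.mk_pow, hs',
      QuotientGroup.mk_one]
  -- an element of `N` centralising `N` fixes all centres, all axes; so it has order ≤ 2
  have hsq : ∀ g ∈ N, g ∈ centralizer (N : Set H) → g * g = 1 := by
    intro g hg hgC
    have hc : ∀ x ∈ E, ρ g (c x) = c x := by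
      intro x hx
      rw [← h.c_conj hx g]
      have h1 := mem_centralizer_iff.mp hgC x (h.mem_closureD hx)
      rw [← h1, mul_inv_cancel_right]
    -- g v + v ∈ W is fixed by g
    have hW : ∀ n ∈ N, ∀ v, ρ n v + v ∈ Wsp E c := by
      intro n hn
      induction hn using closure_induction with
      | mem x hx =>
        intro v
        rw [h.act hx.1]
        have : v + f x v • c x + v = f x v • c x := by
          rw [add_right_comm, v_add_self, zero_add]
        rw [this]
        exact Submodule.smul_mem _ _ (c_mem hx.1)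
      | one =>
        intro v
        rw [rone, v_add_self]
        exact Submodule.zero_mem _
      | mul x y _ _ hx hy =>
        intro v
        rw [rmul]
        have : ρ x (ρ y v) + v = (ρ x (ρ y v) + ρ y v) + (ρ y v + v) := by
          rw [add_assoc, ← add_assoc (ρ y v), v_add_self, zero_add]
        rw [this]
        exact Submodule.add_mem _ (hx _) (hy _)
      | inv x _ hx =>
        intro v
        have := hx (ρ x⁻¹ v)
        rwa [rinv', add_comm] at this
    have hfix : ∀ w ∈ Wsp E c, ρ g w = w := by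
      intro w hw
      induction hw using Submodule.span_induction with
      | mem x hx => obtain ⟨y, hy, rfl⟩ := hx; exact hc y hy
      | zero => exact map_zero _
      | add x y _ _ hx hy => rw [map_add, hx, hy]
      | smul r x _ hx => rw [map_smul, hx]
    apply h.eq_one_of_act
    intro v
    have h1 := hfix _ (hW g hg v)
    rw [map_add] at h1
    have h2 : ρ g (ρ g v) = ρ g v + v + ρ g v := by
      rw [← h1, add_assoc, v_add_self, add_zero]
    rw [rmul, h2, add_right_comm, v_add_self, zero_add]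
  have hK : IsPGroup 2 (centralizer (N : Set H)) := by
    rintro ⟨k, hk⟩
    obtain ⟨s, hs⟩ := hpow k
    refine ⟨s + 1, Subtype.ext ?_⟩
    show k ^ 2 ^ (s + 1) = 1
    rw [pow_succ, pow_mul, pow_two]
    exact hsq _ hs (pow_mem hk _)
  have h5 := Lib.Cores.le_pCore hC hK
  rw [h.o2, le_bot_iff] at h5
  rwa [h5, mem_bot] at haC

theorem sg_inj {a : H} (ha : a ∈ T) (hX : ∀ e : XT E T, a * e * a⁻¹ = e) (h0 : h.sg a = 0) :
    a = 1 := by
  apply h.eq_one_of_commD
  intro b hb hbM
  obtain ⟨e, he, heT, h1⟩ := h.adj b hb hbM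
  have h2 := h.act_b (e := ⟨e, he, heT⟩) ha (hX _) hb hbM h1
  rw [h0, Pi.zero_apply, zero_smul, add_zero, ← h.c_conj hb a] at h2
  -- `a b a⁻¹` and `b` have the same centre
  rcases h.a_bb (e := ⟨e, he, heT⟩) ha (hX _) hb hbM h1 with h3 | h3
  · exact mul_inv_eq_iff_eq_mul.mp h3
  · exfalso
    have h3' : a * b * a⁻¹ = e * b * e⁻¹ := h3
    have hs : f e (c b) = 1 := by rw [h.sym e he b hb, h1]
    rw [h3', h.c_conj' hb he, hs, one_smul] at h2
    exact (h.tr e he).c_ne (by simpa using h2)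

open Classical in
theorem sg_X (e : XT E T) : h.sg (e : H) = Pi.single e 1 := by
  ext e'
  show f (h.bb e') (ρ (e : H) (c (h.bb e'))) = _
  rw [h.act e.2.1, map_add, map_smul, h.pself (h.bbE e'), zero_add, h.bb_eq', h.bb_eq,
    smul_eq_mul, Pi.single_apply]
  by_cases he : e = e'
  · subst he; simp
  · rw [if_neg he, zero_mul, if_neg (Ne.symm he)]

theorem X_comm (e e' : XT E T) : (e : H) * e' * (e : H)⁻¹ = e' := by
  have h1 := h.comm_of e'.2.1 e.2.1 (h.p_T _ e'.2.1 e'.2.2 _ e.2.1 e.2.2)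
    (h.p_T _ e.2.1 e.2.2 _ e'.2.1 e'.2.2)
  rw [h1, mul_inv_cancel_right]

/-- `J₀ = ⟨E ∩ T⟩` -/
def J0 (E : Set H) (T : Sylow 2 H) : Subgroup H := closure {e | e ∈ E ∧ e ∈ T}

omit [Finite H] h in
theorem J0_le : J0 E T ≤ (T : Subgroup H) := (closure_le _).mpr fun _ he => he.2

theorem J0_comm {j : H} (hj : j ∈ J0 E T) (e : XT E T) : j * e * j⁻¹ = e := by
  have : J0 E T ≤ centralizer {(e : H)} := by
    refine (closure_le _).mpr fun x hx => ?_
    rw [SetLike.mem_coe, mem_centralizer_singleton_iff]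
    have := h.X_comm ⟨x, hx⟩ e
    exact mul_inv_eq_iff_eq_mul.mp this
  rw [mul_inv_eq_iff_eq_mul]
  exact mem_centralizer_singleton_iff.mp (this hj)

theorem exists_J0 (r : XT E T → ZMod 2) : ∃ j ∈ J0 E T, h.sg j = r := by
  classical
  have : Fintype (XT E T) := Fintype.ofFinite _
  let R : AddSubgroup (XT E T → ZMod 2) :=
    { carrier := {r | ∃ j ∈ J0 E T, h.sg j = r}
      zero_mem' := by
        refine ⟨1, one_mem _, ?_⟩
        ext e
        show f (h.bb e) (ρ 1 (c (h.bb e))) = 0
        rw [rone, h.pself (h.bbE e)]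
      add_mem' := by
        rintro r s ⟨j, hj, rfl⟩ ⟨k, hk, rfl⟩
        exact ⟨j * k, mul_mem hj hk, h.sg_mul (J0_le hj) (J0_le hk) (h.J0_comm hj)
          (h.J0_comm hk)⟩
      neg_mem' := by
        rintro r ⟨j, hj, rfl⟩
        refine ⟨j, hj, ?_⟩
        rw [ZModModule.neg_eq_self] }
  have hs : ∀ e : XT E T, Pi.single e (1 : ZMod 2) ∈ R := fun e =>
    ⟨e, subset_closure e.2, h.sg_X e⟩
  have : r ∈ R := by
    have h1 : r = ∑ e, Pi.single e (r e) := (Finset.univ_sum_single r).symm
    rw [h1]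
    refine AddSubgroup.sum_mem _ fun e _ => ?_
    rcases z2 (r e) with h2 | h2
    · rw [h2, Pi.single_zero]; exact R.zero_mem
    · rw [h2]; exact hs e
  exact this

/-- An element of `T` centralising `E ∩ T` lies in `⟨E ∩ T⟩`. -/
theorem mem_J0 {a : H} (ha : a ∈ T) (hX : ∀ e : XT E T, a * e * a⁻¹ = e) : a ∈ J0 E T := by
  obtain ⟨j, hj, hja⟩ := h.exists_J0 (h.sg a)
  have h1 : a * j = 1 := by
    apply h.sg_inj (mul_mem ha (J0_le hj))
    · intro e
      have : a * j * e * (a * j)⁻¹ = a * (j * e * j⁻¹) * a⁻¹ := by group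
      rw [this, h.J0_comm hj, hX]
    · rw [h.sg_mul ha (J0_le hj) hX (h.J0_comm hj), hja]
      ext e
      exact z2_add_self _
  rw [eq_inv_of_mul_eq_one_left h1]
  exact inv_mem hj

/-! ### The inequality -/

omit [Finite H] in
/-- `A` acts on `E ∩ T`. -/
@[reducible] def actX {A : Subgroup H} (hA : A ≤ (T : Subgroup H)) : MulAction A (XT E T) where
  smul a e := h.cj (hA a.2) e
  one_smul e := Subtype.ext (by
    show (1 : H) * e * (1 : H)⁻¹ = e
    simp)
  mul_smul a b e := Subtype.ext (by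
    show ((a : H) * b) * e * ((a : H) * b)⁻¹ = a * (b * e * (b : H)⁻¹) * (a : H)⁻¹
    group)

/-- `C_V(A)` -/
def cv (ρ : H →* (V ≃ₗ[ZMod 2] V)) (A : Subgroup H) : AddSubgroup V where
  carrier := {v | ∀ a ∈ A, ρ a v = v}
  zero_mem' := fun _ _ => map_zero _
  add_mem' := fun {v w} hv hw a ha => by rw [map_add, hv a ha, hw a ha]
  neg_mem' := fun {v} hv a ha => by rw [map_neg, hv a ha]

theorem Phi_inv {A : Subgroup H} (hA : A ≤ (T : Subgroup H)) {v : V} (hv : v ∈ cv ρ A) {a : H}
    (ha : a ∈ A) (e : XT E T) : Phi E T f v (h.cj (hA ha) e) = Phi E T f v e := by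
  show f (a * e * a⁻¹) v = f e v
  rw [h.f_conj e.2.1, hv a⁻¹ (inv_mem ha)]

theorem off_aux {A : Subgroup H} (hA : A ≤ (T : Subgroup H))
    (hab : ∀ a ∈ A, ∀ b ∈ A, a * b = b * a) [Finite V] :
    ∃ u : ℕ, 0 < u ∧ u * (Nat.card A * Nat.card (cv ρ A)) ≤ Nat.card V ∧
      (u = 1 → A ≤ J0 E T) := by
  classical
  have : Fintype (XT E T) := Fintype.ofFinite _
  let _ := h.actX hA
  set R := XT E T → ZMod 2 with hR
  set RA : AddSubgroup R := inv2 A (XT E T) with hRA
  set A0 := (MulAction.toPermHom A (XT E T)).ker with hA0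
  have hA0' : ∀ a : A, a ∈ A0 ↔ ∀ e : XT E T, (a : H) * e * (a : H)⁻¹ = e := by
    intro a
    rw [hA0, MonoidHom.mem_ker]
    constructor
    · intro h1 e
      have h2 := congrArg (fun σ : Equiv.Perm (XT E T) => σ e) h1
      exact congrArg Subtype.val h2
    · intro h1
      ext e
      exact h1 e
  have c1 : Nat.card A * Nat.card RA ≤ Nat.card A0 * Nat.card R :=
    card_perm fun a b => Subtype.ext (hab a a.2 b b.2)
  -- (3)
  have c3 : Nat.card A0 * Nat.card ((cv ρ A).map (Phi E T f)) ≤ Nat.card RA := by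
    have hsg : ∀ a : A0, h.sg ((a : A) : H) ∈ RA := by
      intro a b e
      -- conjugate by b
      have haT : ((a : A) : H) ∈ T := hA (a : A).2
      have hbT : (b : H) ∈ T := hA b.2
      have hX := (hA0' a).mp a.2
      have hab' : (b : H) * ((a : A) : H) * (b : H)⁻¹ = ((a : A) : H) := by
        rw [hab b b.2 _ (a : A).2, mul_inv_cancel_right]
      have h1 := h.act_b (e := e) haT (hX e) (h.bbE e) (h.bbM e) (h.bb1 e)
      have h2 : f ((b : H) * h.bb e * (b : H)⁻¹) (c (h.cj hbT e)) = 1 := by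
        show f ((b : H) * h.bb e * (b : H)⁻¹) (c ((b : H) * e * (b : H)⁻¹)) = 1
        rw [h.p_conj (h.bbE e) e.2.1, h.bb1]
      have h3 := h.act_b (e := h.cj hbT e) haT (hX _) (h.conj _ (h.bbE e) b)
        (conj_notM (h.bbM e) (h.TM hbT)) h2
      have h4 : ρ (b : H) (ρ ((a : A) : H) (c (h.bb e))) =
          ρ ((a : A) : H) (ρ (b : H) (c (h.bb e))) := by
        rw [← rmul, ← rmul, hab b b.2 _ (a : A).2]
      have h5 : c ((b : H) * e * (b : H)⁻¹) = ρ (b : H) (c e) := h.c_conj e.2.1 b
      have h6 : c ((h.cj hbT e : XT E T) : H) = ρ (b : H) (c e) := h5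
      rw [h.c_conj (h.bbE e)] at h3
      rw [h1, map_add, map_smul, h3, h6] at h4
      have h7 : h.sg ((a : A) : H) e • ρ (b : H) (c e) =
          h.sg ((a : A) : H) (h.cj hbT e) • ρ (b : H) (c e) := add_left_cancel h4
      have hne : ρ (b : H) (c e) ≠ 0 := by
        rw [← h5]; exact (h.tr _ (h.cj_mem hbT e).1).c_ne
      show h.sg ((a : A) : H) (h.cj hbT e) = h.sg ((a : A) : H) e
      rcases z2 (h.sg ((a : A) : H) e) with h8 | h8 <;>
        rcases z2 (h.sg ((a : A) : H) (h.cj hbT e)) with h9 | h9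
      · rw [h8, h9]
      · rw [h8, h9, zero_smul, one_smul] at h7; exact absurd h7.symm hne
      · rw [h8, h9, zero_smul, one_smul] at h7; exact absurd h7 hne
      · rw [h8, h9]
    have hPh : ∀ g : (cv ρ A).map (Phi E T f), (g : R) ∈ RA := by
      rintro ⟨_, v, hv, rfl⟩ a e
      exact h.Phi_inv hA hv a.2 e
    -- the product of Φ(v) and σ(a) vanishes
    have hmul : ∀ (a : A0) (v : V), v ∈ cv ρ A → ∀ e : XT E T, h.sg ((a : A) : H) e = 1 →
        Phi E T f v e = 0 := by
      intro a v hv e h1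
      have haT : ((a : A) : H) ∈ T := hA (a : A).2
      have hX := (hA0' a).mp a.2
      have h2 := h.act_b (e := e) haT (hX e) (h.bbE e) (h.bbM e) (h.bb1 e)
      rcases h.a_bb haT (hX e) (h.bbE e) (h.bbM e) (h.bb1 e) with h3 | h3
      · exfalso
        rw [← h.c_conj (h.bbE e), h3, h1, one_smul] at h2
        exact (h.tr e e.2.1).c_ne (by simpa using h2.symm)
      · have h4 : f (((a : A) : H) * h.bb e * ((a : A) : H)⁻¹) v = f (h.bb e) v := by
          rw [h.f_conj (h.bbE e), hv _ (inv_mem (a : A).2)]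
        rw [h3, h.f_conj' (h.bbE e) e.2.1, h.bb1, mul_one] at h4
        show f e v = 0
        simpa using h4
    let F : A0 × ((cv ρ A).map (Phi E T f)) → RA := fun p =>
      ⟨(p.2 : R) + h.sg ((p.1 : A) : H), AddSubgroup.add_mem _ (hPh p.2) (hsg p.1)⟩
    have hF : Function.Injective F := by
      rintro ⟨a, ⟨_, v, hv, rfl⟩⟩ ⟨a', ⟨_, v', hv', rfl⟩⟩ heq
      have h1 : Phi E T f v + h.sg ((a : A) : H) = Phi E T f v' + h.sg ((a' : A) : H) :=
        congrArg Subtype.val heq
      -- σ(a a') = Φ(v + v')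
      have h2 : h.sg (((a * a' : A0) : A) : H) = h.sg ((a : A) : H) + h.sg ((a' : A) : H) :=
        h.sg_mul (hA (a : A).2) (hA (a' : A).2) ((hA0' a).mp a.2) ((hA0' a').mp a'.2)
      have h3 : Phi E T f (v + v') = h.sg (((a * a' : A0) : A) : H) := by
        rw [map_add, h2]
        ext e
        have h4 := congrFun h1 e
        simp only [Pi.add_apply] at h4 ⊢
        generalize Phi E T f v e = u at h4 ⊢
        generalize Phi E T f v' e = u' at h4 ⊢
        generalize h.sg ((a : A) : H) e = y at h4 ⊢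
        generalize h.sg ((a' : A) : H) e = z at h4 ⊢
        revert u u' y z
        decide
      have h4 : h.sg (((a * a' : A0) : A) : H) = 0 := by
        ext e
        rcases z2 (h.sg (((a * a' : A0) : A) : H) e) with h5 | h5
        · exact h5
        · have h6 := hmul (a * a') (v + v') (AddSubgroup.add_mem _ hv hv') e h5
          rw [h3] at h6
          exact h6
      have h5 : (((a * a' : A0) : A) : H) = 1 :=
        h.sg_inj (hA ((a * a' : A0) : A).2) ((hA0' _).mp (a * a').2) h4
      have h7 : h.sg ((a : A) : H) = h.sg ((a' : A) : H) := by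
        rw [h4] at h2
        ext e
        have h8 := congrFun h2 e
        simp only [Pi.zero_apply, Pi.add_apply] at h8
        generalize h.sg ((a : A) : H) e = y at h8 ⊢
        generalize h.sg ((a' : A) : H) e = z at h8 ⊢
        revert y z
        decide
      -- a = a'
      have h9 : ((a : A) : H) * (((a' : A) : H))⁻¹ = 1 := by
        apply h.sg_inj (mul_mem (hA (a : A).2) (inv_mem (hA (a' : A).2)))
        · intro e
          exact (hA0' (a * a'⁻¹ : A0)).mp (a * a'⁻¹).2 e
        · have h10 : h.sg ((a : A) : H) =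
              h.sg (((a : A) : H) * (((a' : A) : H))⁻¹ * ((a' : A) : H)) := by
            rw [inv_mul_cancel_right]
          rw [h.sg_mul (mul_mem (hA (a : A).2) (inv_mem (hA (a' : A).2))) (hA (a' : A).2)
            (fun e => (hA0' (a * a'⁻¹ : A0)).mp (a * a'⁻¹).2 e) ((hA0' a').mp a'.2), h7] at h10
          simpa using h10.symm
      have h11 : a = a' := by
        apply Subtype.ext
        apply Subtype.ext
        exact mul_inv_eq_one.mp h9
      subst h11
      have h12 : Phi E T f v = Phi E T f v' := add_right_cancel h1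
      congr 1
      exact Subtype.ext h12
    have h1 := Nat.card_le_card_of_injective F hF
    rwa [Nat.card_prod] at h1
  -- (4)
  have c4 : Nat.card ((Phi E T f).ker ⊓ cv ρ A : AddSubgroup V) * Nat.card R ≤
      Nat.card (Phi E T f).ker * Nat.card RA := by
    have hdel : ∀ r : R, del E T c r ∈ cv ρ A → r ∈ RA := by
      intro r hr a e
      have haT : (a : H) ∈ T := hA a.2
      -- apply `f (bb (a e))`
      have h1 := hr a a.2
      have h2 : f ((a : H) * h.bb e * (a : H)⁻¹) (del E T c r) = r (h.cj haT e) := by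
        show f _ (∑ e, r e • c e) = _
        rw [map_sum, Finset.sum_eq_single (h.cj haT e)]
        · have h3 : f ((a : H) * h.bb e * (a : H)⁻¹) (c (h.cj haT e)) = 1 := by
            show f ((a : H) * h.bb e * (a : H)⁻¹) (c ((a : H) * e * (a : H)⁻¹)) = 1
            rw [h.p_conj (h.bbE e) e.2.1, h.bb1]
          rw [map_smul, h3, smul_eq_mul, mul_one]
        · intro e' _ hne
          have h3 : f ((a : H) * h.bb e * (a : H)⁻¹) (c e') = 0 := by
            rcases z2 (f ((a : H) * h.bb e * (a : H)⁻¹) (c e')) with h4 | h4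
            · exact h4
            · exfalso
              apply hne
              apply Subtype.ext
              refine h.uniq_adj _ (h.conj _ (h.bbE e) a) (conj_notM (h.bbM e) (h.TM haT)) e'
                e'.2.1 e'.2.2 _ (h.cj_mem haT e).1 (h.cj_mem haT e).2 h4 ?_
              show f ((a : H) * h.bb e * (a : H)⁻¹) (c ((a : H) * e * (a : H)⁻¹)) = 1
              rw [h.p_conj (h.bbE e) e.2.1, h.bb1]
          rw [map_smul, h3, smul_zero]
        · intro hn
          exact absurd (Finset.mem_univ _) hn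
      have h3 : f ((a : H) * h.bb e * (a : H)⁻¹) (del E T c r) = r e := by
        rw [h.f_conj (h.bbE e), hr _ (inv_mem a.2), h.f_bb_del]
      show r (h.cj haT e) = r e
      rw [← h2, h3]
    let F : ((Phi E T f).ker ⊓ cv ρ A : AddSubgroup V) × (R ⧸ RA) → (Phi E T f).ker := fun p =>
      ⟨(p.1 : V) + del E T c p.2.out, AddSubgroup.add_mem _ p.1.2.1 (h.del_ker _)⟩
    have hF : Function.Injective F := by
      rintro ⟨⟨z, hz1, hz2⟩, q⟩ ⟨⟨z', hz1', hz2'⟩, q'⟩ heq
      have h1 : z + del E T c q.out = z' + del E T c q'.out := congrArg Subtype.val heq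
      have h2 : del E T c (-q.out + q'.out) = z + -z' := by
        rw [map_add, map_neg, ZModModule.neg_eq_self, ZModModule.neg_eq_self]
        have h3 : z + (z + del E T c q.out) + del E T c q'.out =
            z + (z' + del E T c q'.out) + del E T c q'.out := by rw [h1]
        rw [← add_assoc z z, v_add_self, zero_add] at h3
        rw [h3, add_assoc, add_assoc, v_add_self, add_zero]
      have h3 : -q.out + q'.out ∈ RA := by
        apply hdel
        rw [h2]
        exact AddSubgroup.add_mem _ hz2 (AddSubgroup.neg_mem _ hz2')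
      have h4 : q = q' := by
        rw [← QuotientAddGroup.out_eq' q, ← QuotientAddGroup.out_eq' q']
        exact QuotientAddGroup.eq.mpr h3
      subst h4
      have h5 : z = z' := add_right_cancel h1
      subst h5
      rfl
    have h1 := Nat.card_le_card_of_injective F hF
    rw [Nat.card_prod] at h1
    rw [AddSubgroup.card_eq_card_quotient_mul_card_addSubgroup RA, ← mul_assoc]
    exact Nat.mul_le_mul_right _ h1
  -- total
  have t1 : Nat.card V = Nat.card R * Nat.card (Phi E T f).ker := by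
    rw [card_hom (Phi E T f), AddMonoidHom.range_eq_top.mpr h.Phi_surj,
      Nat.card_congr AddSubgroup.topEquiv.toEquiv]
  have t2 : Nat.card (cv ρ A) = Nat.card ((cv ρ A).map (Phi E T f)) *
      Nat.card ((Phi E T f).ker ⊓ cv ρ A : AddSubgroup V) := by
    have h1 := card_hom ((Phi E T f).comp (cv ρ A).subtype)
    have h2 : ((Phi E T f).comp (cv ρ A).subtype).range = (cv ρ A).map (Phi E T f) := by
      ext r
      constructor
      · rintro ⟨v, rfl⟩; exact ⟨v, v.2, rfl⟩
      · rintro ⟨v, hv, rfl⟩; exact ⟨⟨v, hv⟩, rfl⟩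
    have h3 : Nat.card ((Phi E T f).comp (cv ρ A).subtype).ker =
        Nat.card ((Phi E T f).ker ⊓ cv ρ A : AddSubgroup V) := by
      refine Nat.card_congr ⟨fun v => ⟨(v : cv ρ A), v.2, (v : cv ρ A).2⟩,
        fun v => ⟨⟨v, v.2.2⟩, v.2.1⟩, fun v => rfl, fun v => rfl⟩
    rw [h1, h2, h3]
  have hdvd : Nat.card RA ∣ Nat.card R := AddSubgroup.card_addSubgroup_dvd_card RA
  obtain ⟨u, hu⟩ := hdvd
  have hRA0 : 0 < Nat.card RA := Nat.card_pos
  have hR0 : 0 < Nat.card R := Nat.card_pos
  have hu0 : 0 < u := by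
    rcases Nat.eq_zero_or_pos u with h0 | h0
    · rw [h0, mul_zero] at hu; omega
    · exact h0
  refine ⟨u, hu0, ?_, ?_⟩
  · set ka := Nat.card A
    set ra := Nat.card RA
    set a0 := Nat.card A0
    set r := Nat.card R
    set pc := Nat.card ((cv ρ A).map (Phi E T f))
    set kc := Nat.card ((Phi E T f).ker ⊓ cv ρ A : AddSubgroup V)
    set k := Nat.card (Phi E T f).ker
    have ha0 : 0 < a0 := Nat.card_pos
    rw [t1, t2]
    -- ka * ra ≤ a0 * r = a0 * ra * u, a0 * pc ≤ ra, kc * r ≤ k * ra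
    have d1 : ka ≤ a0 * u := by
      have : ka * ra ≤ (a0 * u) * ra := by
        calc ka * ra ≤ a0 * r := c1
          _ = (a0 * u) * ra := by rw [hu]; ring
      exact Nat.le_of_mul_le_mul_right this hRA0
    have d4 : kc * u ≤ k := by
      have : (kc * u) * ra ≤ k * ra := by
        calc (kc * u) * ra = kc * r := by rw [hu]; ring
          _ ≤ k * ra := c4
      exact Nat.le_of_mul_le_mul_right this hRA0
    calc u * (ka * (pc * kc)) = ka * pc * (kc * u) := by ring
      _ ≤ (a0 * u) * pc * k := Nat.mul_le_mul (Nat.mul_le_mul_right _ d1) d4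
      _ = (a0 * pc) * (u * k) := by ring
      _ ≤ ra * (u * k) := Nat.mul_le_mul_right _ c3
      _ = r * k := by rw [hu]; ring
  · intro hu1 a ha
    rw [hu1, mul_one] at hu
    have htop : RA = ⊤ := by
      apply AddSubgroup.eq_top_of_card_eq
      exact hu.symm
    apply h.mem_J0 (hA ha)
    intro e
    by_contra hne
    have h1 : Pi.single e (1 : ZMod 2) ∈ RA := by rw [htop]; exact AddSubgroup.mem_top _
    have h2 := h1 ⟨a, ha⟩ e
    have h3 : (⟨a, ha⟩ : A) • e ≠ e := fun h4 => hne (congrArg Subtype.val h4)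
    rw [Pi.single_eq_same, Pi.single_eq_of_ne h3] at h2
    exact zero_ne_one h2

/-- No over-offenders. -/
theorem off {A : Subgroup H} (hA : A ≤ (T : Subgroup H))
    (hab : ∀ a ∈ A, ∀ b ∈ A, a * b = b * a) [Finite V] :
    Nat.card A * Nat.card (cv ρ A) ≤ Nat.card V := by
  obtain ⟨u, hu, h1, -⟩ := h.off_aux hA hab
  exact le_trans (Nat.le_mul_of_pos_left _ hu) h1

/-- Offenders lie in `⟨E ∩ T⟩`. -/
theorem off_eq {A : Subgroup H} (hA : A ≤ (T : Subgroup H))
    (hab : ∀ a ∈ A, ∀ b ∈ A, a * b = b * a) [Finite V]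
    (hle : Nat.card V ≤ Nat.card A * Nat.card (cv ρ A)) : A ≤ J0 E T := by
  obtain ⟨u, hu, h1, h2⟩ := h.off_aux hA hab
  apply h2
  have h3 : 0 < Nat.card A * Nat.card (cv ρ A) := Nat.mul_pos Nat.card_pos Nat.card_pos
  have h4 : u * (Nat.card A * Nat.card (cv ρ A)) ≤ 1 * (Nat.card A * Nat.card (cv ρ A)) := by
    rw [one_mul]; exact h1.trans hle
  have h5 := Nat.le_of_mul_le_mul_right h4 h3
  omega

end Out

end Cfsg.Agent.Omega.Tv
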