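import Cfsg.Agent.Omega.FF.TvOff

/-!
# The transvection half of the FF-theorem for minimal parabolics: the points

helper670, OMEGA / FF.

Enumeration of `Δ = E ∖ M` (`Enum`), the functionals `φ i x` (`i` a class of `Δ`, `x` a point of the
class, `0` the point fixed by `T`), and the action of `H` on them.
-/

set_option autoImplicit false
set_option linter.unusedSectionVars false

namespace Cfsg.Agent.Omega.Tv

open Subgroup Cfsg

variable {H : Type*} [Group H] {V : Type*} [AddCommGroup V] [Module (ZMod 2) V]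
  {ρ : H →* (V ≃ₗ[ZMod 2] V)} {E : Set H} {c : H → V} {f : H → V →ₗ[ZMod 2] ZMod 2}
  {T : Sylow 2 H} {M : Subgroup H}

/-- An enumeration of `Δ` by `k` classes of `2^m` elements. -/
structure Enum (E : Set H) (c : H → V) (f : H → V →ₗ[ZMod 2] ZMod 2) (M : Subgroup H)
    (k m : ℕ) (β : Fin k × Fin (2 ^ m) → H) : Prop where
  k_pos : 0 < k
  m_pos : 0 < m
  inj : Function.Injective β
  mem : ∀ p, β p ∈ E
  notM : ∀ p, β p ∉ M
  surj : ∀ b ∈ E, b ∉ M → ∃ p, β p = b
  adj : ∀ p q, f (β p) (c (β q)) = 1 ↔ p ≠ q ∧ p.1 = q.1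

/-- `Δ` -/
abbrev DT (E : Set H) (M : Subgroup H) : Type _ := {b : H // b ∈ E ∧ b ∉ M}

namespace Out

variable [Finite H] (h : Out ρ E c f T M)

include h

/-- the equivalence relation on `Δ` -/
def std : Setoid (DT E M) where
  r a b := a = b ∨ f (a : H) (c (b : H)) = 1
  iseqv :=
    { refl := fun _ => Or.inl rfl
      symm := by
        rintro a b (rfl | h1)
        · exact Or.inl rfl
        · exact Or.inr (by rw [h.sym _ b.2.1 _ a.2.1]; exact h1)
      trans := by
        rintro a b d (rfl | h1) (rfl | h2)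
        · exact Or.inl rfl
        · exact Or.inr h2
        · exact Or.inr h1
        · rcases h.trans a a.2.1 a.2.2 b b.2.1 b.2.2 d d.2.1 d.2.2 h1 h2 with h3 | h3
          · exact Or.inl (Subtype.ext h3)
          · exact Or.inr h3 }

omit [Finite H] in
theorem tD_mem {t : H} (ht : t ∈ T) (b : DT E M) : t * b * t⁻¹ ∈ E ∧ t * b * t⁻¹ ∉ M :=
  ⟨h.conj b b.2.1 t, conj_notM b.2.2 (h.TM ht)⟩

/-- the action of `T` on `Δ` -/
@[reducible] def actD : MulAction (T : Subgroup H) (DT E M) where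
  smul t b := ⟨t * b * (t : H)⁻¹, h.tD_mem t.2 b⟩
  one_smul b := Subtype.ext (by
    show (1 : H) * b * (1 : H)⁻¹ = b
    simp)
  mul_smul s t b := Subtype.ext (by
    show ((s : H) * t) * b * ((s : H) * t)⁻¹ = s * (t * b * (t : H)⁻¹) * (s : H)⁻¹
    group)

theorem card_D : ∃ l : ℕ, Nat.card (DT E M) = 2 ^ l := by
  let _ := h.actD
  obtain ⟨b, hb, hbM⟩ := h.exists_not_mem
  obtain ⟨l, hl⟩ := IsPGroup.card_orbit (G := (T : Subgroup H)) T.isPGroup'
    (⟨b, hb, hbM⟩ : DT E M)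
  refine ⟨l, ?_⟩
  rw [← hl]
  have : MulAction.orbit (T : Subgroup H) (⟨b, hb, hbM⟩ : DT E M) = Set.univ := by
    rw [Set.eq_univ_iff_forall]
    rintro ⟨d, hd, hdM⟩
    obtain ⟨t, ht, rfl⟩ := h.transD b hb hbM d hd hdM
    exact ⟨⟨t, ht⟩, rfl⟩
  rw [this, Nat.card_congr (Equiv.Set.univ _)]

/-- each `b ∈ Δ` does not commute with another one -/
theorem exists_ne (b : DT E M) : ∃ d : DT E M, d ≠ b ∧ f (b : H) (c (d : H)) = 1 := by
  obtain ⟨e, he, heT, h1⟩ := h.adj b b.2.1 b.2.2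
  refine ⟨⟨e * b * e⁻¹, h.conj b b.2.1 e, conj_notM b.2.2 (h.TM heT)⟩, ?_, ?_⟩
  · intro h2
    have h3 : e * b * e⁻¹ = b := congrArg Subtype.val h2
    have h4 := h.c_conj' b.2.1 he
    rw [h3, h.sym e he b b.2.1, h1, one_smul] at h4
    exact (h.tr e he).c_ne (by simpa using h4.symm)
  · show f (b : H) (c (e * b * e⁻¹)) = 1
    rw [h.c_conj' b.2.1 he, map_add, map_smul, h.pself b.2.1, h1, h.sym e he b b.2.1, h1,
      zero_add, smul_eq_mul, mul_one]

theorem exists_enum : ∃ (k m : ℕ) (β : Fin k × Fin (2 ^ m) → H), Enum E c f M k m β := by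
  classical
  let _ := h.actD
  let s := h.std
  let Q := Quotient s
  have hfin : Finite (DT E M) := inferInstance
  have hQ : Finite Q := inferInstance
  -- the classes have the same cardinality
  have hsame : ∀ q q' : Q, Nat.card {a : DT E M // Quotient.mk s a = q} =
      Nat.card {a : DT E M // Quotient.mk s a = q'} := by
    intro q q'
    obtain ⟨a, rfl⟩ := Quotient.exists_rep q
    obtain ⟨a', rfl⟩ := Quotient.exists_rep q'
    obtain ⟨t, ht, hta⟩ := h.transD a a.2.1 a.2.2 a' a'.2.1 a'.2.2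
    have hta' : (⟨t, ht⟩ : (T : Subgroup H)) • a = a' := Subtype.ext hta.symm
    have hcompat : ∀ (u : (T : Subgroup H)) (x y : DT E M), s.r x y → s.r (u • x) (u • y) := by
      rintro u x y (rfl | h1)
      · exact Or.inl rfl
      · right
        show f ((u : H) * x * (u : H)⁻¹) (c ((u : H) * y * (u : H)⁻¹)) = 1
        rw [h.p_conj x.2.1 y.2.1, h1]
    refine Nat.card_congr ⟨fun x => ⟨(⟨t, ht⟩ : (T : Subgroup H)) • (x : DT E M), ?_⟩,
      fun x => ⟨(⟨t, ht⟩ : (T : Subgroup H))⁻¹ • (x : DT E M), ?_⟩, ?_, ?_⟩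
    · have h1 := Quotient.exact x.2
      rw [← hta']
      exact Quotient.sound (hcompat _ _ _ h1)
    · have h1 := Quotient.exact x.2
      have h2 := hcompat (⟨t, ht⟩ : (T : Subgroup H))⁻¹ _ _ h1
      have h3 : (⟨t, ht⟩ : (T : Subgroup H))⁻¹ • a' = a := by rw [← hta', inv_smul_smul]
      rw [h3] at h2
      exact Quotient.sound h2
    · intro x
      exact Subtype.ext (inv_smul_smul _ _)
    · intro x
      exact Subtype.ext (smul_inv_smul _ _)
  obtain ⟨b, hb, hbM⟩ := h.exists_not_mem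
  let q0 : Q := Quotient.mk s ⟨b, hb, hbM⟩
  set n := Nat.card {a : DT E M // Quotient.mk s a = q0} with hn
  have hcard : Nat.card (DT E M) = Nat.card Q * n := by
    have e1 : (Σ q : Q, {a : DT E M // Quotient.mk s a = q}) ≃ DT E M :=
      Equiv.sigmaFiberEquiv (fun a => Quotient.mk s a)
    have : Fintype Q := Fintype.ofFinite _
    rw [← Nat.card_congr e1, Nat.card_sigma, Finset.sum_congr rfl fun q _ => hsame q q0,
      Finset.sum_const, Finset.card_univ, ← Nat.card_eq_fintype_card (α := Q), smul_eq_mul]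
  obtain ⟨l, hl⟩ := h.card_D
  have hdvd : n ∣ 2 ^ l := by rw [← hl, hcard]; exact Dvd.intro_left _ rfl
  obtain ⟨m, -, hm⟩ := (Nat.dvd_prime_pow Nat.prime_two).mp hdvd
  have hm0 : 0 < m := by
    rcases Nat.eq_zero_or_pos m with h0 | h0
    · exfalso
      rw [h0, pow_zero] at hm
      obtain ⟨d, hd, h1⟩ := h.exists_ne ⟨b, hb, hbM⟩
      have h2 : Quotient.mk s d = q0 := Quotient.sound (Or.inr (by
        rw [h.sym _ d.2.1 _ hb]; exact h1))
      rw [hn, Nat.card_eq_one_iff_unique] at hm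
      have := hm.1
      have h3 := this.elim (⟨d, h2⟩ : {a : DT E M // Quotient.mk s a = q0}) ⟨⟨b, hb, hbM⟩, rfl⟩
      exact hd (congrArg Subtype.val h3)
    · exact h0
  let eQ : Fin (Nat.card Q) ≃ Q := (Finite.equivFin Q).symm
  have ec : ∀ q : Q, Nonempty (Fin (2 ^ m) ≃ {a : DT E M // Quotient.mk s a = q}) := by
    intro q
    have h1 : Nat.card {a : DT E M // Quotient.mk s a = q} = 2 ^ m := by rw [hsame q q0, ← hn, hm]
    exact ⟨(Finite.equivFinOfCardEq h1).symm⟩
  let ec' := fun q => (ec q).some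
  refine ⟨Nat.card Q, m, fun p => ((ec' (eQ p.1) p.2 : DT E M) : H), ?_⟩
  have hcls : ∀ p : Fin (Nat.card Q) × Fin (2 ^ m),
      Quotient.mk s (ec' (eQ p.1) p.2 : DT E M) = eQ p.1 := fun p => (ec' (eQ p.1) p.2).2
  have hinj : Function.Injective fun p : Fin (Nat.card Q) × Fin (2 ^ m) =>
      ((ec' (eQ p.1) p.2 : DT E M) : H) := by
    rintro ⟨i, x⟩ ⟨j, y⟩ hxy
    have h1 : (ec' (eQ i) x : DT E M) = (ec' (eQ j) y : DT E M) := Subtype.ext hxy
    have h2 : eQ i = eQ j := by rw [← hcls (i, x), ← hcls (j, y)]; exact congrArg _ h1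
    have h3 : i = j := eQ.injective h2
    subst h3
    have h4 : x = y := (ec' (eQ i)).injective (Subtype.ext h1)
    rw [h4]
  refine ⟨Nat.pos_of_ne_zero ?_, hm0, hinj, fun p => (ec' (eQ p.1) p.2 : DT E M).2.1,
    fun p => (ec' (eQ p.1) p.2 : DT E M).2.2, ?_, ?_⟩
  · intro h0
    have : Nonempty Q := ⟨q0⟩
    exact absurd h0 Nat.card_pos.ne'
  · intro d hd hdM
    refine ⟨(eQ.symm (Quotient.mk s ⟨d, hd, hdM⟩),
      (ec' (eQ (eQ.symm (Quotient.mk s ⟨d, hd, hdM⟩)))).symm ⟨⟨d, hd, hdM⟩, ?_⟩), ?_⟩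
    · rw [Equiv.apply_symm_apply]
    · exact congrArg (fun z : {a : DT E M // Quotient.mk s a =
        eQ (eQ.symm (Quotient.mk s ⟨d, hd, hdM⟩))} => ((z : DT E M) : H))
        (Equiv.apply_symm_apply (ec' (eQ (eQ.symm (Quotient.mk s ⟨d, hd, hdM⟩)))) _)
  · intro p q
    constructor
    · intro h1
      constructor
      · rintro rfl
        rw [h.pself (ec' (eQ p.1) p.2 : DT E M).2.1] at h1
        exact zero_ne_one h1
      · have h2 : Quotient.mk s (ec' (eQ p.1) p.2 : DT E M) =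
            Quotient.mk s (ec' (eQ q.1) q.2 : DT E M) := Quotient.sound (Or.inr h1)
        rw [hcls, hcls] at h2
        exact eQ.injective h2
    · rintro ⟨hne, h1⟩
      have h2 : Quotient.mk s (ec' (eQ p.1) p.2 : DT E M) =
          Quotient.mk s (ec' (eQ q.1) q.2 : DT E M) := by
        rw [hcls, hcls, h1]
      rcases Quotient.exact h2 with h3 | h3
      · exact absurd (hinj (congrArg Subtype.val h3)) hne
      · exact h3

end Out

/-! ### The functionals -/

section ph

variable {k m : ℕ}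

/-- the coordinate functionals: `φ i 0 = ∑_x f_{i,x}`, `φ i (x+1) = f_{i,x} + φ i 0` -/
def ph (f : H → V →ₗ[ZMod 2] ZMod 2) (β : Fin k × Fin (2 ^ m) → H) (i : Fin k) :
    Fin (2 ^ m + 1) → (V →ₗ[ZMod 2] ZMod 2) :=
  Fin.cases (∑ y, f (β (i, y))) (fun x => f (β (i, x)) + ∑ y, f (β (i, y)))

theorem ph_zero (β : Fin k × Fin (2 ^ m) → H) (i : Fin k) (v : V) :
    ph f β i 0 v = ∑ y, f (β (i, y)) v := by
  show (∑ y, f (β (i, y))) v = _
  rw [LinearMap.sum_apply]

theorem ph_succ (β : Fin k × Fin (2 ^ m) → H) (i : Fin k) (x : Fin (2 ^ m)) (v : V) :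
    ph f β i x.succ v = f (β (i, x)) v + ∑ y, f (β (i, y)) v := by
  show (f (β (i, x)) + ∑ y, f (β (i, y))) v = _
  rw [LinearMap.add_apply, LinearMap.sum_apply]

/-- `π` on the summand `i`, the identity on the others -/
abbrev msg {k n : ℕ} (i : Fin k) (π : Equiv.Perm (Fin n)) : Fin k → Equiv.Perm (Fin n) :=
  Pi.mulSingle i π

/-- `g` acts on the points by `(σ, τ)`. -/
def Acts (ρ : H →* (V ≃ₗ[ZMod 2] V)) {k n : ℕ} (φ : Fin k → Fin n → (V →ₗ[ZMod 2] ZMod 2))
    (g : H) (σ : Equiv.Perm (Fin k)) (τ : Fin k → Equiv.Perm (Fin n)) : Prop :=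
  ∀ v i x, φ (σ i) (τ i x) (ρ g v) = φ i x v

variable {n : ℕ} {φ : Fin k → Fin n → (V →ₗ[ZMod 2] ZMod 2)}

theorem Acts.one : Acts ρ φ 1 1 1 := by
  intro v i x
  rw [rone]; rfl

theorem Acts.mul {g g' : H} {σ σ' : Equiv.Perm (Fin k)} {τ τ' : Fin k → Equiv.Perm (Fin n)}
    (h : Acts ρ φ g σ τ) (h' : Acts ρ φ g' σ' τ') :
    Acts ρ φ (g * g') (σ * σ') (fun i => τ (σ' i) * τ' i) := by
  intro v i x
  rw [rmul]
  show φ (σ (σ' i)) (τ (σ' i) (τ' i x)) (ρ g (ρ g' v)) = φ i x v
  rw [h, h']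

theorem Acts.inv {g : H} {σ : Equiv.Perm (Fin k)} {τ : Fin k → Equiv.Perm (Fin n)}
    (h : Acts ρ φ g σ τ) : Acts ρ φ g⁻¹ σ⁻¹ (fun i => (τ (σ⁻¹ i))⁻¹) := by
  intro v i x
  have h1 := h (ρ g⁻¹ v) (σ⁻¹ i) ((τ (σ⁻¹ i))⁻¹ x)
  rw [rinv', show σ (σ⁻¹ i) = i from σ.apply_symm_apply i,
    show τ (σ⁻¹ i) ((τ (σ⁻¹ i))⁻¹ x) = x from (τ (σ⁻¹ i)).apply_symm_apply x] at h1
  exact h1.symm

theorem Acts.mul1 {g g' : H} {τ τ' : Fin k → Equiv.Perm (Fin n)}
    (h : Acts ρ φ g 1 τ) (h' : Acts ρ φ g' 1 τ') : Acts ρ φ (g * g') 1 (τ * τ') := by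
  have := h.mul h'
  rwa [mul_one] at this

theorem Acts.inv1 {g : H} {τ : Fin k → Equiv.Perm (Fin n)}
    (h : Acts ρ φ g 1 τ) : Acts ρ φ g⁻¹ 1 τ⁻¹ := by
  have := h.inv
  rwa [inv_one] at this

end ph

namespace Enum

variable {k m : ℕ} {β : Fin k × Fin (2 ^ m) → H} (en : Enum E c f M k m β)

include en

theorem adj_iff (p q : Fin k × Fin (2 ^ m)) (hne : p ≠ q) :
    f (β p) (c (β q)) = if p.1 = q.1 then 1 else 0 := by
  by_cases h1 : p.1 = q.1
  · rw [if_pos h1]; exact (en.adj p q).mpr ⟨hne, h1⟩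
  · rw [if_neg h1]
    rcases z2 (f (β p) (c (β q))) with h2 | h2
    · exact h2
    · exact absurd ((en.adj p q).mp h2).2 h1

theorem pow_zero2 : ((2 ^ m : ℕ) : ZMod 2) = 0 := by
  rw [Nat.cast_pow, show ((2 : ℕ) : ZMod 2) = 0 from rfl, zero_pow en.m_pos.ne']

theorem pow_ge : 2 ≤ 2 ^ m := by
  calc 2 = 2 ^ 1 := (pow_one 2).symm
    _ ≤ 2 ^ m := Nat.pow_le_pow_right (by norm_num) en.m_pos

/-- the values of the functionals are even functions -/
theorem sum_ph (i : Fin k) (v : V) : ∑ x, ph f β i x v = 0 := by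
  rw [Fin.sum_univ_succ, ph_zero, Finset.sum_congr rfl fun x _ => ph_succ β i x v,
    Finset.sum_add_distrib, Finset.sum_const, Finset.card_univ, Fintype.card_fin, nsmul_eq_mul,
    en.pow_zero2, zero_mul, add_zero, z2_add_self]

variable [Finite H] (h : Out ρ E c f T M)

include h

theorem f_comb (y : Fin k × Fin (2 ^ m) → ZMod 2) (p : Fin k × Fin (2 ^ m)) :
    f (β p) (∑ q, y q • c (β q)) = (∑ x, y (p.1, x)) + y p := by
  classical
  rw [map_sum]
  have h1 : ∀ q, f (β p) (y q • c (β q)) =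
      (if q.1 = p.1 then y q else 0) + if q = p then y q else 0 := by
    intro q
    rw [map_smul, smul_eq_mul]
    by_cases hq : q = p
    · subst hq
      rw [h.pself (en.mem q), mul_zero, if_pos rfl, if_pos rfl, z2_add_self]
    · rw [en.adj_iff p q (Ne.symm hq), if_neg hq, add_zero]
      by_cases h2 : p.1 = q.1
      · rw [if_pos h2, if_pos h2.symm, mul_one]
      · rw [if_neg h2, if_neg (Ne.symm h2), mul_zero]
  rw [Finset.sum_congr rfl fun q _ => h1 q, Finset.sum_add_distrib]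
  congr 1
  · rw [Fintype.sum_prod_type, Finset.sum_eq_single p.1]
    · exact Finset.sum_congr rfl fun x _ => if_pos rfl
    · intro i _ hi
      exact Finset.sum_eq_zero fun x _ => if_neg hi
    · intro hn
      exact absurd (Finset.mem_univ _) hn
  · rw [Finset.sum_ite_eq']
    simp

/-- every even function is a value -/
theorem surj_ph (y : Fin k → Fin (2 ^ m + 1) → ZMod 2) (hy : ∀ i, ∑ x, y i x = 0) :
    ∀ i x, ph f β i x (∑ q : Fin k × Fin (2 ^ m), y q.1 q.2.succ • c (β q)) = y i x := by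
  intro i
  have h0 : ∑ x : Fin (2 ^ m), y i x.succ = y i 0 := by
    have h1 := hy i
    rw [Fin.sum_univ_succ] at h1
    exact (v_eq_of_add h1).symm
  have hc : ∀ x, f (β (i, x)) (∑ q : Fin k × Fin (2 ^ m), y q.1 q.2.succ • c (β q)) =
      y i 0 + y i x.succ := by
    intro x
    have h1 := en.f_comb h (fun q => y q.1 q.2.succ) (i, x)
    rw [← h0]
    exact h1
  have h1 : ∑ x : Fin (2 ^ m), f (β (i, x))
      (∑ q : Fin k × Fin (2 ^ m), y q.1 q.2.succ • c (β q)) = y i 0 := by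
    rw [Finset.sum_congr rfl fun x _ => hc x,
      Finset.sum_add_distrib, Finset.sum_const, Finset.card_univ, Fintype.card_fin, nsmul_eq_mul,
      en.pow_zero2, zero_mul, zero_add, h0]
  intro x
  refine Fin.cases ?_ (fun x => ?_) x
  · rw [ph_zero, h1]
  · rw [ph_succ, h1, hc, add_right_comm, z2_add_self, zero_add]

omit h [Finite H] in
/-- the common kernel -/
theorem ph_ker (v : V) : (∀ i x, ph f β i x v = 0) ↔ ∀ b ∈ E, b ∉ M → f b v = 0 := by
  constructor
  · intro h1 b hb hbM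
    obtain ⟨⟨i, x⟩, rfl⟩ := en.surj b hb hbM
    have h2 := h1 i 0
    have h3 := h1 i x.succ
    rw [ph_zero] at h2
    rw [ph_succ, h2, add_zero] at h3
    exact h3
  · intro h1 i x
    have h2 : ∀ p, f (β p) v = 0 := fun p => h1 _ (en.mem p) (en.notM p)
    refine Fin.cases ?_ (fun x => ?_) x
    · rw [ph_zero]
      exact Finset.sum_eq_zero fun y _ => h2 _
    · rw [ph_succ, h2, zero_add]
      exact Finset.sum_eq_zero fun y _ => h2 _

/-- the action of the members of `Δ` -/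
theorem acts_b (p : Fin k × Fin (2 ^ m)) :
    Acts ρ (ph f β) (β p) 1 (msg p.1 (Equiv.swap 0 p.2.succ)) := by
  obtain ⟨j, y⟩ := p
  intro v i x
  show ph f β i (msg j (Equiv.swap 0 y.succ) i x) (ρ (β (j, y)) v) = ph f β i x v
  have hf : ∀ (q : Fin k × Fin (2 ^ m)), f (β q) (ρ (β (j, y)) v) =
      f (β q) v + f (β (j, y)) v * f (β q) (c (β (j, y))) := by
    intro q
    rw [h.act (en.mem _), map_add, map_smul, smul_eq_mul]
  by_cases hij : i = j
  · subst hij
    rw [show msg i (Equiv.swap 0 y.succ) i = Equiv.swap 0 y.succ from Pi.mulSingle_eq_same _ _]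
    have hs : ∑ z, f (β (i, z)) (ρ (β (i, y)) v) = ∑ z, f (β (i, z)) v + f (β (i, y)) v := by
      have h1 : ∀ z, f (β (i, z)) (ρ (β (i, y)) v) =
          f (β (i, z)) v + (f (β (i, y)) v + if z = y then f (β (i, y)) v else 0) := by
        intro z
        rw [hf]
        by_cases hz : z = y
        · subst hz
          rw [h.pself (en.mem _), mul_zero, if_pos rfl, z2_add_self]
        · rw [en.adj_iff _ _ (by simpa using hz), if_pos rfl, mul_one, if_neg hz, add_zero]
      rw [Finset.sum_congr rfl fun z _ => h1 z, Finset.sum_add_distrib, Finset.sum_add_distrib,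
        Finset.sum_const, Finset.card_univ, Fintype.card_fin, nsmul_eq_mul, en.pow_zero2, zero_mul,
        zero_add, Finset.sum_ite_eq']
      simp
    refine Fin.cases ?_ (fun x => ?_) x
    · rw [Equiv.swap_apply_left, ph_succ, ph_zero, hs, hf, h.pself (en.mem _), mul_zero, add_zero,
        add_comm (f (β (i, y)) v), add_assoc, z2_add_self, add_zero]
    · by_cases hx : x = y
      · subst hx
        rw [Equiv.swap_apply_right, ph_zero, ph_succ, hs, add_comm]
      · rw [Equiv.swap_apply_of_ne_of_ne (Fin.succ_ne_zero x)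
          (fun h0 => hx (Fin.succ_injective _ h0)), ph_succ, ph_succ, hs, hf,
          en.adj_iff _ _ (by simpa using hx), if_pos rfl, mul_one]
        have := z2_add_self (f (β (i, y)) v)
        calc f (β (i, x)) v + f (β (i, y)) v + (∑ z, f (β (i, z)) v + f (β (i, y)) v)
            = f (β (i, x)) v + ∑ z, f (β (i, z)) v + (f (β (i, y)) v + f (β (i, y)) v) := by ring
          _ = _ := by rw [this, add_zero]
  · rw [show msg j (Equiv.swap 0 y.succ) i = 1 from Pi.mulSingle_eq_of_ne hij _]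
    have h1 : ∀ z, f (β (i, z)) (ρ (β (j, y)) v) = f (β (i, z)) v := by
      intro z
      rw [hf, en.adj_iff _ _ (by
        intro h0
        exact hij (congrArg Prod.fst h0)), if_neg hij, mul_zero, add_zero]
    refine Fin.cases ?_ (fun x => ?_) x
    · show ph f β i 0 _ = _
      rw [ph_zero, ph_zero, Finset.sum_congr rfl fun z _ => h1 z]
    · show ph f β i x.succ _ = _
      rw [ph_succ, ph_succ, h1, Finset.sum_congr rfl fun z _ => h1 z]

/-- distinct points have distinct functionals -/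
theorem ph_inj {i j : Fin k} {x y : Fin (2 ^ m + 1)} (hxy : ∀ v, ph f β i x v = ph f β j y v) :
    i = j ∧ x = y := by
  classical
  have hge := en.pow_ge
  by_cases hij : i = j
  · subst hij
    refine ⟨rfl, ?_⟩
    by_contra hne
    -- a third point
    obtain ⟨z, hz⟩ : ∃ z : Fin (2 ^ m + 1), z ∉ ({x, y} : Finset (Fin (2 ^ m + 1))) := by
      by_contra hcon
      push Not at hcon
      have h1 : (Finset.univ : Finset (Fin (2 ^ m + 1))) ⊆ {x, y} := fun z _ => hcon z
      have h2 := Finset.card_le_card h1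
      have h3 : ({x, y} : Finset (Fin (2 ^ m + 1))).card ≤ 2 := Finset.card_le_two
      rw [Finset.card_univ, Fintype.card_fin] at h2
      omega
    rw [Finset.mem_insert, Finset.mem_singleton, not_or] at hz
    let w : Fin k → Fin (2 ^ m + 1) → ZMod 2 := fun a => if a = i then
      (Pi.single x 1 + Pi.single z 1 : Fin (2 ^ m + 1) → ZMod 2) else 0
    have hw : ∀ a, ∑ t, w a t = 0 := by
      intro a
      by_cases ha : a = i
      · show ∑ t, (if a = i then (Pi.single x 1 + Pi.single z 1 : Fin (2 ^ m + 1) → ZMod 2)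
          else 0) t = 0
        rw [if_pos ha]
        simp only [Pi.add_apply, Finset.sum_add_distrib, Finset.sum_pi_single', Finset.mem_univ,
          if_true]
        exact z2_add_self 1
      · show ∑ t, (if a = i then (Pi.single x 1 + Pi.single z 1 : Fin (2 ^ m + 1) → ZMod 2)
          else 0) t = 0
        rw [if_neg ha]
        simp
    have h1 := en.surj_ph h w hw i x
    have h2 := en.surj_ph h w hw i y
    rw [hxy, h2] at h1
    have h3 : w i y = (Pi.single x 1 + Pi.single z 1 : Fin (2 ^ m + 1) → ZMod 2) y := by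
      show (if i = i then _ else _ : Fin (2 ^ m + 1) → ZMod 2) y = _
      rw [if_pos rfl]
    have h4 : w i x = (Pi.single x 1 + Pi.single z 1 : Fin (2 ^ m + 1) → ZMod 2) x := by
      show (if i = i then _ else _ : Fin (2 ^ m + 1) → ZMod 2) x = _
      rw [if_pos rfl]
    rw [h3, h4, Pi.add_apply, Pi.add_apply, Pi.single_eq_same,
      Pi.single_eq_of_ne (Ne.symm hne), Pi.single_eq_of_ne (Ne.symm hz.2),
      Pi.single_eq_of_ne (Ne.symm hz.1), add_zero, add_zero] at h1
    exact zero_ne_one h1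
  · exfalso
    obtain ⟨z, hz⟩ : ∃ z : Fin (2 ^ m + 1), z ≠ x := by
      by_cases hx : x = 0
      · refine ⟨Fin.last _, ?_⟩
        rw [hx]
        intro h0
        have := congrArg Fin.val h0
        simp at this
      · exact ⟨0, Ne.symm hx⟩
    let w : Fin k → Fin (2 ^ m + 1) → ZMod 2 := fun a => if a = i then
      (Pi.single x 1 + Pi.single z 1 : Fin (2 ^ m + 1) → ZMod 2) else 0
    have hw : ∀ a, ∑ t, w a t = 0 := by
      intro a
      by_cases ha : a = i
      · show ∑ t, (if a = i then (Pi.single x 1 + Pi.single z 1 : Fin (2 ^ m + 1) → ZMod 2)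
          else 0) t = 0
        rw [if_pos ha]
        simp only [Pi.add_apply, Finset.sum_add_distrib, Finset.sum_pi_single', Finset.mem_univ,
          if_true]
        exact z2_add_self 1
      · show ∑ t, (if a = i then (Pi.single x 1 + Pi.single z 1 : Fin (2 ^ m + 1) → ZMod 2)
          else 0) t = 0
        rw [if_neg ha]
        simp
    have h1 := en.surj_ph h w hw i x
    have h2 := en.surj_ph h w hw j y
    rw [hxy, h2] at h1
    have h3 : w j y = 0 := by
      show (if j = i then _ else _ : Fin (2 ^ m + 1) → ZMod 2) y = _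
      rw [if_neg (Ne.symm hij)]; rfl
    have h4 : w i x = (Pi.single x 1 + Pi.single z 1 : Fin (2 ^ m + 1) → ZMod 2) x := by
      show (if i = i then _ else _ : Fin (2 ^ m + 1) → ZMod 2) x = _
      rw [if_pos rfl]
    rw [h3, h4, Pi.add_apply, Pi.single_eq_same, Pi.single_eq_of_ne (Ne.symm hz), add_zero] at h1
    exact zero_ne_one h1

theorem acts_unique {g : H} {σ σ' : Equiv.Perm (Fin k)}
    {τ τ' : Fin k → Equiv.Perm (Fin (2 ^ m + 1))} (h1 : Acts ρ (ph f β) g σ τ)
    (h2 : Acts ρ (ph f β) g σ' τ') : σ = σ' ∧ τ = τ' := by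
  have key : ∀ i x, σ i = σ' i ∧ τ i x = τ' i x := by
    intro i x
    apply en.ph_inj h
    intro v
    have e1 := h1 (ρ g⁻¹ v) i x
    have e2 := h2 (ρ g⁻¹ v) i x
    rw [rinv'] at e1 e2
    rw [e1, e2]
  refine ⟨Equiv.ext fun i => (key i 0).1, funext fun i => Equiv.ext fun x => (key i x).2⟩

/-- the action of `T` on the points -/
theorem acts_T {t : H} (ht : t ∈ T) : ∃ (σ : Equiv.Perm (Fin k))
    (τ : Fin k → Equiv.Perm (Fin (2 ^ m + 1))), Acts ρ (ph f β) t σ τ ∧ (∀ i, τ i 0 = 0) ∧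
      ∀ i x y, t * β (i, x) * t⁻¹ = β (σ i, y) ↔ τ i x.succ = y.succ := by
  classical
  -- the permutation of the indices
  have hex : ∀ p, ∃ q, β q = t * β p * t⁻¹ := fun p =>
    en.surj _ (h.conj _ (en.mem p) t) (conj_notM (en.notM p) (h.TM ht))
  choose π hπ using hex
  have hπi : Function.Injective π := by
    intro p q hpq
    have h1 : t * β p * t⁻¹ = t * β q * t⁻¹ := by rw [← hπ, ← hπ, hpq]
    exact en.inj (by simpa using h1)
  have hπc : ∀ p q, p.1 = q.1 ↔ (π p).1 = (π q).1 := by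
    intro p q
    by_cases hpq : p = q
    · rw [hpq]; simp
    · have h1 : f (β (π p)) (c (β (π q))) = f (β p) (c (β q)) := by
        rw [hπ, hπ, h.p_conj (en.mem p) (en.mem q)]
      have h2 := en.adj p q
      have h3 := en.adj (π p) (π q)
      rw [h1] at h3
      constructor
      · intro h4
        exact (h3.mp (h2.mpr ⟨hpq, h4⟩)).2
      · intro h4
        exact (h2.mp (h3.mpr ⟨fun h5 => hpq (hπi h5), h4⟩)).2
  have hpos : 0 < 2 ^ m := Nat.pos_of_ne_zero (by positivity)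
  let z0 : Fin (2 ^ m) := ⟨0, hpos⟩
  have hσi : Function.Injective fun i => (π (i, z0)).1 := by
    intro i j hij
    exact (hπc (i, z0) (j, z0)).mpr hij
  let σ : Equiv.Perm (Fin k) := Equiv.ofBijective _ (Finite.injective_iff_bijective.mp hσi)
  have hσ : ∀ i x, (π (i, x)).1 = σ i := fun i x => (hπc (i, x) (i, z0)).mp rfl
  have hτi : ∀ i, Function.Injective fun x => (π (i, x)).2 := by
    intro i x y hxy
    have h1 : π (i, x) = π (i, y) := Prod.ext (by rw [hσ, hσ]) hxy
    exact congrArg Prod.snd (hπi h1)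
  let τ' : Fin k → Equiv.Perm (Fin (2 ^ m)) := fun i =>
    Equiv.ofBijective _ (Finite.injective_iff_bijective.mp (hτi i))
  have hτ' : ∀ i x, π (i, x) = (σ i, τ' i x) := fun i x => Prod.ext (hσ i x) rfl
  let τ : Fin k → Equiv.Perm (Fin (2 ^ m + 1)) := fun i =>
    Equiv.Perm.decomposeFin.symm (0, τ' i)
  have hτ0 : ∀ i, τ i 0 = 0 := fun i => Equiv.Perm.decomposeFin_symm_apply_zero 0 (τ' i)
  have hτs : ∀ i x, τ i x.succ = (τ' i x).succ := fun i x => by
    rw [show τ i = Equiv.Perm.decomposeFin.symm (0, τ' i) from rfl,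
      Equiv.Perm.decomposeFin_symm_apply_succ, Equiv.swap_self]
    rfl
  refine ⟨σ, τ, ?_, hτ0, ?_⟩
  · intro v i x
    have hf : ∀ x, f (β (σ i, τ' i x)) (ρ t v) = f (β (i, x)) v := by
      intro x
      rw [← hτ', hπ, h.f_conj (en.mem _), rinv]
    have hs : ∑ y, f (β (σ i, y)) (ρ t v) = ∑ y, f (β (i, y)) v := by
      rw [← Equiv.sum_comp (τ' i)]
      exact Finset.sum_congr rfl fun x _ => hf x
    refine Fin.cases ?_ (fun x => ?_) x
    · rw [hτ0, ph_zero, ph_zero, hs]
    · rw [hτs, ph_succ, ph_succ, hs, hf]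
  · intro i x y
    rw [hτs]
    constructor
    · intro h1
      have h2 : π (i, x) = (σ i, y) := en.inj (by rw [hπ, h1])
      rw [hτ'] at h2
      have h3 : τ' i x = y := (Prod.ext_iff.mp h2).2
      rw [h3]
    · intro h1
      have h2 : τ' i x = y := Fin.succ_injective _ h1
      rw [← hπ, hτ', h2]

/-- every element of `H` acts on the points -/
theorem acts_exists (g : H) : ∃ (σ : Equiv.Perm (Fin k))
    (τ : Fin k → Equiv.Perm (Fin (2 ^ m + 1))), Acts ρ (ph f β) g σ τ := by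
  let L : Subgroup H :=
    { carrier := {g | ∃ (σ : Equiv.Perm (Fin k)) (τ : Fin k → Equiv.Perm (Fin (2 ^ m + 1))),
        Acts ρ (ph f β) g σ τ}
      one_mem' := ⟨1, 1, Acts.one⟩
      mul_mem' := by
        rintro a b ⟨σ, τ, h1⟩ ⟨σ', τ', h2⟩
        exact ⟨_, _, h1.mul h2⟩
      inv_mem' := by
        rintro a ⟨σ, τ, h1⟩
        exact ⟨_, _, h1.inv⟩ }
  have hle : closure (E \ (M : Set H)) ⊔ (T : Subgroup H) ≤ L := by
    refine sup_le ((closure_le _).mpr ?_) ?_
    · rintro b ⟨hb, hbM⟩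
      obtain ⟨p, rfl⟩ := en.surj b hb hbM
      exact ⟨_, _, en.acts_b h p⟩
    · intro t ht
      obtain ⟨σ, τ, h1, -⟩ := en.acts_T h ht
      exact ⟨σ, τ, h1⟩
  rw [h.sup_T] at hle
  exact hle (mem_top g)

/-- `⟨Δ⟩` induces all `(τ_i)` -/
theorem acts_lift (τ : Fin k → Equiv.Perm (Fin (2 ^ m + 1))) :
    ∃ g ∈ closure E, Acts ρ (ph f β) g 1 τ := by
  classical
  let L : Subgroup (Fin k → Equiv.Perm (Fin (2 ^ m + 1))) :=
    { carrier := {τ | ∃ g ∈ closure E, Acts ρ (ph f β) g 1 τ}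
      one_mem' := ⟨1, one_mem _, Acts.one⟩
      mul_mem' := by
        rintro a b ⟨g, hg, h1⟩ ⟨g', hg', h2⟩
        exact ⟨g * g', mul_mem hg hg', h1.mul1 h2⟩
      inv_mem' := by
        rintro a ⟨g, hg, h1⟩
        exact ⟨g⁻¹, inv_mem hg, h1.inv1⟩ }
  have hst : ∀ i (y : Fin (2 ^ m)), msg i (Equiv.swap 0 y.succ) ∈ L := fun i y =>
    ⟨β (i, y), subset_closure (en.mem _), en.acts_b h (i, y)⟩
  have hst' : ∀ i (y : Fin (2 ^ m + 1)), msg i (Equiv.swap 0 y) ∈ L := by
    intro i y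
    refine Fin.cases ?_ (fun y => hst i y) y
    rw [Equiv.swap_self]
    have : msg i (Equiv.refl (Fin (2 ^ m + 1))) = 1 := Pi.mulSingle_one i
    rw [this]
    exact one_mem L
  have hsw : ∀ i (x y : Fin (2 ^ m + 1)), x ≠ y → msg i (Equiv.swap x y) ∈ L := by
    intro i x y hxy
    by_cases hx : x = 0
    · rw [hx]; exact hst' i y
    by_cases hy : y = 0
    · rw [hy, Equiv.swap_comm]; exact hst' i x
    have h1 : Equiv.swap 0 x * Equiv.swap 0 y * Equiv.swap 0 x = Equiv.swap x y := by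
      rw [Equiv.swap_comm 0 y]
      exact Equiv.swap_mul_swap_mul_swap (x := y) (y := 0) (z := x) hy (Ne.symm hxy)
    rw [← h1]
    have h2 : ∀ a b : Equiv.Perm (Fin (2 ^ m + 1)), msg i (a * b) = msg i a * msg i b :=
      fun a b => (MonoidHom.mulSingle (fun _ : Fin k => Equiv.Perm (Fin (2 ^ m + 1))) i).map_mul a b
    rw [h2, h2]
    exact mul_mem (mul_mem (hst' i x) (hst' i y)) (hst' i x)
  have hall : ∀ i (π : Equiv.Perm (Fin (2 ^ m + 1))), msg i π ∈ L := by
    intro i π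
    have h1 : (⊤ : Subgroup (Equiv.Perm (Fin (2 ^ m + 1)))) ≤
        L.comap (MonoidHom.mulSingle (fun _ : Fin k => Equiv.Perm (Fin (2 ^ m + 1))) i) := by
      rw [← Equiv.Perm.closure_isSwap, closure_le]
      rintro _ ⟨x, y, hxy, rfl⟩
      exact hsw i x y hxy
    exact h1 (mem_top π)
  exact Subgroup.pi_mem_of_mulSingle_mem (H := L) τ fun i => hall i _

omit [Finite H] in
/-- `⟨E⟩` fixes the common kernel -/
theorem fix_ker [Finite H] {g : H} (hg : g ∈ closure E) {v : V} (hv : ∀ i x, ph f β i x v = 0) :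
    ρ g v = v := by
  rw [← h.closureD] at hg
  have hle : closure (E \ (M : Set H)) ≤ stv ρ v := (closure_le _).mpr (by
    rintro b ⟨hb, hbM⟩
    show ρ b v = v
    rw [h.act hb, (en.ph_ker v).mp hv b hb hbM, zero_smul, add_zero])
  exact hle hg

/-- `H` acts faithfully on the points -/
theorem acts_faithful {g : H} (h1 : Acts ρ (ph f β) g 1 1) : g = 1 := by
  have h0 : ∀ v i x, ph f β i x (ρ g v) = ph f β i x v := h1
  have hf : ∀ p v, f (β p) (ρ g v) = f (β p) v := by
    rintro ⟨i, x⟩ v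
    have e1 := h0 v i x.succ
    have e2 := h0 v i 0
    rw [ph_zero, ph_zero] at e2
    rw [ph_succ, ph_succ, e2] at e1
    exact add_right_cancel e1
  apply h.eq_one_of_commD
  intro b hb hbM
  obtain ⟨p, rfl⟩ := en.surj b hb hbM
  have h2 : g * β p * g⁻¹ = β p := by
    apply h.eq_of_p _ (h.conj _ hb g) _ hb
    intro z hz
    rw [h.sym z hz _ (h.conj _ hb g), h.sym z hz _ hb, h.f_conj hb, ← hf p (ρ g⁻¹ (c z)), rinv']
  exact mul_inv_eq_iff_eq_mul.mp h2

end Enum

end Cfsg.Agent.Omega.Tv
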