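import Cfsg.Agent.Omega.FF.TvBasic

/-!
# The transvection half of the FF-theorem for minimal parabolics: symmetric groups

helper670, OMEGA / FF, paper text bb #11436.

A finite family `b i` (`i : ι`, `|ι|` even) of transvections of a faithful `𝔽₂H`-module, any two of
which do not commute, generates a group `K` isomorphic to the symmetric group on `Option ι`, the
`b i` being the transpositions moving `none`; and `V = C_V(K) ⊕ ⟨c i⟩`, the `c i` being linearly
independent.
-/

namespace Cfsg.Agent.Omega.Tv

open Subgroup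

variable {H : Type*} [Group H] {V : Type*} [AddCommGroup V] [Module (ZMod 2) V]
  {ρ : H →* (V ≃ₗ[ZMod 2] V)} {ι : Type*} {b : ι → H} {c : ι → V}
  {f : ι → V →ₗ[ZMod 2] ZMod 2}

/-- A family of transvections, any two non-commuting, of even cardinality. -/
structure Star (ρ : H →* (V ≃ₗ[ZMod 2] V)) (b : ι → H) (c : ι → V)
    (f : ι → V →ₗ[ZMod 2] ZMod 2) : Prop where
  tr : ∀ i, IsTr ρ (b i) (c i) (f i)
  one : ∀ i j, i ≠ j → f i (c j) = 1
  even : Even (Nat.card ι)
  inj : Function.Injective ρ

namespace Star

variable (h : Star ρ b c f)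

include h

theorem act (i : ι) (v : V) : ρ (b i) v = v + f i v • c i := (h.tr i).act v

open Classical in
theorem p_eq (i j : ι) : f i (c j) = 1 + if i = j then 1 else 0 := by
  by_cases hij : i = j
  · subst hij
    rw [(h.tr i).fc, if_pos rfl]
    exact (z2_add_self 1).symm
  · rw [h.one i j hij, if_neg hij, add_zero]

theorem b_inj : Function.Injective b := by
  intro i j hij
  by_contra hne
  have h1 := h.tr i
  rw [hij] at h1
  have h2 : c i = c j := h1.c_unique (h.tr j)
  have h3 := h.one i j hne
  rw [← h2, (h.tr i).fc] at h3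
  exact zero_ne_one h3

theorem eq_one_of_act {x : H} (hx : ∀ v, ρ x v = v) : x = 1 := by
  apply h.inj
  rw [map_one]
  exact LinearEquiv.ext hx

variable [Fintype ι]

omit h in
/-- The `n + 1` points. -/
def w (c : ι → V) : Option ι → V
  | none => ∑ j, c j
  | some i => ∑ j, c j + c i

theorem card_zero : (Fintype.card ι : ZMod 2) = 0 := by
  have := h.even
  rw [Nat.card_eq_fintype_card] at this
  obtain ⟨k, hk⟩ := this
  rw [hk, Nat.cast_add, z2_add_self]

/-- The coordinates of the projection to `⟨c i⟩`. -/
theorem sum_al (v : V) : ∑ i, (f i v + ∑ j, f j v) = ∑ j, f j v := by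
  rw [Finset.sum_add_distrib, Finset.sum_const, Finset.card_univ, nsmul_eq_mul, h.card_zero,
    zero_mul, add_zero]

theorem f_sum (a : ι → ZMod 2) (i : ι) : f i (∑ j, a j • c j) = ∑ j, a j + a i := by
  classical
  rw [map_sum]
  have : ∀ j, f i (a j • c j) = a j + if i = j then a j else 0 := by
    intro j
    rw [map_smul, smul_eq_mul, h.p_eq i j, mul_add, mul_one]
    congr 1
    by_cases hij : i = j
    · rw [if_pos hij, if_pos hij, mul_one]
    · rw [if_neg hij, if_neg hij, mul_zero]
  rw [Finset.sum_congr rfl fun j _ => this j, Finset.sum_add_distrib]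
  congr 1
  rw [Finset.sum_ite_eq]
  simp

theorem f_al (v : V) (i : ι) : f i (∑ j, (f j v + ∑ k, f k v) • c j) = f i v := by
  rw [h.f_sum (fun j => f j v + ∑ k, f k v) i, h.sum_al, add_comm (f i v), ← add_assoc,
    z2_add_self, zero_add]

theorem f_all (i : ι) : f i (∑ j, c j) = 1 := by
  have := h.f_sum (fun _ => 1) i
  simp only [one_smul] at this
  rw [this, Finset.sum_const, Finset.card_univ, nsmul_eq_mul, h.card_zero, zero_mul, zero_add]

theorem act_w [DecidableEq ι] (i : ι) (x : Option ι) :
    ρ (b i) (w c x) = w c (Equiv.swap none (some i) x) := by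
  rw [h.act]
  rcases x with _ | j
  · rw [Equiv.swap_apply_left]
    show ∑ j, c j + f i (∑ j, c j) • c i = ∑ j, c j + c i
    rw [h.f_all, one_smul]
  · by_cases hij : j = i
    · subst hij
      rw [Equiv.swap_apply_right]
      show ∑ j, c j + c j + f j (∑ j, c j + c j) • c j = ∑ j, c j
      rw [map_add, h.f_all, (h.tr j).fc, add_zero, one_smul, add_assoc, v_add_self, add_zero]
    · rw [Equiv.swap_apply_of_ne_of_ne (by simp) (by simpa using hij)]
      show ∑ j, c j + c j + f i (∑ j, c j + c j) • c i = ∑ j, c j + c j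
      rw [map_add, h.f_all, h.one i j (Ne.symm hij), z2_add_self, zero_smul, add_zero]

theorem w_inj : Function.Injective (w c) := by
  have key : ∀ i j : ι, c i = c j → i = j := by
    intro i j hij
    by_contra hne
    have h3 := h.one i j hne
    rw [← hij, (h.tr i).fc] at h3
    exact zero_ne_one h3
  intro x y hxy
  rcases x with _ | i <;> rcases y with _ | j
  · rfl
  · exfalso
    have h1 : ∑ j, c j = ∑ j, c j + c j := hxy
    exact (h.tr j).c_ne (by simpa using h1)
  · exfalso
    have h1 : ∑ j, c j + c i = ∑ j, c j := hxy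
    exact (h.tr i).c_ne (by simpa using h1)
  · have h1 : ∑ j, c j + c i = ∑ j, c j + c j := hxy
    rw [key i j (add_left_cancel h1)]

omit h [Fintype ι] in
/-- The group generated by the family. -/
def K (b : ι → H) : Subgroup H := closure (Set.range b)

omit h [Fintype ι] in
theorem mem_K (i : ι) : b i ∈ K b := subset_closure ⟨i, rfl⟩

omit [Fintype ι] in
/-- `K` fixes the common kernel of the axes. -/
theorem K_fix {v : V} (hv : ∀ i, f i v = 0) {k : H} (hk : k ∈ K b) : ρ k v = v := by
  have hle : K b ≤ stv ρ v := (closure_le _).mpr (by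
    rintro _ ⟨i, rfl⟩
    show ρ (b i) v = v
    rw [h.act, hv i, zero_smul, add_zero])
  exact hle hk

omit [Fintype ι] in
/-- A vector fixed by `K` is in the common kernel. -/
theorem f_of_fix {v : V} (hv : ∀ i, ρ (b i) v = v) (i : ι) : f i v = 0 := by
  have h1 := hv i
  rw [h.act] at h1
  rcases z2 (f i v) with h2 | h2
  · exact h2
  · rw [h2, one_smul] at h1
    exact absurd (by simpa using h1) (h.tr i).c_ne

theorem exists_perm {k : H} (hk : k ∈ K b) :
    ∃ σ : Equiv.Perm (Option ι), ∀ x, ρ k (w c x) = w c (σ x) := by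
  classical
  induction hk using closure_induction with
  | mem x hx =>
    obtain ⟨i, rfl⟩ := hx
    exact ⟨Equiv.swap none (some i), h.act_w i⟩
  | one => exact ⟨1, fun x => by rw [rone]; rfl⟩
  | mul x y _ _ hx hy =>
    obtain ⟨σ, hσ⟩ := hx
    obtain ⟨τ, hτ⟩ := hy
    exact ⟨σ * τ, fun z => by rw [rmul, hτ, hσ]; rfl⟩
  | inv x _ hx =>
    obtain ⟨σ, hσ⟩ := hx
    refine ⟨σ⁻¹, fun z => ?_⟩
    have h1 := hσ (σ⁻¹ z)
    rw [show σ (σ⁻¹ z) = z from σ.apply_symm_apply z] at h1
    rw [← h1, rinv]

/-- The action of `K` on the `n + 1` points. -/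
noncomputable def phi : K b →* Equiv.Perm (Option ι) where
  toFun k := (h.exists_perm k.2).choose
  map_one' := by
    ext1 x
    apply h.w_inj
    rw [← (h.exists_perm (1 : K b).2).choose_spec x]
    exact rone ρ _
  map_mul' := by
    intro k l
    ext1 x
    apply h.w_inj
    rw [← (h.exists_perm (k * l).2).choose_spec x]
    show ρ ((k : H) * (l : H)) (w c x) =
      w c ((h.exists_perm k.2).choose ((h.exists_perm l.2).choose x))
    rw [← (h.exists_perm k.2).choose_spec, ← (h.exists_perm l.2).choose_spec, rmul]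

theorem act_phi (k : K b) (x : Option ι) : ρ (k : H) (w c x) = w c (h.phi k x) :=
  (h.exists_perm k.2).choose_spec x

theorem phi_b [DecidableEq ι] (i : ι) : h.phi ⟨b i, mem_K i⟩ = Equiv.swap none (some i) := by
  ext1 x
  apply h.w_inj
  rw [← h.act_phi]
  exact h.act_w i x

/-- An element fixing all `c i` and the common kernel is trivial. -/
theorem eq_one_of {k : H} (hc : ∀ i, ρ k (c i) = c i)
    (hk : ∀ v, (∀ i, f i v = 0) → ρ k v = v) : k = 1 := by
  apply h.eq_one_of_act
  intro v
  have h1 : ρ k (v + ∑ j, (f j v + ∑ k, f k v) • c j) = v + ∑ j, (f j v + ∑ k, f k v) • c j := by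
    apply hk
    intro i
    rw [map_add, h.f_al, z2_add_self]
  have h2 : ρ k (∑ j, (f j v + ∑ k, f k v) • c j) = ∑ j, (f j v + ∑ k, f k v) • c j := by
    rw [map_sum]
    exact Finset.sum_congr rfl fun j _ => by rw [map_smul, hc]
  rw [map_add, h2] at h1
  exact add_right_cancel h1

theorem phi_injective : Function.Injective h.phi := by
  rw [injective_iff_map_eq_one]
  intro k hk
  have h1 : ∀ x, ρ (k : H) (w c x) = w c x := by
    intro x
    rw [h.act_phi, hk]
    rfl
  have h2 : ∀ i, ρ (k : H) (c i) = c i := by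
    intro i
    have h3 : ρ (k : H) (∑ j, c j + c i) = ∑ j, c j + c i := h1 (some i)
    have h4 : ρ (k : H) (∑ j, c j) = ∑ j, c j := h1 none
    rw [map_add, h4] at h3
    exact add_left_cancel h3
  exact Subtype.ext (h.eq_one_of h2 fun v hv => h.K_fix hv k.2)

theorem phi_surjective : Function.Surjective h.phi := by
  classical
  rw [← MonoidHom.range_eq_top]
  have hst : ∀ i, Equiv.swap none (some i) ∈ h.phi.range := fun i => ⟨⟨b i, mem_K i⟩, h.phi_b i⟩
  rw [← top_le_iff, ← Equiv.Perm.closure_isSwap, closure_le]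
  rintro σ ⟨x, y, hxy, rfl⟩
  rcases x with _ | i <;> rcases y with _ | j
  · exact absurd rfl hxy
  · exact hst j
  · rw [Equiv.swap_comm]; exact hst i
  · have hij : i ≠ j := fun he => hxy (by rw [he])
    have h1 : Equiv.swap none (some i) * Equiv.swap none (some j) * Equiv.swap none (some i) =
        Equiv.swap (some i) (some j) := by
      rw [Equiv.swap_comm none (some j)]
      exact Equiv.swap_mul_swap_mul_swap (x := some j) (y := none) (z := some i) (by simp)
        (by simpa using Ne.symm hij)
    rw [← h1]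
    exact mul_mem (mul_mem (hst i) (hst j)) (hst i)

/-- `K` is the symmetric group on the `n + 1` points. -/
noncomputable def equiv : K b ≃* Equiv.Perm (Option ι) :=
  MulEquiv.ofBijective h.phi ⟨h.phi_injective, h.phi_surjective⟩

theorem equiv_b [DecidableEq ι] (i : ι) :
    h.equiv ⟨b i, mem_K i⟩ = Equiv.swap none (some i) := h.phi_b i

theorem act_equiv (k : K b) (x : Option ι) : ρ (k : H) (w c x) = w c (h.equiv k x) :=
  h.act_phi k x

/-- the `c i` are linearly independent -/
theorem linInd : LinearIndependent (ZMod 2) c := by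
  rw [Fintype.linearIndependent_iff]
  intro a ha
  have h1 : ∀ i, ∑ j, a j + a i = 0 := by
    intro i
    rw [← h.f_sum a i, ha, map_zero]
  have h2 : ∀ i, a i = ∑ j, a j := by
    intro i
    have := h1 i
    rcases z2 (∑ j, a j) with h3 | h3 <;> rcases z2 (a i) with h4 | h4
    · rw [h3, h4]
    · rw [h3, h4, zero_add] at this; exact absurd this one_ne_zero
    · rw [h3, h4, add_zero] at this; exact absurd this one_ne_zero
    · rw [h3, h4]
  have h3 : ∑ j, a j = 0 := by
    rw [Finset.sum_congr rfl fun i _ => h2 i, Finset.sum_const, Finset.card_univ, nsmul_eq_mul,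
      h.card_zero, zero_mul]
  intro i
  rw [h2 i, h3]

end Star

end Cfsg.Agent.Omega.Tv
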