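import Cfsg.Agent.Omega.FF.TvAct
import Cfsg.Agent.Omega.FFThm

/-!
# The `q = 2` half of the FF-theorem for minimal parabolics

helper670, OMEGA / FF, paper text bb #11436.

`half` : `T` a Sylow 2-subgroup of the minimal parabolic `H` (over `T`) of characteristic 2,
`V = zl T H`, and `|V : C_V(t)| = 2` for some `t ∈ H`.  Then there are no over-offenders on `V`
(`NoOver`) and `SymK T H V (cv T H) k m` holds with `0 < k`, `1 ≤ m`.
-/

set_option autoImplicit false
set_option linter.unusedSectionVars false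

namespace Cfsg.Agent.Omega.Tv

open Subgroup Cfsg Cfsg.Agent.ZN Cfsg.Agent.ZN.ChoiceBase Cfsg.Agent.ZN.ChoiceSit
open Cfsg.Agent.MinSimple.MinParabolic Cfsg.Agent.Omega.FFThm Cfsg.Agent.Omega.FrameFF
open Cfsg.Agent.MinSimple.VModule

variable {G : Type*} [Group G]

/-- The group-level hypothesis. -/
structure GSet (T H V : Subgroup G) : Prop where
  syl : Syl T H
  min : IsMinPar T H
  hV : IsElementaryAbelian 2 V
  hn : ∀ h ∈ H, ∀ v ∈ V, h * v * h⁻¹ ∈ V
  cent : o2 H ≤ centralizer (V : Set G)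
  ne : (H ⊓ centralizer (V : Set G)) ⊔ T ≠ H

/-- All the data. -/
structure Dt (T H V : Subgroup G) [Finite G] where
  g : GSet T H V
  S : Sylow 2 H
  hS : (S : Subgroup H).map H.subtype = T
  M : Subgroup H
  hR : RHyp (rhoV g.hV g.hn) S M
  E : Set (rhoV g.hV g.hn).range
  c : (rhoV g.hV g.hn).range → VA V g.hV
  f : (rhoV g.hV g.hn).range → VA V g.hV →ₗ[ZMod 2] ZMod 2
  out : Out (RHyp.rg (rhoV g.hV g.hn)) E c f (RHyp.Sb (rhoV g.hV g.hn) S)
    (RHyp.Mb (rhoV g.hV g.hn) M)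
  k : ℕ
  m : ℕ
  β : Fin k × Fin (2 ^ m) → (rhoV g.hV g.hn).range
  en : Enum E c f (RHyp.Mb (rhoV g.hV g.hn) M) k m β

theorem exists_dt [Finite G] {T H V : Subgroup G} (g : GSet T H V)
    (htv : ∃ t ∈ H, Nat.card V = 2 * Nat.card ↥(V ⊓ centralizer {t})) : Nonempty (Dt T H V) := by
  obtain ⟨S, hS⟩ := syl_iff.mp g.syl
  obtain ⟨M, hM⟩ := g.min.exists_isMin
  have hS' : (S : Subgroup H) = T.subgroupOf H := by
    rw [← hS]
    exact (Subgroup.comap_map_eq_self_of_injective H.subtype_injective _).symm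
  have hker : ∀ x : H, x ∈ (rhoV g.hV g.hn).ker ↔ (x : G) ∈ centralizer (V : Set G) :=
    mem_ker_rhoV g.hn
  have hR : RHyp (rhoV g.hV g.hn) S M :=
    { min := by rw [hS']; exact hM
      ker := by
        intro x hx
        rw [hker]
        exact g.cent ⟨x, hx, rfl⟩
      ne := by
        intro htop
        apply g.ne
        apply le_antisymm (sup_le inf_le_left g.syl.1)
        intro x hx
        have h1 : (⟨x, hx⟩ : H) ∈ (rhoV g.hV g.hn).ker ⊔ (S : Subgroup H) := by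
          rw [htop]; exact mem_top _
        rw [Subgroup.mem_sup_of_normal_left] at h1
        obtain ⟨y, hy, z, hz, e⟩ := h1
        have h2 : x = (y : G) * z := (congrArg Subtype.val e).symm
        rw [h2]
        refine mul_mem ((le_sup_left : H ⊓ centralizer (V : Set G) ≤ _) ⟨y.2, (hker y).mp hy⟩)
          ((le_sup_right : T ≤ _) ?_)
        rw [← hS]
        exact ⟨z, hz, rfl⟩ }
  obtain ⟨t, ht, hcard⟩ := htv
  have h1 : Nat.card (VA V g.hV) = 2 * Nat.card {v : VA V g.hV //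
      rhoV g.hV g.hn ⟨t, ht⟩ v = v} := by
    have h2 : Nat.card {v : VA V g.hV // rhoV g.hV g.hn ⟨t, ht⟩ v = v} =
        Nat.card ↥(V ⊓ centralizer {t}) := by
      refine Nat.card_congr
        { toFun := fun v => ⟨v.1.val, v.1.val_mem, ?_⟩
          invFun := fun v => ⟨VA.mk g.hV v.1 v.2.1, ?_⟩
          left_inv := fun v => rfl
          right_inv := fun v => rfl }
      · show v.1.val ∈ centralizer {t}
        rw [mem_centralizer_singleton_iff]
        have h3 : t * v.1.val * t⁻¹ = v.1.val := congrArg VA.val v.2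
        exact (mul_inv_eq_iff_eq_mul.mp h3).symm
      · apply VA.ext
        show t * v.1 * t⁻¹ = v.1
        rw [mul_inv_eq_iff_eq_mul]
        exact (mem_centralizer_singleton_iff.mp v.2.2).symm
    rw [h2]
    exact hcard
  obtain ⟨c0, f0, htr⟩ := isTr_of_card h1
  obtain ⟨E, c, f, hp, -⟩ := hR.exists_pre htr
  obtain ⟨k, m, β, en⟩ := hp.out.exists_enum
  exact ⟨⟨g, S, hS, M, hR, E, c, f, hp.out, k, m, β, en⟩⟩

namespace Dt

variable [Finite G] {T H V : Subgroup G} (d : Dt T H V)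

/-- the representation -/
noncomputable abbrev rh : H →* (VA V d.g.hV ≃ₗ[ZMod 2] VA V d.g.hV) := rhoV d.g.hV d.g.hn

/-- the image of an element of `H` -/
noncomputable def r {x : G} (hx : x ∈ H) : d.rh.range := d.rh.rangeRestrict ⟨x, hx⟩

theorem r_mul {x y : G} (hx : x ∈ H) (hy : y ∈ H) : d.r (mul_mem hx hy) = d.r hx * d.r hy := by
  unfold r
  rw [← map_mul]; rfl

theorem r_inv {x : G} (hx : x ∈ H) : d.r (inv_mem hx) = (d.r hx)⁻¹ := by
  unfold r
  rw [← map_inv]; rfl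

theorem r_surj (y : d.rh.range) : ∃ (x : G) (hx : x ∈ H), d.r hx = y := by
  obtain ⟨⟨x, hx⟩, e⟩ := d.rh.rangeRestrict_surjective y
  exact ⟨x, hx, e⟩

theorem mem_S_iff {x : G} (hx : x ∈ H) : (⟨x, hx⟩ : H) ∈ d.S ↔ x ∈ T := by
  constructor
  · intro h1
    rw [← d.hS]
    exact ⟨_, h1, rfl⟩
  · intro h1
    rw [← d.hS] at h1
    obtain ⟨y, hy, e⟩ := h1
    have : y = ⟨x, hx⟩ := Subtype.ext e
    rw [← this]; exact hy

theorem r_T {x : G} (hx : x ∈ H) (hT : x ∈ T) : d.r hx ∈ RHyp.Sb d.rh d.S :=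
  RHyp.mem_Sb ((d.mem_S_iff hx).mpr hT)

theorem exists_T {y : d.rh.range} (hy : y ∈ RHyp.Sb d.rh d.S) :
    ∃ (x : G) (hx : x ∈ H), x ∈ T ∧ d.r hx = y := by
  obtain ⟨⟨x, hx⟩, hxS, e⟩ := hy
  exact ⟨x, hx, (d.mem_S_iff hx).mp hxS, e⟩

/-- the coordinates -/
noncomputable def e (v : G) : Fin d.k → Fin (2 ^ d.m + 1) → ZMod 2 := by
  classical
  exact if h : v ∈ V then fun i x => ph d.f d.β i x (VA.mk d.g.hV v h) else 0

theorem e_eq {v : G} (hv : v ∈ V) (i : Fin d.k) (x : Fin (2 ^ d.m + 1)) :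
    d.e v i x = ph d.f d.β i x (VA.mk d.g.hV v hv) := by
  classical
  unfold e
  rw [dif_pos hv]

theorem acts_iff {x : G} (hx : x ∈ H) (σ : Equiv.Perm (Fin d.k))
    (τ : Fin d.k → Equiv.Perm (Fin (2 ^ d.m + 1))) :
    ActsSym d.e V x σ τ ↔ Acts (RHyp.rg d.rh) (ph d.f d.β) (d.r hx) σ τ := by
  constructor
  · intro h v i y
    have h1 := h v.val v.val_mem i y
    rw [d.e_eq (d.g.hn x hx _ v.val_mem), d.e_eq v.val_mem] at h1
    exact h1
  · intro h v hv i y
    rw [d.e_eq (d.g.hn x hx _ hv), d.e_eq hv]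
    exact h (VA.mk d.g.hV v hv) i y

/-- commuting with `v` -/
theorem fix_iff {x : G} (hx : x ∈ H) {v : G} (hv : v ∈ V) :
    RHyp.rg d.rh (d.r hx) (VA.mk d.g.hV v hv) = VA.mk d.g.hV v hv ↔ x * v = v * x := by
  rw [← mul_inv_eq_iff_eq_mul]
  constructor
  · intro h; exact congrArg VA.val h
  · intro h; exact VA.ext h

/-- `C_V(O²(H))` -/
theorem mem_D_iff {v : G} (hv : v ∈ V) :
    d.e v = 0 ↔ v ∈ centralizer (oddGen H : Set G) := by
  have h0 : d.e v = 0 ↔ ∀ i x, ph d.f d.β i x (VA.mk d.g.hV v hv) = 0 := by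
    constructor
    · intro h1 i x
      rw [← d.e_eq hv, h1]; rfl
    · intro h1
      ext i x
      rw [d.e_eq hv, h1]; rfl
  rw [h0]
  constructor
  · intro h1
    have hle : oddGen H ≤ centralizer {v} := by
      refine (closure_le _).mpr ?_
      rintro x ⟨hx, hodd⟩
      rw [SetLike.mem_coe, mem_centralizer_singleton_iff, ← d.fix_iff hx hv]
      apply d.en.fix_ker d.out _ h1
      -- an element of odd order lies in `closure E`
      have hpow : ∃ s : ℕ, (d.r hx) ^ 2 ^ s ∈ closure d.E := by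
        have hg : d.r hx ∈ closure d.E ⊔ (RHyp.Sb d.rh d.S : Subgroup d.rh.range) := by
          rw [← d.out.closureD, d.out.sup_T]
          exact mem_top _
        have hN : (closure d.E).Normal := d.out.normalE
        obtain ⟨n, hn, t, ht, e⟩ := mem_sup_of_normal_left.mp hg
        obtain ⟨s, hs⟩ := (RHyp.Sb d.rh d.S).isPGroup' ⟨t, ht⟩
        have hs' : t ^ 2 ^ s = 1 := congrArg Subtype.val hs
        refine ⟨s, ?_⟩
        rw [← e, ← QuotientGroup.eq_one_iff, QuotientGroup.mk_pow, QuotientGroup.mk_mul,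
          (QuotientGroup.eq_one_iff n).mpr hn, one_mul, ← QuotientGroup.mk_pow, hs',
          QuotientGroup.mk_one]
      obtain ⟨s, hs⟩ := hpow
      have hdvd : orderOf (d.r hx) ∣ orderOf x := by
        apply orderOf_dvd_of_pow_eq_one
        have h2 : (⟨x, hx⟩ : H) ^ orderOf x = 1 := Subtype.ext (pow_orderOf_eq_one x)
        show (d.rh.rangeRestrict ⟨x, hx⟩) ^ orderOf x = 1
        rw [← map_pow, h2, map_one]
      have hcop : (orderOf (d.r hx)).Coprime (2 ^ s) := by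
        apply Nat.Coprime.pow_right
        rw [Nat.coprime_two_right]
        exact Odd.of_dvd_nat hodd hdvd
      obtain ⟨j, hj⟩ := exists_pow_eq_self_of_coprime hcop.symm
      rw [← hj]
      exact pow_mem hs j
    rw [mem_centralizer_iff]
    intro x hx
    exact mem_centralizer_singleton_iff.mp (hle hx)
  · intro h1
    rw [d.en.ph_ker]
    intro b hb hbM
    obtain ⟨b', hne, hadj⟩ := d.out.exists_ne ⟨b, hb, hbM⟩
    -- `g = b b'` has order three
    have hb' := b'.2.1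
    have hadj' : d.f (b' : d.rh.range) (d.c b) = 1 := by
      rw [d.out.sym _ hb' _ hb]; exact hadj
    have hbraid := d.out.braid_of hb hb' hadj hadj'
    have hcube : (b * (b' : d.rh.range)) ^ 3 = 1 := by
      rw [d.out.inv hb, d.out.inv hb'] at hbraid
      have : (b * (b' : d.rh.range)) ^ 3 = (b * b' * b) * (b' * b * b') := by
        simp only [pow_succ, pow_zero, one_mul, mul_assoc]
      rw [this, hbraid]
      have : b * (b' : d.rh.range) * b * (b * b' * b) = b * b' * (b * b) * b' * b := by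
        simp only [mul_assoc]
      rw [this, d.out.sq hb, mul_one, mul_assoc b (b' : d.rh.range) b', d.out.sq hb', mul_one,
        d.out.sq hb]
    obtain ⟨x, hx, hxe⟩ := d.r_surj (b * b')
    -- the odd part of `x`
    obtain ⟨a, o, hodd, hao⟩ := Nat.exists_eq_two_pow_mul_odd (orderOf_pos x).ne'
    have hpow : ∀ n : ℕ, d.r (pow_mem hx n) = (b * (b' : d.rh.range)) ^ n := by
      intro n
      rw [← hxe]
      show d.rh.rangeRestrict _ = (d.rh.rangeRestrict _) ^ n
      rw [← map_pow]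
      rfl
    have hxo : Odd (orderOf (x ^ 2 ^ a)) := by
      have h2 : orderOf (x ^ 2 ^ a) = o := by
        rw [orderOf_pow_of_dvd (by positivity) (by rw [hao]; exact Dvd.intro _ rfl), hao]
        exact Nat.mul_div_cancel_left _ (by positivity)
      rw [h2]; exact hodd
    have hcomm : x ^ 2 ^ a * v = v * x ^ 2 ^ a :=
      mem_centralizer_iff.mp h1 _ (mem_oddGen (pow_mem hx _) hxo)
    have hfix := (d.fix_iff (pow_mem hx _) hv).mpr hcomm
    rw [hpow] at hfix
    -- `b b'` is a power of `(b b')^(2^a)`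
    have hfix2 : RHyp.rg d.rh (b * (b' : d.rh.range)) (VA.mk d.g.hV v hv) =
        VA.mk d.g.hV v hv := by
      have hcop : (2 ^ a).Coprime 3 := Nat.Coprime.pow_left _ (by norm_num)
      have hord : orderOf (b * (b' : d.rh.range)) ∣ 3 := orderOf_dvd_of_pow_eq_one hcube
      have hcop' : (2 ^ a).Coprime (orderOf (b * (b' : d.rh.range))) :=
        Nat.Coprime.coprime_dvd_right hord hcop
      obtain ⟨j, hj⟩ := exists_pow_eq_self_of_coprime hcop'
      have hst : (b * (b' : d.rh.range)) ^ 2 ^ a ∈ stv (RHyp.rg d.rh) (VA.mk d.g.hV v hv) :=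
        hfix
      have h3 := pow_mem hst j
      rw [hj] at h3
      exact h3
    rw [rmul, d.out.act hb', d.out.act hb, map_add, map_smul, hadj, smul_eq_mul, mul_one] at hfix2
    -- v + f_{b'} v c_{b'} + (f_b v + f_{b'} v) c_b = v
    rcases z2 (d.f b (VA.mk d.g.hV v hv)) with h2 | h2
    · exact h2
    · exfalso
      rcases z2 (d.f (b' : d.rh.range) (VA.mk d.g.hV v hv)) with h3 | h3
      · rw [h2, h3, zero_smul, add_zero, add_zero, one_smul] at hfix2
        exact (d.out.tr b hb).c_ne (by simpa using hfix2)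
      · rw [h2, h3, one_smul, z2_add_self, zero_smul, add_zero] at hfix2
        exact (d.out.tr _ hb').c_ne (by simpa using hfix2)

/-! ### `⟨E⟩` -/

theorem acts_E {n : d.rh.range} (hn : n ∈ closure d.E) :
    ∃ τ : Fin d.k → Equiv.Perm (Fin (2 ^ d.m + 1)), Acts (RHyp.rg d.rh) (ph d.f d.β) n 1 τ := by
  rw [← d.out.closureD] at hn
  induction hn using closure_induction with
  | mem x hx =>
    obtain ⟨p, rfl⟩ := d.en.surj x hx.1 hx.2
    exact ⟨_, d.en.acts_b d.out p⟩
  | one => exact ⟨1, Acts.one⟩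
  | mul x y _ _ hx hy =>
    obtain ⟨τ, h1⟩ := hx
    obtain ⟨τ', h2⟩ := hy
    exact ⟨_, h1.mul1 h2⟩
  | inv x _ hx =>
    obtain ⟨τ, h1⟩ := hx
    exact ⟨_, h1.inv1⟩

/-- an element of `H` inducing a member of `⟨E⟩` centralises `C_V(O²(H))`. -/
theorem comm_D {x : G} (hx : x ∈ H) (hxE : d.r hx ∈ closure d.E) {v : G} (hv : v ∈ V)
    (he : d.e v = 0) : x * v = v * x := by
  rw [← d.fix_iff hx hv]
  apply d.en.fix_ker d.out hxE
  intro i y
  rw [← d.e_eq hv, he]; rfl

/-! ### Subgroups of `H` -/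

section sub

variable {A : Subgroup G} (hA : A ≤ H)

/-- the image of a subgroup of `H` -/
noncomputable def im : Subgroup d.rh.range :=
  (d.rh.rangeRestrict.comp (Subgroup.inclusion hA)).range

theorem mem_im {y : d.rh.range} : y ∈ d.im hA ↔ ∃ (a : G) (ha : a ∈ A), d.r (hA ha) = y := by
  constructor
  · rintro ⟨⟨a, ha⟩, e⟩
    exact ⟨a, ha, e⟩
  · rintro ⟨a, ha, e⟩
    exact ⟨⟨a, ha⟩, e⟩

theorem card_im : Nat.card A = Nat.card (d.im hA) *
    Nat.card ↥(A ⊓ centralizer (V : Set G)) := by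
  rw [Subgroup.card_eq_card_quotient_mul_card_subgroup
    (d.rh.rangeRestrict.comp (Subgroup.inclusion hA)).ker,
    Nat.card_congr (QuotientGroup.quotientKerEquivRange _).toEquiv]
  congr 1
  have hk : ∀ a : A, a ∈ (d.rh.rangeRestrict.comp (Subgroup.inclusion hA)).ker ↔
      (a : G) ∈ centralizer (V : Set G) := by
    intro a
    rw [MonoidHom.mem_ker]
    have h1 := mem_ker_rhoV d.g.hn (hV := d.g.hV) (Subgroup.inclusion hA a)
    rw [MonoidHom.mem_ker] at h1
    rw [show ((Subgroup.inclusion hA a : H) : G) = (a : G) from rfl] at h1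
    rw [← h1]
    exact ⟨fun h2 => congrArg Subtype.val h2, fun h2 => Subtype.ext h2⟩
  refine Nat.card_congr
    { toFun := fun a => ⟨(a : A), (a : A).2, (hk _).mp a.2⟩
      invFun := fun a => ⟨⟨a, a.2.1⟩, (hk _).mpr a.2.2⟩
      left_inv := fun a => rfl
      right_inv := fun a => rfl }

theorem card_cv : Nat.card (Out.cv (RHyp.rg d.rh) (d.im hA)) =
    Nat.card ↥(V ⊓ centralizer (A : Set G)) := by
  refine Nat.card_congr
    { toFun := fun v => ⟨v.1.val, v.1.val_mem, ?_⟩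
      invFun := fun v => ⟨VA.mk d.g.hV v.1 v.2.1, ?_⟩
      left_inv := fun v => rfl
      right_inv := fun v => rfl }
  · show v.1.val ∈ centralizer (A : Set G)
    rw [mem_centralizer_iff]
    intro a ha
    rw [← d.fix_iff (hA ha) v.1.val_mem]
    exact v.2 _ ((d.mem_im hA).mpr ⟨a, ha, rfl⟩)
  · intro y hy
    obtain ⟨a, ha, rfl⟩ := (d.mem_im hA).mp hy
    rw [d.fix_iff (hA ha) v.2.1]
    exact mem_centralizer_iff.mp v.2.2 a ha

theorem im_T (hT : A ≤ T) : d.im hA ≤ (RHyp.Sb d.rh d.S : Subgroup d.rh.range) := by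
  intro y hy
  obtain ⟨a, ha, rfl⟩ := (d.mem_im hA).mp hy
  exact d.r_T (hA ha) (hT ha)

theorem im_comm (hab : ∀ a ∈ A, ∀ b ∈ A, a * b = b * a) :
    ∀ a ∈ d.im hA, ∀ b ∈ d.im hA, a * b = b * a := by
  intro x hx y hy
  obtain ⟨a, ha, rfl⟩ := (d.mem_im hA).mp hx
  obtain ⟨b, hb, rfl⟩ := (d.mem_im hA).mp hy
  rw [← d.r_mul (hA ha) (hA hb), ← d.r_mul (hA hb) (hA ha)]
  congr 1
  exact hab a ha b hb

end sub

theorem card_VA : Nat.card (VA V d.g.hV) = Nat.card V := rfl

include d in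
/-- no over-offenders in `T` -/
theorem noOver_T {A : Subgroup G} (hT : A ≤ T) (hab : ∀ a ∈ A, ∀ b ∈ A, a * b = b * a) :
    Nat.card A * Nat.card ↥(V ⊓ centralizer (A : Set G)) ≤
      Nat.card V * Nat.card ↥(A ⊓ centralizer (V : Set G)) := by
  have hA : A ≤ H := hT.trans d.g.syl.1
  have h1 := d.out.off (d.im_T hA hT) (d.im_comm hA hab)
  rw [d.card_VA, d.card_cv hA] at h1
  rw [d.card_im hA]
  calc _ = (Nat.card (d.im hA) * Nat.card ↥(V ⊓ centralizer (A : Set G))) *
        Nat.card ↥(A ⊓ centralizer (V : Set G)) := by ring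
    _ ≤ _ := Nat.mul_le_mul_right _ h1

include d in
/-- **No over-offenders.** -/
theorem noOver : NoOver V H := by
  intro A hA hAe
  obtain ⟨S', hS', hAS'⟩ := exists_syl (X := H) (T := A) (by
    rintro ⟨a, ha⟩
    exact ⟨1, Subtype.ext (by rw [pow_one]; exact hAe.2 a ha)⟩) hA
  obtain ⟨x, hx, e⟩ := Cfsg.Agent.ZN.ChoiceSit.syl_conj hS' d.g.syl
  have h1 : cj x A ≤ T := by
    rw [← e]; exact cj_mono x hAS'
  have hVx : cj x V = V := by
    apply cj_eq_of_mem_normalizer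
    apply mem_normalizer_of_cj_le
    rintro _ ⟨v, hv, rfl⟩
    exact d.g.hn x hx v hv
  have hcomm : ∀ a ∈ cj x A, ∀ b ∈ cj x A, a * b = b * a := by
    intro a ha b hb
    have h2 : ∀ a ∈ A, ∀ b ∈ A, a * b = b * a := fun a ha b hb => by
      have := hAe.1
      exact congrArg Subtype.val (mul_comm' (⟨a, ha⟩ : A) ⟨b, hb⟩)
    have h3 := h2 _ (mem_cj.mp ha) _ (mem_cj.mp hb)
    have e1 : x⁻¹ * a * x * (x⁻¹ * b * x) = x⁻¹ * (a * b) * x := by group
    have e2 : x⁻¹ * b * x * (x⁻¹ * a * x) = x⁻¹ * (b * a) * x := by group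
    rw [e1, e2] at h3
    exact mul_left_cancel (mul_right_cancel h3)
  have h2 := d.noOver_T h1 hcomm
  have h3 : V ⊓ centralizer ((cj x A : Subgroup G) : Set G) = cj x (V ⊓ centralizer (A : Set G)) := by
    rw [cj_inf, cj_centralizer, hVx]
  have h4 : cj x A ⊓ centralizer (V : Set G) = cj x (A ⊓ centralizer (V : Set G)) := by
    rw [cj_inf, cj_centralizer, hVx]
  rw [h3, h4, card_cj, card_cj, card_cj] at h2
  exact h2

/-- **The module.** -/
noncomputable def symK : SymK T H V (V ⊓ centralizer (oddGen H : Set G)) d.k d.m where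
  e := d.e
  mul := by
    intro v hv w hw
    ext i x
    rw [d.e_eq (mul_mem hv hw), VA.mk_mul, map_add, Pi.add_apply, Pi.add_apply, d.e_eq hv,
      d.e_eq hw]
  even := by
    intro v hv i
    rw [Finset.sum_congr rfl fun x _ => d.e_eq hv i x]
    exact d.en.sum_ph i _
  surj := by
    intro y hy
    have h1 := d.en.surj_ph d.out y hy
    refine ⟨VA.val _, VA.val_mem (∑ q : Fin d.k × Fin (2 ^ d.m),
      y q.1 q.2.succ • d.c (d.β q)), ?_⟩
    ext i x
    rw [d.e_eq (VA.val_mem _)]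
    exact h1 i x
  ker := by
    intro v hv
    rw [d.mem_D_iff hv]
    exact ⟨fun h => ⟨hv, h⟩, fun h => h.2⟩
  lift := by
    intro τ
    obtain ⟨g, hg, h1⟩ := d.en.acts_lift d.out τ
    obtain ⟨x, hx, rfl⟩ := d.r_surj g
    refine ⟨x, hx, (d.acts_iff hx 1 τ).mpr h1, fun v hv => ?_⟩
    exact d.comm_D hx hg hv.1 ((d.mem_D_iff hv.1).mpr hv.2)
  perm := by
    intro x hx
    obtain ⟨σ, τ, h1⟩ := d.en.acts_exists d.out (d.r hx)
    exact ⟨σ, τ, (d.acts_iff hx σ τ).mpr h1⟩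
  trans := by
    intro i j
    have hpos : 0 < 2 ^ d.m := Nat.pos_of_ne_zero (by positivity)
    obtain ⟨t, ht, h1⟩ := d.out.transD _ (d.en.mem (i, ⟨0, hpos⟩)) (d.en.notM _) _
      (d.en.mem (j, ⟨0, hpos⟩)) (d.en.notM _)
    obtain ⟨x, hx, hxT, rfl⟩ := d.exists_T ht
    obtain ⟨σ, τ, h2, h0, h3⟩ := d.en.acts_T d.out ht
    refine ⟨x, hxT, σ, τ, (d.acts_iff hx σ τ).mpr h2, ?_⟩
    rcases Fin.eq_zero_or_eq_succ (τ i (Fin.succ ⟨0, hpos⟩)) with h4 | ⟨z, h4⟩
    · exfalso
      have h5 : Fin.succ ⟨0, hpos⟩ = (0 : Fin (2 ^ d.m + 1)) := (τ i).injective (by rw [h4, h0])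
      exact Fin.succ_ne_zero _ h5
    · have h5 := (h3 i ⟨0, hpos⟩ z).mpr h4
      rw [← h1] at h5
      exact (congrArg Prod.fst (d.en.inj h5)).symm
  fix0 := by
    intro t ht σ τ hst i
    have hx : t ∈ H := d.g.syl.1 ht
    obtain ⟨σ', τ', h2, h0, -⟩ := d.en.acts_T d.out (d.r_T hx ht)
    have h3 := d.en.acts_unique d.out ((d.acts_iff hx σ τ).mp hst) h2
    rw [h3.2]
    exact h0 i
  gen := by
    intro K hTK hK x hx
    have hN : (closure d.E).Normal := d.out.normalE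
    have h1 : d.r hx ∈ closure d.E ⊔ (RHyp.Sb d.rh d.S : Subgroup d.rh.range) := by
      rw [← d.out.closureD, d.out.sup_T]
      exact mem_top _
    obtain ⟨n, hn, t, ht, e⟩ := mem_sup_of_normal_left.mp h1
    obtain ⟨s, hs, hsT, rfl⟩ := d.exists_T ht
    have h2 : d.r (mul_mem hx (inv_mem hs)) = n := by
      rw [d.r_mul hx (inv_mem hs), d.r_inv hs, ← e, mul_inv_cancel_right]
    obtain ⟨τ, hτ⟩ := d.acts_E hn
    have h3 : x * s⁻¹ ∈ K := by
      refine hK _ (mul_mem hx (inv_mem hs)) τ ?_ ?_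
      · rw [d.acts_iff (mul_mem hx (inv_mem hs)), h2]
        exact hτ
      · intro v hv
        exact d.comm_D (mul_mem hx (inv_mem hs)) (by rw [h2]; exact hn) hv.1
          ((d.mem_D_iff hv.1).mpr hv.2)
    have h4 : x = x * s⁻¹ * s := by group
    rw [h4]
    exact mul_mem h3 (hTK hsT)
  off := by
    intro A hT hoff
    have hA : A ≤ H := hT.trans d.g.syl.1
    have hcomm : ∀ a ∈ A, ∀ b ∈ A, a * b = b * a := fun a ha b hb => by
      have := hoff.elem.1
      exact congrArg Subtype.val (mul_comm' (⟨a, ha⟩ : A) ⟨b, hb⟩)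
    have hle : Nat.card (VA V d.g.hV) ≤
        Nat.card (d.im hA) * Nat.card (Out.cv (RHyp.rg d.rh) (d.im hA)) := by
      rw [d.card_VA, d.card_cv hA]
      have h1 := hoff.le
      rw [d.card_im hA] at h1
      have h2 : Nat.card V * Nat.card ↥(A ⊓ centralizer (V : Set G)) ≤
          (Nat.card (d.im hA) * Nat.card ↥(V ⊓ centralizer (A : Set G))) *
            Nat.card ↥(A ⊓ centralizer (V : Set G)) := by
        calc _ ≤ _ := h1
          _ = _ := by ring
      exact Nat.le_of_mul_le_mul_right h2 Nat.card_pos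
    have hsub := d.out.off_eq (d.im_T hA hT) (d.im_comm hA hcomm) hle
    constructor
    · intro a ha v hv
      refine d.comm_D (hA ha) ?_ hv.1 ((d.mem_D_iff hv.1).mpr hv.2)
      have h1 : d.r (hA ha) ∈ Out.J0 d.E (RHyp.Sb d.rh d.S) :=
        hsub ((d.mem_im hA).mpr ⟨a, ha, rfl⟩)
      exact (Subgroup.closure_mono (show {e | e ∈ d.E ∧ e ∈ RHyp.Sb d.rh d.S} ⊆ d.E from
        fun _ h2 => h2.1)) h1
    · intro a ha
      obtain ⟨τ, h1, h2⟩ := d.en.off_acts d.out (d.im_T hA hT) (d.im_comm hA hcomm) hle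
        ((d.mem_im hA).mpr ⟨a, ha, rfl⟩)
      refine ⟨τ, (d.acts_iff (hA ha) 1 τ).mpr h1, fun i x hne => ?_⟩
      obtain ⟨h3, b, hb, h4⟩ := h2 i x hne
      refine ⟨h3, ?_⟩
      obtain ⟨b', hb', rfl⟩ := (d.mem_im hA).mp hb
      exact ⟨b', hb', (d.acts_iff (hA hb') 1 _).mpr h4⟩

end Dt

/-! ### `V = zl T H` -/

theorem gset_zl [Finite G] {T H : Subgroup G} (hT : Syl T H) (hm : IsMinPar T H)
    (hc : H ⊓ centralizer (o2 H : Set G) ≤ o2 H) {A : Subgroup G} (hA : A ≤ H)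
    (hne : ¬ A ≤ centralizer (zl T H : Set G)) : GSet T H (zl T H) where
  syl := hT
  min := hm
  hV := by
    have h2 := syl_not_dvd hT
    have h3 : IsPGroup 2 T := hT.2.1
    exact ⟨⟨⟨fun a b => Subtype.ext (zl_comm hT.1 h3 h2 hc _ a.2 _ b.2)⟩⟩,
      zl_sq hT.1 h3 h2 hc⟩
  hn := fun h hh v hv => (mem_normalizer_iff.mp (le_normalizer_zl T H hh) v).mp hv
  cent := o2_le_centralizer_zl hT.1 hT.2.1 (syl_not_dvd hT) hc
  ne := by
    intro h1
    apply hne
    have h2 : H ≤ centralizer (zc T : Set G) := by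
      rw [← h1]
      exact sup_le (inf_le_right.trans (centralizer_le (MinSimple.VModule.zc_le_zl T H)))
        (le_centralizer_zc T)
    have h3 : zl T H ≤ zc T := zl_le le_rfl (h2.trans (centralizer_le_normalizer _))
    exact hA.trans (h2.trans (centralizer_le h3))

theorem gset_of_tv [Finite G] {T H : Subgroup G} (hT : Syl T H) (hm : IsMinPar T H)
    (hc : H ⊓ centralizer (o2 H : Set G) ≤ o2 H)
    (htv : ∃ t ∈ H, Nat.card ↥(zl T H) = 2 * Nat.card ↥(zl T H ⊓ centralizer {t})) :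
    GSet T H (zl T H) := by
  obtain ⟨t, ht, h1⟩ := htv
  refine gset_zl hT hm hc (A := zpowers t) (zpowers_le.mpr ht) fun h2 => ?_
  have h3 : zl T H ⊓ centralizer {t} = zl T H := by
    apply inf_eq_left.mpr
    intro v hv
    rw [mem_centralizer_singleton_iff]
    exact (mem_centralizer_iff.mp (h2 (mem_zpowers t)) v hv)
  rw [h3] at h1
  have h4 : 0 < Nat.card ↥(zl T H) := Nat.card_pos
  omega

/-- **The `q = 2` half.** -/
theorem half [Finite G] {T H : Subgroup G} (hT : Syl T H) (hm : IsMinPar T H)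
    (hc : H ⊓ centralizer (o2 H : Set G) ≤ o2 H)
    (htv : ∃ t ∈ H, Nat.card ↥(zl T H) = 2 * Nat.card ↥(zl T H ⊓ centralizer {t})) :
    NoOver (zl T H) H ∧ ∃ k m : ℕ, 0 < k ∧ 1 ≤ m ∧ Nonempty (SymK T H (zl T H) (cv T H) k m) := by
  obtain ⟨d⟩ := exists_dt (gset_of_tv hT hm hc htv) htv
  exact ⟨d.noOver, d.k, d.m, d.en.k_pos, d.en.m_pos, ⟨d.symK⟩⟩

end Cfsg.Agent.Omega.Tv
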